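import Mathlib.Data.Nat.Basic

/-! Words packed into a number. -/

set_option autoImplicit false

namespace Cfsg.Agent.L0

/-- the first `len` digits of `b` bits (mask `m`), lowest first -/
noncomputable def dw (b m len : ℕ) : ℕ → List ℕ :=
  Nat.rec (motive := fun _ => ℕ → List ℕ) (fun _ => [])
    (fun _ ih n => Nat.rec (motive := fun _ => List ℕ) [] (fun y _ =>
      Nat.rec (motive := fun _ => List ℕ) [] (fun n' _ => y :: ih n')
        (Nat.succ (Nat.shiftRight n b))) (Nat.succ (Nat.land n m))) len

end Cfsg.Agent.L0
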