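import Cfsg.Agent.L0.CosetCert

/-! Order bounds along a chain of subgroups generated by letters. -/

set_option autoImplicit false

namespace Cfsg.Agent.L0

universe u

/-- the subgroup generated by the letters of `l` -/
def genL {Γ : Type u} [Group Γ] (x : ℕ → Γ) (l : List ℕ) : Subgroup Γ :=
  Subgroup.closure (x '' {y | y ∈ l})

theorem mem_genL {Γ : Type u} [Group Γ] (x : ℕ → Γ) {l : List ℕ} {y : ℕ} (h : y ∈ l) :
    x y ∈ genL x l := Subgroup.subset_closure ⟨y, h, rfl⟩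

theorem genL_le {Γ : Type u} [Group Γ] {x : ℕ → Γ} {l : List ℕ} {K : Subgroup Γ}
    (h : ∀ y ∈ l, x y ∈ K) : genL x l ≤ K := by
  rw [genL, Subgroup.closure_le]; rintro _ ⟨y, hy, rfl⟩; exact h y hy

/-- the subgroup generated by the letters of `l` is finite of order at most `n` -/
def CardLe {Γ : Type u} [Group Γ] (x : ℕ → Γ) (l : List ℕ) (n : ℕ) : Prop :=
  Finite (genL x l) ∧ Nat.card (genL x l) ≤ n

theorem cardLe_nil {Γ : Type u} [Group Γ] (x : ℕ → Γ) : CardLe x [] 1 := by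
  have : genL x [] = ⊥ := le_bot_iff.mp (genL_le (by simp))
  rw [CardLe, this]
  exact ⟨inferInstance, by simp⟩

theorem cardLe_of_le {Γ : Type u} [Group Γ] {x : ℕ → Γ} {l : List ℕ} {K : Subgroup Γ} [Finite K]
    {n : ℕ} (h : ∀ y ∈ l, x y ∈ K) (hn : Nat.card K ≤ n) : CardLe x l n :=
  ⟨Finite.of_injective _ (Subgroup.inclusion_injective (genL_le h)),
    (Subgroup.card_le_of_le (genL_le h)).trans hn⟩

theorem CardLe.mono {Γ : Type u} [Group Γ] {x x' : ℕ → Γ} {l l' : List ℕ} {n : ℕ}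
    (h : CardLe x l n) (h' : ∀ y ∈ l', x' y ∈ genL x l) : CardLe x' l' n :=
  haveI := h.1
  cardLe_of_le h' h.2

theorem CardLe.top {Γ : Type u} [Group Γ] {x : ℕ → Γ} {l : List ℕ} {n : ℕ} (h : CardLe x l n)
    (ht : genL x l = ⊤) : Finite Γ ∧ Nat.card Γ ≤ n := by
  rw [CardLe, ht] at h
  exact ⟨haveI := h.1; Finite.of_equiv _ Subgroup.topEquiv.toEquiv, by simpa using h.2⟩

theorem PG.genL_range (k : ℕ) (R : List (List ℕ)) : genL (PG.gen k R) (List.range k) = ⊤ :=
  PG.eq_top_of_gen_mem _ fun y hy => mem_genL _ (List.mem_range.mpr hy)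

theorem Cert.cardLe {T : CT} {R : List (List ℕ)} {sl : List ℕ} {w0 w : ℕ} {gl : List ℕ}
    (h : Cert T (R.map fun r => (r, 0)) (sl.map fun y => (y, 0)) w0 w gl) {N : ℕ} (hN : T.nl = N)
    {Γ : Type u} [Group Γ] {x : ℕ → Γ} (hR : ∀ r ∈ R, ev x r = 1) {n : ℕ} (hK : CardLe x sl n) :
    CardLe x gl (N * n) := by
  haveI := hK.1
  have hd : ∀ a, dec T.ds ([] : List Γ) a = 1 := fun a => by cases T.ds <;> rfl
  have hok := h.ok (C := ⊥) (zs := []) (K := genL x sl) (x := x) bot_le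
    (by cases T.ds <;> trivial)
    (fun p hp => by
      obtain ⟨r, hr, rfl⟩ := List.mem_map.mp hp
      rw [hd, hR r hr]; exact Eqv.refl _)
    (fun p hp => by
      obtain ⟨y, hy, rfl⟩ := List.mem_map.mp hp
      rw [hd]; simpa [Eqv] using mem_genL x hy)
  have e : Subgroup.closure ((fun o => x (ofOff w0 w o)) '' {o | o ∈ T.gens}) = genL x gl := by
    rw [h.gens, genL]
    congr 1
    ext g
    simp only [Set.mem_image, Set.mem_ofPred_eq, List.mem_map]
    constructor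
    · rintro ⟨o, ⟨y, hy, rfl⟩, rfl⟩
      exact ⟨y, hy, by rw [ofOff_toOff h.wpos]⟩
    · rintro ⟨y, hy, rfl⟩
      exact ⟨_, ⟨y, hy, rfl⟩, by rw [ofOff_toOff h.wpos]⟩
  have hc : ∀ γ : genL x gl, ∃ c < T.nl, Eqv (genL x sl) γ.val
      (T.rep (fun o => x (ofOff w0 w o)) c) := fun γ =>
    hok.cover (CT.static_of h.stat) le_rfl (fun a => by rw [hd]; exact one_mem _) (by rw [e]; exact γ.prop)
  choose c hc1 hc2 using hc
  let F : genL x gl → Fin T.nl × genL x sl := fun γ => (⟨c γ, hc1 γ⟩, ⟨_, hc2 γ⟩)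
  have hF : Function.Injective F := by
    intro a b hab
    have h1 : c a = c b := congrArg (fun q => q.1.val) hab
    have h2 : a.val * (T.rep _ (c a))⁻¹ = b.val * (T.rep _ (c b))⁻¹ :=
      congrArg (fun q => q.2.val) hab
    rw [h1] at h2
    exact Subtype.ext (mul_right_cancel h2)
  refine ⟨Finite.of_injective F hF, ?_⟩
  have := Nat.card_le_card_of_injective F hF
  rw [Nat.card_prod, Nat.card_fin, hN] at this
  exact this.trans (Nat.mul_le_mul_left _ hK.2)

theorem Cert.mem_genL {T : CT} {R : List (List ℕ)} {sl : List ℕ} {w0 w : ℕ} {gl : List ℕ}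
    (h : Cert T (R.map fun r => (r, 0)) (sl.map fun y => (y, 0)) w0 w gl)
    {Γ : Type u} [Group Γ] {x : ℕ → Γ} (hR : ∀ r ∈ R, ev x r = 1) {U : List (List ℕ)}
    (hU : allL U (fun u => Cert.traceB T w0 w u 0 0) = true) : ∀ u ∈ U, ev x u ∈ genL x sl := by
  have hd : ∀ a, dec T.ds ([] : List Γ) a = 1 := fun a => by cases T.ds <;> rfl
  have hz : ZOk (⊥ : Subgroup Γ) T.ds [] := by cases T.ds <;> trivial
  have hok := h.ok (C := ⊥) (zs := []) (K := genL x sl) (x := x) bot_le hz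
    (fun p hp => by
      obtain ⟨r, hr, rfl⟩ := List.mem_map.mp hp
      rw [hd, hR r hr]; exact Eqv.refl _)
    (fun p hp => by
      obtain ⟨y, hy, rfl⟩ := List.mem_map.mp hp
      rw [hd]; simpa [Eqv] using L0.mem_genL x hy)
  intro u hu
  obtain ⟨t, h1, h2⟩ := h.trace bot_le hz hok ((allL_iff _ _).mp hU u hu)
  rw [h1 rfl, hd] at h2
  simpa [Eqv] using h2

theorem eq_one_of_mem_genL_nil {Γ : Type u} [Group Γ] {x : ℕ → Γ} {g : Γ} (h : g ∈ genL x []) :
    g = 1 := by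
  have : genL x [] = ⊥ := le_bot_iff.mp (genL_le (by simp))
  rwa [this, Subgroup.mem_bot] at h

/-- relators taken from a larger list -/
theorem rel_sub {Γ : Type u} [Group Γ] {x : ℕ → Γ} {R R' : List (List ℕ)}
    (h : ∀ r ∈ R, ev x r = 1) (hs : (R'.all fun r => R.contains r) = true) :
    ∀ r ∈ R', ev x r = 1 := fun r hr =>
  h r (by simpa using List.all_eq_true.mp hs r hr)

end Cfsg.Agent.L0
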