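import Cfsg.Agent.L0.Coset

/-! Right actions on numbered points, tables, stabiliser chains and the base test. -/

set_option autoImplicit false

namespace Cfsg.Agent.L0

universe u v

/-- a right action of `G` on the numbers below `N` -/
structure RAct (G : Type u) [Group G] (N : ℕ) where
  act : ℕ → G → ℕ
  lt : ∀ {c : ℕ} (x : G), c < N → act c x < N
  one : ∀ {c : ℕ}, c < N → act c 1 = c
  mul : ∀ {c : ℕ} (x y : G), c < N → act c (x * y) = act (act c x) y

/-- trace the word `w` from the point `c` through the table `T` (`T c i` = image of `c` under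
letter `i`) -/
noncomputable def tr (T : ℕ → ℕ → ℕ) (w : List ℕ) : ℕ → ℕ :=
  List.rec (motive := fun _ => ℕ → ℕ) (fun c => c)
    (fun i _ ih c => Nat.rec (motive := fun _ => ℕ) 0 (fun d _ => ih d) (Nat.succ (T c i))) w

theorem tr_nil (T : ℕ → ℕ → ℕ) (c : ℕ) : tr T [] c = c := rfl
theorem tr_cons (T : ℕ → ℕ → ℕ) (i : ℕ) (w : List ℕ) (c : ℕ) :
    tr T (i :: w) c = tr T w (T c i) := rfl
theorem tr_append (T : ℕ → ℕ → ℕ) (w w' : List ℕ) (c : ℕ) :
    tr T (w ++ w') c = tr T w' (tr T w c) := by
  induction w generalizing c with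
  | nil => rfl
  | cons i w ih => rw [List.cons_append, tr_cons, tr_cons, ih]

/-- word number `j` of the list, `[]` if there is none -/
noncomputable def nthW (W : List (List ℕ)) (j : ℕ) : List ℕ :=
  List.rec (motive := fun _ => List ℕ) [] (fun a _ _ => a) (dropN W j)

theorem nthW_mem (W : List (List ℕ)) (j : ℕ) : nthW W j = [] ∨ nthW W j ∈ W := by
  unfold nthW
  cases hd : dropN W j with
  | nil => exact Or.inl rfl
  | cons p t => exact Or.inr (mem_of_dropN hd)

theorem dropN_eq {α : Type} (l : List α) (j : ℕ) : dropN l j = l.drop j := by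
  induction l generalizing j with
  | nil => rw [List.drop_nil]; rfl
  | cons a l ih =>
    cases j with
    | zero => rfl
    | succ j => exact ih j

theorem nthW_eq (W : List (List ℕ)) (j : ℕ) : nthW W j = W.getD j [] := by
  unfold nthW
  rw [dropN_eq]
  induction W generalizing j with
  | nil => rw [List.drop_nil]; rfl
  | cons a W ih =>
    cases j with
    | zero => rfl
    | succ j => exact ih j

/-- the table of the words `W`, numbered -/
noncomputable def dT (T : ℕ → ℕ → ℕ) (W : List (List ℕ)) (c j : ℕ) : ℕ := tr T (nthW W j) c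

/-- the values of the words `W`, numbered -/
noncomputable def dG {G : Type u} [Monoid G] (g : ℕ → G) (W : List (List ℕ)) (j : ℕ) : G :=
  ev g (nthW W j)

theorem dG_mem {G : Type u} [Group G] {g : ℕ → G} {W : List (List ℕ)} {H : Subgroup G}
    (h : ∀ w ∈ W, ev g w ∈ H) (j : ℕ) : dG g W j ∈ H := by
  unfold dG
  rcases nthW_mem W j with h1 | h1
  · rw [h1]; exact H.one_mem
  · exact h _ h1

/-- a table read from packed rows with `w` bits per entry -/
noncomputable def pT (row : ℕ → ℕ) (w m c i : ℕ) : ℕ :=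
  Nat.land (Nat.shiftRight (row c) (Nat.mul w i)) m

/-- fast check that all letters are below `k` -/
noncomputable def lettersB (k : ℕ) (W : List (List ℕ)) : Bool :=
  allL W fun w => allL w fun y => Nat.blt y k

theorem lettersB_spec {k : ℕ} {W : List (List ℕ)} (h : lettersB k W = true) :
    ∀ w ∈ W, ∀ y ∈ w, y < k := fun w hw y hy => by
  have := (allL_iff _ _).mp ((allL_iff _ _).mp h w hw) y hy
  simpa [Nat.blt_eq] using this

theorem lettersLt_of_B {k : ℕ} {W : List (List ℕ)} (h : lettersB k W = true) :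
    lettersLt k W = true := lettersLt_iff.mpr (lettersB_spec h)

namespace RAct
variable {G : Type u} [Group G] {N : ℕ} (A : RAct G N)

theorem act_inv {c : ℕ} (x : G) (hc : c < N) : A.act (A.act c x) x⁻¹ = c := by
  rw [← A.mul _ _ hc, mul_inv_cancel, A.one hc]

theorem inv_act {c : ℕ} (x : G) (hc : c < N) : A.act (A.act c x⁻¹) x = c := by
  rw [← A.mul _ _ hc, inv_mul_cancel, A.one hc]

theorem act_inj {c d : ℕ} (x : G) (hc : c < N) (hd : d < N) (h : A.act c x = A.act d x) :
    c = d := by
  rw [← A.act_inv x hc, h, A.act_inv x hd]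

theorem act_inv_eq {c d : ℕ} {x : G} (hc : c < N) (h : A.act c x = d) : A.act d x⁻¹ = c := by
  rw [← h, A.act_inv x hc]

/-- pull back along a homomorphism -/
def comap {H : Type v} [Group H] (f : H →* G) : RAct H N where
  act c x := A.act c (f x)
  lt _ hc := A.lt _ hc
  one hc := by rw [map_one, A.one hc]
  mul x y hc := by rw [map_mul, A.mul _ _ hc]

/-- push forward along a surjection whose kernel acts trivially -/
noncomputable def descend {H : Type v} [Group H] (f : G →* H) (hf : Function.Surjective f)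
    (hk : ∀ x, f x = 1 → ∀ c < N, A.act c x = c) : RAct H N where
  act c y := A.act c (Function.surjInv hf y)
  lt _ hc := A.lt _ hc
  one hc := hk _ (Function.surjInv_eq hf 1) _ hc
  mul := by
    intro c x y hc
    rw [← A.mul _ _ hc]
    have h1 : f (Function.surjInv hf (x * y) *
        (Function.surjInv hf x * Function.surjInv hf y)⁻¹) = 1 := by
      simp [Function.surjInv_eq hf]
    have h2 := hk _ h1 c hc
    calc A.act c (Function.surjInv hf (x * y))
        = A.act c (Function.surjInv hf (x * y) * (Function.surjInv hf x * Function.surjInv hf y)⁻¹ *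
            (Function.surjInv hf x * Function.surjInv hf y)) := by rw [inv_mul_cancel_right]
      _ = _ := by rw [A.mul _ _ hc, h2]

theorem descend_act {H : Type v} [Group H] (f : G →* H) (hf : Function.Surjective f)
    (hk : ∀ x, f x = 1 → ∀ c < N, A.act c x = c) {c : ℕ} (hc : c < N) (x : G) :
    (A.descend f hf hk).act c (f x) = A.act c x := by
  change A.act c (Function.surjInv hf (f x)) = _
  have h1 : f (Function.surjInv hf (f x) * x⁻¹) = 1 := by simp [Function.surjInv_eq hf]
  calc A.act c (Function.surjInv hf (f x)) = A.act c (Function.surjInv hf (f x) * x⁻¹ * x) := by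
        rw [inv_mul_cancel_right]
    _ = _ := by rw [A.mul _ _ hc, hk _ h1 c hc]

/-- the elements fixing every point of the list -/
def fixL (l : List ℕ) : Subgroup G where
  carrier := {x | ∀ c ∈ l, c < N → A.act c x = c}
  one_mem' := fun _ _ hc => A.one hc
  mul_mem' := by
    intro x y hx hy c hl hc
    rw [A.mul _ _ hc, hx c hl hc, hy c hl hc]
  inv_mem' := by
    intro x hx c hl hc
    exact A.act_inv_eq hc (hx c hl hc)

theorem mem_fixL {l : List ℕ} {x : G} : x ∈ A.fixL l ↔ ∀ c ∈ l, c < N → A.act c x = c := Iff.rfl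

theorem fixL_nil : A.fixL [] = ⊤ := by
  rw [eq_top_iff]; intro x _ c hc; simp at hc

theorem mem_fixL_cons {b : ℕ} {l : List ℕ} {x : G} (hb : b < N) :
    x ∈ A.fixL (b :: l) ↔ A.act b x = b ∧ x ∈ A.fixL l := by
  simp only [mem_fixL, List.mem_cons, forall_eq_or_imp]
  exact ⟨fun h => ⟨h.1 hb, h.2⟩, fun h => ⟨fun _ => h.1, h.2⟩⟩

/-- the elements mapping a set of points into itself -/
def keep (s : Set ℕ) (hs : ∀ c ∈ s, c < N) : Subgroup G where
  carrier := {x | ∀ c ∈ s, A.act c x ∈ s}
  one_mem' := fun c hc => by rw [A.one (hs c hc)]; exact hc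
  mul_mem' := by
    intro x y hx hy c hc
    rw [A.mul _ _ (hs c hc)]; exact hy _ (hx c hc)
  inv_mem' := by
    intro x hx c hc
    have hfin : s.Finite := (Set.finite_lt_nat N).subset hs
    have hm : Set.MapsTo (fun d => A.act d x) s s := hx
    have hi : Set.InjOn (fun d => A.act d x) s := fun a ha b hb h => A.act_inj x (hs a ha) (hs b hb) h
    obtain ⟨d, hd, h⟩ := ((hfin.injOn_iff_bijOn_of_mapsTo hm).mp hi).surjOn hc
    rw [A.act_inv_eq (hs d hd) h]; exact hd

theorem mem_keep {s : Set ℕ} {hs : ∀ c ∈ s, c < N} {x : G} :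
    x ∈ A.keep s hs ↔ ∀ c ∈ s, A.act c x ∈ s := Iff.rfl

/-- `T` is the table of the letters below `k` -/
def Tab (g : ℕ → G) (k : ℕ) (T : ℕ → ℕ → ℕ) : Prop := ∀ i < k, ∀ c < N, A.act c (g i) = T c i

variable {A}

theorem Tab.act_ev {g : ℕ → G} {k : ℕ} {T : ℕ → ℕ → ℕ} (h : A.Tab g k T) {w : List ℕ}
    (hw : ∀ y ∈ w, y < k) {c : ℕ} (hc : c < N) : A.act c (ev g w) = tr T w c := by
  induction w generalizing c with
  | nil => exact A.one hc
  | cons i w ih =>
    have hi := h i (hw i (by simp)) c hc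
    rw [ev_cons, A.mul _ _ hc, tr_cons, ← hi]
    exact ih (fun y hy => hw y (by simp [hy])) (A.lt _ hc)

theorem Tab.derive {g : ℕ → G} {k : ℕ} {T : ℕ → ℕ → ℕ} (h : A.Tab g k T) {W : List (List ℕ)}
    (hW : lettersB k W = true) (k' : ℕ) : A.Tab (dG g W) k' (dT T W) := by
  intro i _ c hc
  refine h.act_ev (fun y hy => ?_) hc
  rcases nthW_mem W i with h1 | h1
  · rw [h1] at hy; simp at hy
  · exact lettersB_spec hW _ h1 y hy

theorem Tab.act_ev_derive {g : ℕ → G} {k : ℕ} {T : ℕ → ℕ → ℕ} (h : A.Tab g k T)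
    {W : List (List ℕ)} (hW : lettersB k W = true) (w : List ℕ) {c : ℕ} (hc : c < N) :
    A.act c (ev (dG g W) w) = tr (dT T W) w c :=
  (h.derive hW (w.sum + 1)).act_ev
    (fun _ hy => Nat.lt_succ_of_le (List.single_le_sum (fun _ _ => Nat.zero_le _) _ hy)) hc

theorem Tab.comap {H : Type v} [Group H] (f : H →* G) {g : ℕ → H} {k : ℕ} {T : ℕ → ℕ → ℕ}
    (h : A.Tab (fun i => f (g i)) k T) : (A.comap f).Tab g k T := h

theorem Tab.descend {H : Type v} [Group H] (f : G →* H) (hf : Function.Surjective f)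
    (hk : ∀ x, f x = 1 → ∀ c < N, A.act c x = c) {g : ℕ → G} {k : ℕ} {T : ℕ → ℕ → ℕ}
    (h : A.Tab g k T) : (A.descend f hf hk).Tab (fun i => f (g i)) k T := fun i hi c hc => by
  rw [A.descend_act f hf hk hc, h i hi c hc]

/-- every word of `S` fixes every point of `l` -/
noncomputable def fixB (T : ℕ → ℕ → ℕ) (S : List (List ℕ)) (l : List ℕ) : Bool :=
  allL S fun w => allL l fun b => Nat.beq (tr T w b) b

theorem Tab.mem_fixL {g : ℕ → G} {k : ℕ} {T : ℕ → ℕ → ℕ} (h : A.Tab g k T) {S : List (List ℕ)}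
    (hS : lettersB k S = true) {l : List ℕ} (hf : fixB T S l = true) :
    ∀ w ∈ S, ev g w ∈ A.fixL l := fun w hw c hl hc => by
  rw [h.act_ev (lettersB_spec hS w hw) hc]
  exact Nat.eq_of_beq_eq_true ((allL_iff _ _).mp ((allL_iff _ _).mp hf w hw) c hl)

/-! ### constructions -/

/-- the action through a homomorphism to the permutations of `Fin N` -/
def ofHom (ρ : G →* Equiv.Perm (Fin N)) : RAct G N where
  act c x := if h : c < N then ((ρ x)⁻¹ ⟨c, h⟩).val else c
  lt x hc := by rw [dif_pos hc]; exact Fin.is_lt _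
  one hc := by rw [dif_pos hc]; simp
  mul x y hc := by
    rw [dif_pos hc, dif_pos hc, dif_pos (Fin.is_lt _)]; simp

theorem ofHom_act (ρ : G →* Equiv.Perm (Fin N)) {c : ℕ} (hc : c < N) (x : G) :
    (ofHom ρ).act c x = ((ρ x)⁻¹ ⟨c, hc⟩).val := dif_pos hc

theorem ofHom_eq_one (ρ : G →* Equiv.Perm (Fin N)) {x : G}
    (h : ∀ c < N, (ofHom ρ).act c x = c) : ρ x = 1 := by
  rw [← inv_eq_one]
  ext c
  have := h c.val c.is_lt
  rw [ofHom_act ρ c.is_lt] at this
  simpa using this

/-- the action on a finite invariant family of points `v c` of a `G`-set -/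
noncomputable def ofEmb {X : Type v} [MulAction G X] (v : ℕ → X)
    (hinj : ∀ c < N, ∀ d < N, v c = v d → c = d)
    (hcl : ∀ x : G, ∀ c < N, ∃ d < N, x • v d = v c) : RAct G N where
  act c x := if h : c < N then (hcl x c h).choose else c
  lt x hc := by rw [dif_pos hc]; exact (hcl x _ hc).choose_spec.1
  one := by
    intro c hc
    rw [dif_pos hc]
    have := (hcl 1 c hc).choose_spec
    exact hinj _ this.1 _ hc (by simpa using this.2)
  mul := by
    intro c x y hc
    have h1 := (hcl x c hc).choose_spec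
    have h2 := (hcl y _ h1.1).choose_spec
    have h3 := (hcl (x * y) c hc).choose_spec
    rw [dif_pos hc, dif_pos hc, dif_pos h1.1]
    refine hinj _ h3.1 _ h2.1 (MulAction.injective (x * y) ?_)
    simp only
    rw [h3.2, mul_smul, h2.2, h1.2]

theorem ofEmb_spec {X : Type v} [MulAction G X] (v : ℕ → X)
    (hinj : ∀ c < N, ∀ d < N, v c = v d → c = d)
    (hcl : ∀ x : G, ∀ c < N, ∃ d < N, x • v d = v c) (x : G) {c : ℕ} (hc : c < N) :
    x • v ((ofEmb v hinj hcl).act c x) = v c := by
  change x • v (if h : c < N then (hcl x c h).choose else c) = v c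
  rw [dif_pos hc]; exact (hcl x c hc).choose_spec.2

theorem ofEmb_act {X : Type v} [MulAction G X] (v : ℕ → X)
    (hinj : ∀ c < N, ∀ d < N, v c = v d → c = d)
    (hcl : ∀ x : G, ∀ c < N, ∃ d < N, x • v d = v c) {x : G} {c d : ℕ} (hc : c < N) (hd : d < N)
    (h : x • v d = v c) : (ofEmb v hinj hcl).act c x = d :=
  hinj _ ((ofEmb v hinj hcl).lt x hc) _ hd
    (MulAction.injective x (by simp only; rw [ofEmb_spec v hinj hcl x hc, h]))

/-- a family of points closed under a generating set is closed under the group generated -/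
theorem emb_closed {X : Type v} [MulAction G X] (v : ℕ → X)
    (hinj : ∀ c < N, ∀ d < N, v c = v d → c = d) (s : Set G)
    (hs : ∀ x ∈ s, ∀ c < N, ∃ d < N, x • v d = v c) :
    ∀ x ∈ Subgroup.closure s, ∀ c < N, ∃ d < N, x • v d = v c := by
  intro x hx
  induction hx using Subgroup.closure_induction with
  | mem x hx => exact hs x hx
  | one => intro c hc; exact ⟨c, hc, one_smul _ _⟩
  | mul x y _ _ hx hy =>
    intro c hc
    obtain ⟨d, hd, h1⟩ := hx c hc
    obtain ⟨e, he, h2⟩ := hy d hd
    exact ⟨e, he, by rw [mul_smul, h2, h1]⟩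
  | inv x _ hx =>
    choose f hf1 hf2 using hx
    let F : Fin N → Fin N := fun c => ⟨f c.val c.is_lt, hf1 _ _⟩
    have hF : Function.Injective F := by
      intro a b h
      have h' : f a.val a.is_lt = f b.val b.is_lt := congrArg Fin.val h
      refine Fin.ext (hinj _ a.is_lt _ b.is_lt ?_)
      rw [← hf2 a.val a.is_lt, ← hf2 b.val b.is_lt, h']
    intro c hc
    obtain ⟨d, hd⟩ := Finite.surjective_of_injective hF ⟨c, hc⟩
    refine ⟨d.val, d.is_lt, ?_⟩
    have h' : f d.val d.is_lt = c := congrArg Fin.val hd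
    rw [← hf2 d.val d.is_lt, h', inv_smul_smul]

/-! ### stabiliser chains -/

variable (A) in
/-- every point of `s` is moved to `β` by an element of `H` fixing the points of `pre` -/
def Lev (H : Subgroup G) (pre : List ℕ) (β : ℕ) (s : Finset ℕ) : Prop :=
  β < N ∧ ∀ c ∈ s, c < N ∧ ∃ x ∈ H ⊓ A.fixL pre, A.act c x = β

theorem Lev.card_le [Finite G] {H : Subgroup G} {pre : List ℕ} {β : ℕ} {s : Finset ℕ}
    (h : A.Lev H pre β s) :
    s.card * Nat.card ↥(H ⊓ A.fixL (β :: pre)) ≤ Nat.card ↥(H ⊓ A.fixL pre) := by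
  obtain ⟨hβ, h⟩ := h
  choose hlt x hx hxa using h
  let F : s × ↥(H ⊓ A.fixL (β :: pre)) → ↥(H ⊓ A.fixL pre) := fun p =>
    ⟨p.2.val * (x p.1.val p.1.prop)⁻¹, Subgroup.mul_mem _
      ⟨p.2.prop.1, ((A.mem_fixL_cons hβ).mp p.2.prop.2).2⟩ (Subgroup.inv_mem _ (hx _ _))⟩
  have key : ∀ p, A.act β (F p).val = p.1.val := fun p => by
    change A.act β (p.2.val * (x p.1.val p.1.prop)⁻¹) = _
    rw [A.mul _ _ hβ, ((A.mem_fixL_cons hβ).mp p.2.prop.2).1]
    exact A.act_inv_eq (hlt _ p.1.prop) (hxa _ _)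
  have hF : Function.Injective F := by
    rintro ⟨a, y⟩ ⟨b, z⟩ hab
    have h1 : a = b := Subtype.ext (by
      have := key (a, y); rw [hab, key (b, z)] at this; exact this.symm)
    subst h1
    have h2 : y.val * (x a.val a.prop)⁻¹ = z.val * (x a.val a.prop)⁻¹ := congrArg Subtype.val hab
    rw [Subtype.ext (mul_right_cancel h2)]
  have := Nat.card_le_card_of_injective F hF
  rwa [Nat.card_prod, Nat.card_eq_fintype_card, Fintype.card_coe] at this

variable (A) in
/-- a stabiliser chain below the fixed points `pre` -/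
def Chain (H : Subgroup G) : List ℕ → List (ℕ × Finset ℕ) → Prop
  | _, [] => True
  | pre, p :: l => A.Lev H pre p.1 p.2 ∧ Chain H (p.1 :: pre) l

/-- the product of the orbit sizes -/
def chainProd (l : List (ℕ × Finset ℕ)) : ℕ := (l.map fun p => p.2.card).prod

theorem Chain.card_le [Finite G] {H : Subgroup G} {l : List (ℕ × Finset ℕ)} :
    ∀ {pre : List ℕ}, A.Chain H pre l →
      chainProd l * Nat.card ↥(H ⊓ A.fixL ((l.map Prod.fst).reverse ++ pre)) ≤
        Nat.card ↥(H ⊓ A.fixL pre) := by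
  induction l with
  | nil => intro pre _; simp [chainProd]
  | cons p l ih =>
    intro pre h
    have h1 := ih h.2
    have h2 := h.1.card_le
    have e : ((p :: l).map Prod.fst).reverse ++ pre = (l.map Prod.fst).reverse ++ p.1 :: pre := by
      simp
    rw [e]
    calc chainProd (p :: l) * _ = p.2.card * (chainProd l * _) := by
          simp only [chainProd, List.map_cons, List.prod_cons, mul_assoc]
      _ ≤ _ := (Nat.mul_le_mul_left _ h1).trans h2

theorem Chain.prod_le [Finite G] {H : Subgroup G} {l : List (ℕ × Finset ℕ)} {pre : List ℕ}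
    (h : A.Chain H pre l) : chainProd l ≤ Nat.card ↥(H ⊓ A.fixL pre) :=
  (Nat.le_mul_of_pos_right _ Nat.card_pos).trans h.card_le

theorem Chain.prod_le_card [Finite G] {H : Subgroup G} {l : List (ℕ × Finset ℕ)}
    (h : A.Chain H [] l) : chainProd l ≤ Nat.card H := by
  have := h.prod_le
  rwa [fixL_nil, inf_top_eq] at this

/-- base test -/
theorem Chain.base [Finite G] {H : Subgroup G} {l : List (ℕ × Finset ℕ)} {pre : List ℕ}
    (h : A.Chain H pre l) (hc : Nat.card ↥(H ⊓ A.fixL pre) ≤ chainProd l) {x : G} (hx : x ∈ H)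
    (hp : x ∈ A.fixL pre) (hb : x ∈ A.fixL (l.map Prod.fst)) : x = 1 := by
  have h1 := h.card_le.trans hc
  have hpos : 0 < chainProd l := lt_of_lt_of_le Nat.card_pos hc
  have h2 : Nat.card ↥(H ⊓ A.fixL ((l.map Prod.fst).reverse ++ pre)) ≤ 1 := by
    by_contra h3
    have : chainProd l * 2 ≤ chainProd l := (Nat.mul_le_mul_left _ (by omega)).trans h1
    omega
  have h4 : H ⊓ A.fixL ((l.map Prod.fst).reverse ++ pre) = ⊥ :=
    Subgroup.eq_bot_of_card_le _ h2
  have : x ∈ H ⊓ A.fixL ((l.map Prod.fst).reverse ++ pre) := ⟨hx, fun c hl hc => by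
    rcases List.mem_append.mp hl with h5 | h5
    · exact hb c (List.mem_reverse.mp h5) hc
    · exact hp c h5 hc⟩
  rwa [h4, Subgroup.mem_bot] at this

/-- in an exact chain the tail is exact -/
theorem Chain.tail_exact [Finite G] {H : Subgroup G} {p : ℕ × Finset ℕ}
    {l : List (ℕ × Finset ℕ)} {pre : List ℕ} (h : A.Chain H pre (p :: l))
    (hc : Nat.card ↥(H ⊓ A.fixL pre) ≤ chainProd (p :: l)) :
    Nat.card ↥(H ⊓ A.fixL (p.1 :: pre)) ≤ chainProd l := by
  have h1 := h.1.card_le.trans hc
  have e : chainProd (p :: l) = p.2.card * chainProd l := by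
    simp only [chainProd, List.map_cons, List.prod_cons]
  have hpos : 0 < chainProd (p :: l) := lt_of_lt_of_le Nat.card_pos hc
  rw [e] at h1 hpos
  exact Nat.le_of_mul_le_mul_left h1 (Nat.pos_of_mul_pos_right hpos)

/-- in an exact chain the first set is the whole orbit -/
theorem Chain.orbit_mem [Finite G] {H : Subgroup G} {p : ℕ × Finset ℕ}
    {l : List (ℕ × Finset ℕ)} {pre : List ℕ} (h : A.Chain H pre (p :: l))
    (hc : Nat.card ↥(H ⊓ A.fixL pre) ≤ chainProd (p :: l)) {x : G} (hx : x ∈ H ⊓ A.fixL pre) :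
    A.act p.1 x ∈ p.2 := by
  classical
  by_contra hn
  have hl : A.Lev H pre p.1 (insert (A.act p.1 x) p.2) := ⟨h.1.1, fun c hc => by
    rcases Finset.mem_insert.mp hc with rfl | h1
    · exact ⟨A.lt _ h.1.1, x⁻¹, Subgroup.inv_mem _ hx, A.act_inv _ h.1.1⟩
    · exact h.1.2 c h1⟩
  have h1 := hl.card_le.trans hc
  have h2 := h.2.prod_le
  have e : chainProd (p :: l) = p.2.card * chainProd l := by
    simp only [chainProd, List.map_cons, List.prod_cons]
  have hpos : 0 < chainProd (p :: l) := lt_of_lt_of_le Nat.card_pos hc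
  rw [e] at h1 hpos
  rw [Finset.card_insert_of_notMem hn] at h1
  have h3 := (Nat.mul_le_mul_left (p.2.card + 1) h2).trans h1
  have h4 := Nat.pos_of_mul_pos_left hpos
  nlinarith

/-- in an exact chain the first set is invariant -/
theorem Chain.orbit_inv [Finite G] {H : Subgroup G} {p : ℕ × Finset ℕ}
    {l : List (ℕ × Finset ℕ)} {pre : List ℕ} (h : A.Chain H pre (p :: l))
    (hc : Nat.card ↥(H ⊓ A.fixL pre) ≤ chainProd (p :: l)) {x : G} (hx : x ∈ H ⊓ A.fixL pre)
    {c : ℕ} (hcs : c ∈ p.2) : A.act c x ∈ p.2 := by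
  obtain ⟨hlt, y, hy, hya⟩ := h.1.2 c hcs
  have := h.orbit_mem hc (Subgroup.mul_mem _ (Subgroup.inv_mem _ hy) hx)
  rwa [A.mul _ _ h.1.1, A.act_inv_eq hlt hya] at this

/-- a subgroup carrying the same chain is the whole stabiliser -/
theorem Chain.eq_of_exact [Finite G] {H K : Subgroup G} {l : List (ℕ × Finset ℕ)} {pre : List ℕ}
    (h : A.Chain K pre l) (hK : K ≤ H ⊓ A.fixL pre)
    (hc : Nat.card ↥(H ⊓ A.fixL pre) ≤ chainProd l) : K = H ⊓ A.fixL pre := by
  refine Subgroup.eq_of_le_of_card_ge hK (hc.trans (h.prod_le.trans ?_))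
  exact Subgroup.card_le_of_le inf_le_left

theorem Chain.eq_top [Finite G] {K : Subgroup G} {l : List (ℕ × Finset ℕ)}
    (h : A.Chain K [] l) (hc : Nat.card G ≤ chainProd l) : K = ⊤ :=
  Subgroup.eq_top_of_le_card _ (hc.trans h.prod_le_card)

theorem Chain.card_eq [Finite G] {l : List (ℕ × Finset ℕ)}
    (h : A.Chain ⊤ [] l) (hc : Nat.card G ≤ chainProd l) : Nat.card G = chainProd l :=
  le_antisymm hc (by simpa using h.prod_le_card)

variable (A) in
/-- only the identity fixes all points of `bs` -/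
def IsBase (bs : List ℕ) : Prop := ∀ x : G, x ∈ A.fixL bs → x = 1

theorem Chain.isBase [Finite G] {l : List (ℕ × Finset ℕ)}
    (h : A.Chain ⊤ [] l) (hc : Nat.card G ≤ chainProd l) : A.IsBase (l.map Prod.fst) :=
  fun x hx => h.base (by rw [fixL_nil]; simpa using hc) trivial (by rw [fixL_nil]; trivial) hx

/-- words fixing a base are relations -/
theorem IsBase.ev_eq_one {bs : List ℕ} (hb : A.IsBase bs) {g : ℕ → G} {k : ℕ} {T : ℕ → ℕ → ℕ}
    (h : A.Tab g k T) {S : List (List ℕ)} (hS : lettersB k S = true) (hf : fixB T S bs = true) :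
    ∀ w ∈ S, ev g w = 1 := fun w hw => hb _ (h.mem_fixL hS hf w hw)

theorem IsBase.eq_of_act {bs : List ℕ} (hb : A.IsBase bs) {x y : G}
    (h : ∀ c ∈ bs, c < N → A.act c x = A.act c y) : x = y := by
  have : x * y⁻¹ = 1 := hb _ fun c hl hc => by
    rw [A.mul _ _ hc, h c hl hc, A.act_inv _ hc]
  exact mul_inv_eq_one.mp this

/-- the two words of every pair agree on the points of `l` -/
noncomputable def eqB (T : ℕ → ℕ → ℕ) (S : List (List ℕ × List ℕ)) (l : List ℕ) : Bool :=
  allL S fun p => allL l fun b => Nat.beq (tr T p.1 b) (tr T p.2 b)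

theorem IsBase.ev_eq_derive {bs : List ℕ} (hb : A.IsBase bs) {g : ℕ → G} {k : ℕ}
    {T : ℕ → ℕ → ℕ} (h : A.Tab g k T) {W : List (List ℕ)} (hW : lettersB k W = true)
    {S : List (List ℕ × List ℕ)} (hf : eqB (dT T W) S bs = true) :
    ∀ p ∈ S, ev (dG g W) p.1 = ev (dG g W) p.2 := fun p hp =>
  hb.eq_of_act fun c hl hc => by
    rw [h.act_ev_derive hW _ hc, h.act_ev_derive hW _ hc]
    exact Nat.eq_of_beq_eq_true ((allL_iff _ _).mp ((allL_iff _ _).mp hf p hp) c hl)

/-! ### checks for the levels -/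

/-- point `lo + t` of an interval orbit: the word number `info t &&& gm` moves it to a point of
the interval of smaller depth `info _ >>> dsh` -/
noncomputable def levI (T : ℕ → ℕ → ℕ) (S : List (List ℕ)) (info : ℕ → ℕ) (gm dsh lo n β t : ℕ) :
    Bool :=
  Bool.rec (motive := fun _ => Bool)
    (Nat.rec (motive := fun _ => Bool) false (fun c _ =>
      Bool.rec (motive := fun _ => Bool)
        (Nat.rec (motive := fun _ => Bool) false (fun e _ =>
          Nat.rec (motive := fun _ => Bool) false (fun d _ =>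
            Bool.rec (motive := fun _ => Bool) false
              (Bool.rec (motive := fun _ => Bool)
                (Bool.rec (motive := fun _ => Bool) true false
                  (Nat.ble (Nat.shiftRight e dsh) (Nat.shiftRight (info (Nat.sub d lo)) dsh)))
                false (Nat.ble (Nat.add lo n) d))
              (Nat.ble lo d))
            (Nat.succ (tr T (nthW S (Nat.land e gm)) c)))
          (Nat.succ (info t)))
        true (Nat.beq c β)) (Nat.succ (Nat.add lo t)))
    true (Nat.ble n t)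

theorem Tab.lev_interval {g : ℕ → G} {k : ℕ} {T : ℕ → ℕ → ℕ} (h : A.Tab g k T) {H : Subgroup G}
    {S : List (List ℕ)} (hS : lettersB k S = true) (hH : ∀ w ∈ S, ev g w ∈ H) {pre : List ℕ}
    (hf : fixB T S pre = true) {info : ℕ → ℕ} {gm dsh lo n β M : ℕ} (hβ : β < N) (hN : lo + n ≤ N)
    (hM : n ≤ M) (hchk : ∀ t < M, levI T S info gm dsh lo n β t = true) :
    A.Lev H pre β (Finset.Ico lo (lo + n)) := by
  refine ⟨hβ, fun c hc => ⟨by have := Finset.mem_Ico.mp hc; omega, ?_⟩⟩
  have key : ∀ D t, t < n → Nat.shiftRight (info t) dsh = D →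
      ∃ x ∈ H ⊓ A.fixL pre, A.act (lo + t) x = β := by
    intro D
    induction D using Nat.strong_induction_on with
    | _ D ih =>
      intro t ht hD
      have h1 := hchk t (by omega)
      have e : levI T S info gm dsh lo n β t = Bool.rec (motive := fun _ => Bool)
        (Bool.rec (motive := fun _ => Bool)
          (Bool.rec (motive := fun _ => Bool) false
              (Bool.rec (motive := fun _ => Bool)
                (Bool.rec (motive := fun _ => Bool) true false
                  (Nat.ble (Nat.shiftRight (info t) dsh) (Nat.shiftRight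
                    (info (tr T (nthW S (Nat.land (info t) gm)) (lo + t) - lo)) dsh)))
                false (Nat.ble (lo + n) (tr T (nthW S (Nat.land (info t) gm)) (lo + t))))
              (Nat.ble lo (tr T (nthW S (Nat.land (info t) gm)) (lo + t))))
          true (Nat.beq (lo + t) β)) true (Nat.ble n t) := rfl
      rw [e] at h1
      have h2 : Nat.ble n t = false := by
        rw [Bool.eq_false_iff]; intro h3; exact absurd (Nat.le_of_ble_eq_true h3) (by omega)
      rw [h2] at h1
      cases h3 : Nat.beq (lo + t) β with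
      | true =>
        exact ⟨1, Subgroup.one_mem _, by rw [A.one (by omega)]; exact Nat.eq_of_beq_eq_true h3⟩
      | false =>
        rw [h3] at h1
        obtain ⟨h4, h5⟩ := brec_true h1
        obtain ⟨h6, h7⟩ := brec_false h5
        set d := tr T (nthW S (Nat.land (info t) gm)) (lo + t) with hd
        have h8 : lo ≤ d := Nat.le_of_ble_eq_true h4
        have h9 : d < lo + n := by
          by_contra h10
          rw [Nat.ble_eq_true_of_le (not_lt.mp h10)] at h6; exact absurd h6 (by simp)
        have h10 : Nat.shiftRight (info (d - lo)) dsh < D := by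
          by_contra h11
          rw [hD, Nat.ble_eq_true_of_le (not_lt.mp h11)] at h7; exact absurd h7 (by simp)
        obtain ⟨x, hx, hxa⟩ := ih _ h10 (d - lo) (by omega) rfl
        have hw : dG g S (Nat.land (info t) gm) ∈ H ⊓ A.fixL pre :=
          dG_mem (fun w hw => Subgroup.mem_inf.mpr ⟨hH w hw, h.mem_fixL hS hf w hw⟩) _
        refine ⟨_, Subgroup.mul_mem _ hw hx, ?_⟩
        rw [A.mul _ _ (by omega), h.derive hS (Nat.land (info t) gm + 1) _ (by omega) _ (by omega)]
        rw [← hxa]; congr 1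
        change d = _
        omega
  have hc' := Finset.mem_Ico.mp hc
  obtain ⟨x, hx, hxa⟩ := key _ (c - lo) (by omega) rfl
  exact ⟨x, hx, by rw [← hxa]; congr 1; omega⟩

/-- a list of points in increasing order, all at least `lo` and below `N`, each with a word in
the words `S` that moves it to `β` -/
noncomputable def levL (T : ℕ → ℕ → ℕ) (N β : ℕ) (L : List (ℕ × List ℕ)) : ℕ → Bool :=
  List.rec (motive := fun _ => ℕ → Bool) (fun lo => Nat.ble lo N)
    (fun p _ ih lo => Bool.rec (motive := fun _ => Bool) false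
      (Bool.rec (motive := fun _ => Bool) false (ih (Nat.succ p.1)) (Nat.beq (tr T p.2 p.1) β))
      (Nat.ble lo p.1)) L

theorem levL_spec {T : ℕ → ℕ → ℕ} {N β : ℕ} {L : List (ℕ × List ℕ)} :
    ∀ {lo : ℕ}, levL T N β L lo = true → lo ≤ N ∧ (L.map Prod.fst).Nodup ∧
      ∀ p ∈ L, lo ≤ p.1 ∧ p.1 < N ∧ tr T p.2 p.1 = β := by
  induction L with
  | nil => intro lo h; exact ⟨Nat.le_of_ble_eq_true h, by simp, by simp⟩
  | cons p L ih =>
    intro lo h
    obtain ⟨h1, h2⟩ := brec_true h
    obtain ⟨h3, h4⟩ := brec_true h2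
    obtain ⟨a1, a2, a3⟩ := ih h4
    have h5 := Nat.le_of_ble_eq_true h1
    refine ⟨by omega, ?_, ?_⟩
    · rw [List.map_cons, List.nodup_cons]
      refine ⟨fun hm => ?_, a2⟩
      obtain ⟨q, hq, hq'⟩ := List.mem_map.mp hm
      have := (a3 q hq).1
      omega
    · intro q hq
      rcases List.mem_cons.mp hq with rfl | hq
      · exact ⟨h5, by omega, Nat.eq_of_beq_eq_true h3⟩
      · have := a3 q hq
        exact ⟨by omega, this.2⟩

theorem Tab.lev_list {g : ℕ → G} {k : ℕ} {T : ℕ → ℕ → ℕ} (h : A.Tab g k T) {H : Subgroup G}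
    {S : List (List ℕ)} (hS : lettersB k S = true) (hH : ∀ w ∈ S, ev g w ∈ H) {pre : List ℕ}
    (hf : fixB T S pre = true) {β : ℕ} (hβ : β < N) {L : List (ℕ × List ℕ)}
    (hL : levL (dT T S) N β L 0 = true) :
    A.Lev H pre β (L.map Prod.fst).toFinset ∧ (L.map Prod.fst).toFinset.card = L.length := by
  obtain ⟨_, a2, a3⟩ := levL_spec hL
  refine ⟨⟨hβ, fun c hc => ?_⟩, by rw [List.toFinset_card_of_nodup a2, List.length_map]⟩
  obtain ⟨p, hp, rfl⟩ := List.mem_map.mp (List.mem_toFinset.mp hc)
  refine ⟨(a3 p hp).2.1, ev (dG g S) p.2, ev_mem _ _ fun y _ =>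
    dG_mem (fun w hw => Subgroup.mem_inf.mpr ⟨hH w hw, h.mem_fixL hS hf w hw⟩) _, ?_⟩
  rw [h.act_ev_derive hS _ (a3 p hp).2.1, (a3 p hp).2.2]

end RAct

/-! ### the action of a presented group -/

/-- row check: entries below `N`, every relator closes -/
noncomputable def relChk (T : ℕ → ℕ → ℕ) (N : ℕ) (ls : List ℕ) (R : List (List ℕ)) (c : ℕ) : Bool :=
  Bool.rec (motive := fun _ => Bool)
    (Bool.rec (motive := fun _ => Bool) false
      (allL R fun r => Nat.beq (tr T r c) c) (allL ls fun i => Nat.blt (T c i) N))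
    true (Nat.ble N c)

theorem relChk_spec {T : ℕ → ℕ → ℕ} {N : ℕ} {ls : List ℕ} {R : List (List ℕ)} {c : ℕ}
    (h : relChk T N ls R c = true) (hc : c < N) :
    (∀ i ∈ ls, T c i < N) ∧ ∀ r ∈ R, tr T r c = c := by
  unfold relChk at h
  have h2 : Nat.ble N c = false := by
    rw [Bool.eq_false_iff]; intro h3; exact absurd (Nat.le_of_ble_eq_true h3) (by omega)
  rw [h2] at h
  obtain ⟨h3, h4⟩ := brec_true h
  exact ⟨fun i hi => by simpa [Nat.blt_eq] using (allL_iff _ _).mp h3 i hi,
    fun r hr => Nat.eq_of_beq_eq_true ((allL_iff _ _).mp h4 r hr)⟩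

/-- every letter below `k` starts a relator -/
def startsB (k : ℕ) (R : List (List ℕ)) : Bool :=
  (List.range k).all fun i => R.any fun r => r.head? == some i

/-- permutations with a given table -/
theorem exists_perm_tab {T : ℕ → ℕ → ℕ} {N k : ℕ} {R : List (List ℕ)} (hs : startsB k R = true)
    (hlt : ∀ i < k, ∀ c < N, T c i < N) (hR : ∀ c < N, ∀ r ∈ R, tr T r c = c) :
    ∃ π : ℕ → Equiv.Perm (Fin N), (RAct.ofHom (MonoidHom.id _)).Tab π k T := by
  have hinj : ∀ i (hi : i < k), Function.Injective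
      (fun c : Fin N => (⟨T c.val i, hlt i hi _ c.is_lt⟩ : Fin N)) := by
    intro i hi a b hab
    have h1 : T a.val i = T b.val i := congrArg Fin.val hab
    simp only [startsB, List.all_eq_true, List.mem_range, List.any_eq_true, beq_iff_eq] at hs
    obtain ⟨r, hr, hh⟩ := hs i hi
    cases r with
    | nil => simp at hh
    | cons j w =>
      have : j = i := by simpa using hh
      subst this
      have h2 := hR _ a.is_lt _ hr
      have h3 := hR _ b.is_lt _ hr
      rw [tr_cons] at h2 h3
      exact Fin.ext (by rw [← h2, ← h3, h1])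
  refine ⟨fun i => if hi : i < k then
    (Equiv.ofBijective _ (Finite.injective_iff_bijective.mp (hinj i hi)))⁻¹ else 1, ?_⟩
  intro i hi c hc
  rw [RAct.ofHom_act _ hc]
  simp [dif_pos hi]

/-- a table on which all relators close is the table of an action of the presented group -/
theorem exists_ract_PG {T : ℕ → ℕ → ℕ} {N k M : ℕ} {R : List (List ℕ)} (hk : lettersB k R = true)
    (hs : startsB k R = true) (hM : N ≤ M)
    (h : ∀ c < M, relChk T N (List.range k) R c = true) :
    ∃ A : RAct (PG k R) N, A.Tab (PG.gen k R) k T := by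
  have h' := fun c (hc : c < N) => relChk_spec (h c (by omega)) hc
  obtain ⟨π, hπ⟩ := exists_perm_tab hs (fun i hi c hc => (h' c hc).1 i (List.mem_range.mpr hi))
    (fun c hc => (h' c hc).2)
  have hrel : ∀ r ∈ R, ev π r = 1 := fun r hr =>
    RAct.ofHom_eq_one (MonoidHom.id _) (x := ev π r) fun c hc => by
      rw [hπ.act_ev (lettersB_spec hk r hr) hc]; exact (h' c hc).2 r hr
  refine ⟨(RAct.ofHom (MonoidHom.id _)).comap (PG.lift π (lettersLt_of_B hk) hrel), ?_⟩
  intro i hi c hc
  change (RAct.ofHom (MonoidHom.id _)).act c (PG.lift π _ hrel (PG.gen k R i)) = _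
  rw [PG.lift_gen_apply _ _ _ hi]; exact hπ i hi c hc

end Cfsg.Agent.L0
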