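import Cfsg.Agent.L0.Cox
import Cfsg.Agent.L0.Schur

/-! Explicit central extensions from labelled permutation tables. -/

set_option autoImplicit false

namespace Cfsg.Agent.L0

universe u v

/-- the letters `x 0, …, x (k-1)` with the relators `R` present the group -/
structure IsPres {G : Type u} [Group G] (x : ℕ → G) (k : ℕ) (R : List (List ℕ)) : Prop where
  lt : lettersLt k R = true
  rel : ∀ r ∈ R, ev x r = 1
  bij : Function.Bijective (PG.lift x lt rel)

theorem surj_lift {G : Type u} [Group G] {x : ℕ → G} {k : ℕ} {R : List (List ℕ)}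
    (lt : lettersLt k R = true) (rel : ∀ r ∈ R, ev x r = 1) (ht : genL x (List.range k) = ⊤) :
    Function.Surjective (PG.lift x lt rel) := by
  rw [← MonoidHom.range_eq_top, eq_top_iff, ← ht]
  exact genL_le fun y hy => ⟨_, PG.lift_gen_apply x lt rel (List.mem_range.mp hy)⟩

theorem isPres_of_card {G : Type u} [Group G] {x : ℕ → G} {k : ℕ} {R : List (List ℕ)}
    (lt : lettersLt k R = true) (rel : ∀ r ∈ R, ev x r = 1) (ht : genL x (List.range k) = ⊤)
    {n : ℕ} (hn : Nat.card G = n) (hc : CardLe (PG.gen k R) (List.range k) n) : IsPres x k R := by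
  obtain ⟨_, h2⟩ := hc.top (PG.genL_range k R)
  have hs := surj_lift lt rel ht
  exact ⟨lt, rel, hs.bijective_of_nat_card_le (hn ▸ h2)⟩

theorem isPres_of_inv {G : Type u} [Group G] {x : ℕ → G} {k : ℕ} {R : List (List ℕ)}
    (lt : lettersLt k R = true) (rel : ∀ r ∈ R, ev x r = 1) (ht : genL x (List.range k) = ⊤)
    (f : G →* PG k R) (hf : ∀ i < k, f (x i) = PG.gen k R i) : IsPres x k R := by
  refine ⟨lt, rel, ?_, surj_lift lt rel ht⟩
  have : f.comp (PG.lift x lt rel) = MonoidHom.id _ := PG.hom_ext fun y hy => by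
    rw [MonoidHom.comp_apply, PG.lift_gen_apply x lt rel hy, hf y hy]; rfl
  intro a b hab
  have h1 := DFunLike.congr_fun this a
  have h2 := DFunLike.congr_fun this b
  simp only [MonoidHom.comp_apply, MonoidHom.id_apply] at h1 h2
  rw [← h1, ← h2, hab]

namespace IsPres
variable {G : Type u} [Group G] {x : ℕ → G} {k : ℕ} {R : List (List ℕ)}

/-- the isomorphism with the presented group -/
noncomputable def equiv (h : IsPres x k R) : PG k R ≃* G := MulEquiv.ofBijective _ h.bij

theorem equiv_gen (h : IsPres x k R) {i : ℕ} (hi : i < k) : h.equiv (PG.gen k R i) = x i :=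
  PG.lift_gen_apply x h.lt h.rel hi

theorem exists_hom (h : IsPres x k R) {Γ : Type v} [Group Γ] (y : ℕ → Γ)
    (hy : ∀ r ∈ R, ev y r = 1) : ∃ f : G →* Γ, ∀ i < k, f (x i) = y i :=
  ⟨(PG.lift y h.lt hy).comp h.equiv.symm.toMonoidHom, fun i hi => by
    rw [← h.equiv_gen hi]
    simpa using PG.lift_gen_apply y h.lt hy hi⟩

theorem gen_top (h : IsPres x k R) : genL x (List.range k) = ⊤ := by
  rw [eq_top_iff]
  intro g _
  obtain ⟨a, rfl⟩ := h.bij.2 g
  have : (genL x (List.range k)).comap (PG.lift x h.lt h.rel) = ⊤ :=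
    PG.eq_top_of_gen_mem _ fun y hy => by
      rw [Subgroup.mem_comap, PG.lift_gen_apply x h.lt h.rel hy]
      exact mem_genL x (List.mem_range.mpr hy)
  exact (this ▸ Subgroup.mem_top a : a ∈ (genL x (List.range k)).comap _)

theorem exists_ract (h : IsPres x k R) {T : ℕ → ℕ → ℕ} {N M : ℕ} (hk : lettersB k R = true)
    (hs : startsB k R = true) (hM : N ≤ M) (hc : ∀ c < M, relChk T N (List.range k) R c = true) :
    ∃ A : RAct G N, A.Tab x k T := by
  obtain ⟨A, hA⟩ := exists_ract_PG hk hs hM hc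
  refine ⟨A.comap h.equiv.symm.toMonoidHom, RAct.Tab.comap _ fun i hi c hc => ?_⟩
  have : h.equiv.symm.toMonoidHom (x i) = PG.gen k R i := by
    rw [← h.equiv_gen hi]; simp
  simp only [this]
  exact hA i hi c hc

end IsPres

/-! ### representations of central (or inverted) extensions -/

/-- elements `φ i` of a finite group `W` on which relator number `j` takes the value `ζ (val j)`;
every `φ i` maps `ζ a` to `ζ (κ • a)` -/
def Rep (k : ℕ) (R : List (List ℕ)) (A : Type) [AddCommGroup A] (κ : ℕ) (val : ℕ → A) : Prop :=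
  ∃ (W : Type) (_ : Group W) (_ : Finite W) (φ : ℕ → W) (ζ : Multiplicative A →* W),
    Function.Injective ζ ∧
    (∀ i < k, ∀ a : A, ζ (Multiplicative.ofAdd a) * φ i = φ i * ζ (Multiplicative.ofAdd (κ • a))) ∧
    ∀ j < R.length, ev φ (R.getD j []) = ζ (Multiplicative.ofAdd (val j))

theorem Rep.prod {k : ℕ} {R : List (List ℕ)} {A B : Type} [AddCommGroup A] [AddCommGroup B]
    {κ : ℕ} {val : ℕ → A} {val' : ℕ → B} (h : Rep k R A κ val) (h' : Rep k R B κ val') :
    Rep k R (A × B) κ fun j => (val j, val' j) := by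
  obtain ⟨W, _, _, φ, ζ, h1, h2, h3⟩ := h
  obtain ⟨W', _, _, φ', ζ', h1', h2', h3'⟩ := h'
  refine ⟨W × W', inferInstance, inferInstance, fun i => (φ i, φ' i),
    (ζ.comp (AddMonoidHom.toMultiplicative (AddMonoidHom.fst A B))).prod
      (ζ'.comp (AddMonoidHom.toMultiplicative (AddMonoidHom.snd A B))), ?_, ?_, ?_⟩
  · intro a b hab
    have e1 := h1 (congrArg Prod.fst hab)
    have e2 := h1' (congrArg Prod.snd hab)
    exact Prod.ext e1 e2
  · intro i hi a
    exact Prod.ext (h2 i hi a.1) (h2' i hi a.2)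
  · intro j hj
    refine Prod.ext ?_ ?_
    · exact (map_ev _ (MonoidHom.fst W W') _).trans (h3 j hj)
    · exact (map_ev _ (MonoidHom.snd W W') _).trans (h3' j hj)

theorem ev_comm {B : Type u} [CommGroup B] (b : ℕ → B) {k : ℕ} {w : List ℕ} (hw : ∀ y ∈ w, y < k) :
    ev b w = ∏ i ∈ Finset.range k, b i ^ ((w.count i : ℕ) : ℤ) := by
  induction w with
  | nil => simp
  | cons a w ih =>
    rw [ev_cons, ih fun y hy => hw y (by simp [hy])]
    have ha : a ∈ Finset.range k := Finset.mem_range.mpr (hw a (by simp))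
    have : ∀ i, b i ^ (((a :: w).count i : ℕ) : ℤ) =
        (if i = a then b i else 1) * b i ^ ((w.count i : ℕ) : ℤ) := fun i => by
      rw [List.count_cons]
      by_cases h : i = a
      · subst h; simp [zpow_add, mul_comm]
      · simp [h, Ne.symm h]
    simp only [this, Finset.prod_mul_distrib, Finset.prod_ite_eq', if_pos ha]

/-- the integer combination `L` of the relators has no letters left -/
def zeroExp (k : ℕ) (R : List (List ℕ)) (L : List (ℤ × ℕ)) : Bool :=
  (L.all fun p => decide (p.2 < R.length)) &&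
    (List.range k).all fun i => (L.map fun p => p.1 * (((R.getD p.2 []).count i : ℕ) : ℤ)).sum == 0

theorem prod_zeroExp {B : Type u} [CommGroup B] (b : ℕ → B) {k : ℕ} {R : List (List ℕ)}
    (hk : lettersLt k R = true) {L : List (ℤ × ℕ)} (h : zeroExp k R L = true) :
    (L.map fun p => ev b (R.getD p.2 []) ^ p.1).prod = 1 := by
  simp only [zeroExp, Bool.and_eq_true, List.all_eq_true, decide_eq_true_eq, List.mem_range,
    beq_iff_eq] at h
  have key : ∀ L : List (ℤ × ℕ), (∀ p ∈ L, p.2 < R.length) →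
      (L.map fun p => ev b (R.getD p.2 []) ^ p.1).prod = ∏ i ∈ Finset.range k,
        b i ^ (L.map fun p => p.1 * (((R.getD p.2 []).count i : ℕ) : ℤ)).sum := by
    intro L hL
    induction L with
    | nil => simp
    | cons p L ih =>
      have hp := hL p (by simp)
      rw [List.map_cons, List.prod_cons, ih fun q hq => hL q (by simp [hq]),
        ev_comm b (k := k) (lettersLt_iff.mp hk _ (by
          rw [List.getD_eq_getElem _ _ hp]; exact List.getElem_mem hp)),
        ← Finset.prod_zpow, ← Finset.prod_mul_distrib]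
      refine Finset.prod_congr rfl fun i _ => ?_
      rw [List.map_cons, List.sum_cons, zpow_add, ← zpow_mul, mul_comm p.1]
  rw [key L h.1]
  exact Finset.prod_eq_one fun i hi => by rw [h.2 i (Finset.mem_range.mp hi), zpow_zero]

/-- The extension defined by a representation: a finite group `Γ` generated by lifts `y i` of the
letters, with kernel inside the image of `A`. -/
theorem Rep.ext {G : Type u} [Group G] [Finite G] {x : ℕ → G} {k : ℕ} {R : List (List ℕ)}
    (hP : IsPres x k R) {A : Type} [AddCommGroup A] {κ : ℕ} {val : ℕ → A} (h : Rep k R A κ val)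
    (hκ : ∀ a : A, κ • κ • a = a) :
    ∃ (Ω : Type u) (_ : Group Ω) (_ : Finite Ω) (π : Ω →* G) (y : ℕ → Ω) (ζ : Multiplicative A →* Ω),
      Function.Injective ζ ∧ (∀ i < k, π (y i) = x i) ∧ (∀ a, π (ζ a) = 1) ∧
      (∀ g ∈ genL y (List.range k), π g = 1 → g ∈ ζ.range) ∧
      (∀ i < k, ∀ a : A,
        ζ (Multiplicative.ofAdd a) * y i = y i * ζ (Multiplicative.ofAdd (κ • a))) ∧
      ∀ j < R.length, ev y (R.getD j []) = ζ (Multiplicative.ofAdd (val j)) := by
  obtain ⟨W, _, _, φ, ζ, h1, h2, h3⟩ := h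
  let y : ℕ → G × W := fun i => (x i, φ i)
  let ζ' : Multiplicative A →* G × W := (1 : Multiplicative A →* G).prod ζ
  have c2 : ∀ i < k, ∀ a : A,
      ζ' (Multiplicative.ofAdd a) * y i = y i * ζ' (Multiplicative.ofAdd (κ • a)) :=
    fun i hi a => Prod.ext (by simp [ζ', y]) (h2 i hi a)
  have c3 : ∀ j < R.length, ev y (R.getD j []) = ζ' (Multiplicative.ofAdd (val j)) := by
    intro j hj
    refine Prod.ext ?_ ((map_ev _ (MonoidHom.snd G W) _).trans (h3 j hj))
    refine (map_ev _ (MonoidHom.fst G W) _).trans (hP.rel _ ?_)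
    rw [List.getD_eq_getElem _ _ hj]; exact List.getElem_mem hj
  refine ⟨G × W, inferInstance, inferInstance, MonoidHom.fst G W, y, ζ',
    fun a b hab => h1 (congrArg Prod.snd hab), fun _ _ => rfl, fun _ => rfl, ?_, c2, c3⟩
  have hN : genL y (List.range k) ≤ Subgroup.normalizer (ζ'.range : Set (G × W)) := by
    refine genL_le fun i hi => ?_
    have hi := List.mem_range.mp hi
    rw [Subgroup.mem_normalizer_iff]
    intro g
    constructor
    · rintro ⟨a, rfl⟩
      refine ⟨Multiplicative.ofAdd (κ • a.toAdd), ?_⟩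
      rw [eq_mul_inv_iff_mul_eq, c2 i hi, hκ]; rfl
    · rintro ⟨a, ha⟩
      refine ⟨Multiplicative.ofAdd (κ • a.toAdd), ?_⟩
      have := c2 i hi a.toAdd
      rw [ofAdd_toAdd, ha, inv_mul_cancel_right] at this
      exact (mul_left_cancel this).symm
  let H := genL y (List.range k)
  let Z : Subgroup H := ζ'.range.subgroupOf H
  haveI : Z.Normal := Subgroup.normal_subgroupOf_of_le_normalizer hN
  let yH : ℕ → H := fun i => if hi : i < k then ⟨y i, mem_genL y (List.mem_range.mpr hi)⟩ else 1
  have hyH : ∀ w : List ℕ, (∀ i ∈ w, i < k) → (ev yH w).val = ev y w := fun w hw => by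
    rw [← H.subtype_apply, map_ev]
    exact ev_congr fun i hi => by simp [yH, hw i hi]
  obtain ⟨f, hf⟩ := hP.exists_hom (fun i => (QuotientGroup.mk' Z) (yH i)) (fun r hr => by
    rw [← map_ev, QuotientGroup.mk'_apply, QuotientGroup.eq_one_iff, Subgroup.mem_subgroupOf,
      hyH r (lettersLt_iff.mp hP.lt r hr)]
    obtain ⟨j, hj, rfl⟩ := List.getElem_of_mem hr
    rw [← List.getD_eq_getElem _ [] hj, c3 j hj]
    exact ⟨_, rfl⟩)
  intro g hg hπ
  have key : ∀ g (hg : g ∈ H), f g.1 = QuotientGroup.mk' Z ⟨g, hg⟩ := by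
    intro g hg
    induction hg using Subgroup.closure_induction with
    | mem g hg =>
      obtain ⟨i, hi, rfl⟩ := hg
      have hi' := List.mem_range.mp hi
      rw [show (y i).1 = x i from rfl, hf i hi']
      simp only [yH, dif_pos hi']
    | one => rw [Prod.fst_one, map_one]; exact (map_one _).symm
    | mul a b ha hb iha ihb => rw [Prod.fst_mul, map_mul, iha, ihb, ← map_mul]; rfl
    | inv a ha iha => rw [Prod.fst_inv, map_inv, iha, ← map_inv]; rfl
  have := key g hg
  rw [show g.1 = 1 from hπ, map_one, eq_comm, QuotientGroup.mk'_apply, QuotientGroup.eq_one_iff,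
    Subgroup.mem_subgroupOf] at this
  exact this

/-- a stem extension cut out of a larger group -/
theorem lowerMult_of_sub {G : Type u} [Group G] {Ω : Type v} [Group Ω] [Finite Ω] {A : Type}
    [CommGroup A] (H : Subgroup Ω) (σ : H →* G) (ζ : A →* Ω) (h1 : Function.Injective ζ)
    (hs : Function.Surjective σ) (hk : ∀ g : H, σ g = 1 ↔ g.val ∈ ζ.range)
    (hc : ∀ g ∈ H, ∀ a, ζ a * g = g * ζ a) (hd : ∀ a, ζ a ∈ ⁅H, H⁆) : LowerMult G A := by
  have hH : ∀ a, ζ a ∈ H := fun a => Subgroup.commutator_le.mpr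
    (fun g hg h hh => H.mul_mem (H.mul_mem (H.mul_mem hg hh) (H.inv_mem hg)) (H.inv_mem hh)) (hd a)
  refine lowerMult_of σ ⟨hs, ?_, ?_⟩ ?_
  · intro g hg
    obtain ⟨a, ha⟩ := (hk g).mp hg
    rw [Subgroup.mem_center_iff]
    intro z
    exact Subtype.ext (by rw [Subgroup.coe_mul, Subgroup.coe_mul, ← ha, hc z.val z.prop])
  · intro g hg
    obtain ⟨a, ha⟩ := (hk g).mp hg
    have := hd a
    rw [ha, ← Subgroup.map_subtype_commutator] at this
    obtain ⟨z, hz, e⟩ := this
    rwa [← Subtype.ext e]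
  · let f : A →* σ.ker := ((ζ.codRestrict H hH).codRestrict σ.ker fun a =>
      (hk _).mpr ⟨a, rfl⟩)
    refine (MulEquiv.ofBijective f ⟨fun a b hab => h1 ?_, fun g => ?_⟩).symm
    · exact congrArg (fun z => z.val.val) hab
    · obtain ⟨a, ha⟩ := (hk g.val).mp g.prop
      exact ⟨a, Subtype.ext (Subtype.ext ha)⟩

/-- the lower bound for the multiplier from a central representation -/
theorem Rep.lower {G : Type u} [Group G] [Finite G] {x : ℕ → G} {k : ℕ} {R : List (List ℕ)}
    (hP : IsPres x k R) {A : Type} [AddCommGroup A] {val : ℕ → A} (h : Rep k R A 1 val)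
    (Ls : List (List (ℤ × ℕ))) (hz : Ls.all (zeroExp k R) = true)
    (hg : ∀ B : AddSubgroup A, (∀ L ∈ Ls, (L.map fun p => p.1 • val p.2).sum ∈ B) → B = ⊤) :
    LowerMult G (Multiplicative A) := by
  obtain ⟨Ω, _, _, π, y, ζ, h1, h2, h3, h4, h5, h6⟩ := h.ext hP (by simp)
  let H := genL y (List.range k)
  refine lowerMult_of_sub H (π.comp H.subtype) ζ h1 ?_ ?_ ?_ ?_
  · rw [← MonoidHom.range_eq_top, eq_top_iff, ← hP.gen_top]
    refine genL_le fun i hi => ⟨⟨y i, mem_genL y hi⟩, h2 i (List.mem_range.mp hi)⟩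
  · intro g
    exact ⟨h4 g.val g.prop, fun ⟨a, ha⟩ => by
      rw [MonoidHom.comp_apply, Subgroup.subtype_apply, ← ha, h3]⟩
  · intro g hg a
    have : H ≤ Subgroup.centralizer {ζ a} := genL_le fun i hi => by
      rw [Subgroup.mem_centralizer_singleton_iff]
      simpa using (h5 i (List.mem_range.mp hi) a.toAdd).symm
    exact (Subgroup.mem_centralizer_singleton_iff.mp (this hg)).symm
  · let yH : ℕ → H := fun i => if hi : i < k then ⟨y i, mem_genL y (List.mem_range.mpr hi)⟩ else 1
    have hyH : ∀ w : List ℕ, (∀ i ∈ w, i < k) → (ev yH w).val = ev y w := fun w hw => by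
      rw [← H.subtype_apply, map_ev]
      exact ev_congr fun i hi => by simp [yH, hw i hi]
    have hB := hg (Subgroup.toAddSubgroup' ((⁅H, H⁆ : Subgroup Ω).comap ζ)) fun L hL => by
      have hz' := List.all_eq_true.mp hz L hL
      have e1 := prod_zeroExp (fun i => Abelianization.of (yH i)) hP.lt hz'
      have hlt : ∀ p ∈ L, p.2 < R.length := by
        simp only [zeroExp, Bool.and_eq_true, List.all_eq_true, decide_eq_true_eq] at hz'
        exact hz'.1
      have e2 : (L.map fun p => ev yH (R.getD p.2 []) ^ p.1).prod ∈ commutator H := by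
        rw [← Abelianization.ker_of, MonoidHom.mem_ker, map_list_prod, List.map_map, ← e1]
        congr 1
        exact List.map_congr_left fun p _ => by simp [map_ev]
      have e3 : H.subtype (L.map fun p => ev yH (R.getD p.2 []) ^ p.1).prod =
          ζ (Multiplicative.ofAdd (L.map fun p => p.1 • val p.2).sum) := by
        rw [map_list_prod, List.map_map, ofAdd_list_prod, map_list_prod, List.map_map, List.map_map]
        congr 1
        refine List.map_congr_left fun p hp => ?_
        have hp' := hlt p hp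
        simp only [Function.comp_apply, map_zpow, Subgroup.subtype_apply, ofAdd_zsmul]
        rw [hyH _ (lettersLt_iff.mp hP.lt _ (by
          rw [List.getD_eq_getElem _ _ hp']; exact List.getElem_mem hp')), h6 _ hp']
      change ζ (Multiplicative.ofAdd _) ∈ (⁅H, H⁆ : Subgroup Ω)
      rw [← e3, ← Subgroup.map_subtype_commutator]
      exact ⟨_, e2, rfl⟩
    intro a
    exact (hB ▸ AddSubgroup.mem_top a.toAdd :
      a.toAdd ∈ Subgroup.toAddSubgroup' ((⁅H, H⁆ : Subgroup Ω).comap ζ))

/-! ### labelled tables -/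

/-- trace a word through a table with entries `target * 2 ^ s + label` -/
noncomputable def trL (E : ℕ → ℕ → ℕ) (s lm κ : ℕ) (w : List ℕ) : ℕ → ℕ → (ℕ → ℕ → Bool) → Bool :=
  List.rec (motive := fun _ => ℕ → ℕ → (ℕ → ℕ → Bool) → Bool) (fun c a k => k c a)
    (fun i _ ih c a k => Nat.rec (motive := fun _ => Bool) false
      (fun e _ => ih (Nat.shiftRight e s) (Nat.add (Nat.land e lm) (Nat.mul κ a)) k)
      (Nat.succ (E c i))) w

/-- the table of targets -/
noncomputable def tgt (E : ℕ → ℕ → ℕ) (s c i : ℕ) : ℕ := Nat.shiftRight (E c i) s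

/-- the label accumulated along a word -/
noncomputable def accL (E : ℕ → ℕ → ℕ) (s lm κ : ℕ) : List ℕ → ℕ → ℕ → ℕ
  | [], _, a => a
  | i :: w, c, a => accL E s lm κ w (tgt E s c i) (Nat.land (E c i) lm + κ * a)

theorem trL_eq (E : ℕ → ℕ → ℕ) (s lm κ : ℕ) (w : List ℕ) : ∀ c a k,
    trL E s lm κ w c a k = k (tr (tgt E s) w c) (accL E s lm κ w c a) := by
  induction w with
  | nil => intro c a k; rfl
  | cons i w ih => intro c a k; exact ih _ _ k

theorem accL_eq (E : ℕ → ℕ → ℕ) (s lm κ : ℕ) (w : List ℕ) : ∀ c a,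
    accL E s lm κ w c a = accL E s lm κ w c 0 + κ ^ w.length * a := by
  induction w with
  | nil => intro c a; simp [accL]
  | cons i w ih =>
    intro c a
    simp only [accL]
    rw [ih _ (_ + κ * a), ih _ (_ + κ * 0), List.length_cons]
    ring

/-- row check: targets below `N`, every relator closes with its label modulo `m` -/
noncomputable def relChkL (E : ℕ → ℕ → ℕ) (s lm κ m N : ℕ) (ls : List ℕ) (RL : List (List ℕ × ℕ))
    (c : ℕ) : Bool :=
  Bool.rec (motive := fun _ => Bool)
    (Bool.rec (motive := fun _ => Bool) false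
      (allL RL fun p => Prod.rec (motive := fun _ => Bool) (fun r v => trL E s lm κ r c 0
        fun d a => Bool.rec (motive := fun _ => Bool) false (Nat.beq (Nat.mod a m) v)
          (Nat.beq d c)) p)
      (allL ls fun i => Nat.blt (Nat.shiftRight (E c i) s) N))
    true (Nat.ble N c)

theorem relChkL_spec {E : ℕ → ℕ → ℕ} {s lm κ m N : ℕ} {ls : List ℕ} {RL : List (List ℕ × ℕ)}
    {c : ℕ} (h : relChkL E s lm κ m N ls RL c = true) (hc : c < N) :
    (∀ i ∈ ls, tgt E s c i < N) ∧
      ∀ p ∈ RL, tr (tgt E s) p.1 c = c ∧ accL E s lm κ p.1 c 0 % m = p.2 := by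
  unfold relChkL at h
  have h2 : Nat.ble N c = false := by
    rw [Bool.eq_false_iff]; intro h3; exact absurd (Nat.le_of_ble_eq_true h3) (by omega)
  rw [h2] at h
  obtain ⟨h3, h4⟩ := brec_true h
  refine ⟨fun i hi => by simpa [Nat.blt_eq, tgt] using (allL_iff _ _).mp h3 i hi, fun p hp => ?_⟩
  have h5 : trL E s lm κ p.1 c 0 (fun d a => Bool.rec (motive := fun _ => Bool) false
      (Nat.beq (Nat.mod a m) p.2) (Nat.beq d c)) = true := (allL_iff _ _).mp h4 p hp
  rw [trL_eq] at h5
  obtain ⟨h6, h7⟩ := brec_true h5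
  exact ⟨Nat.eq_of_beq_eq_true h6, Nat.eq_of_beq_eq_true h7⟩

theorem relChk_of_L {E : ℕ → ℕ → ℕ} {s lm κ m N : ℕ} {ls : List ℕ} {RL : List (List ℕ × ℕ)}
    {c : ℕ} (h : relChkL E s lm κ m N ls RL c = true) :
    relChk (tgt E s) N ls (RL.map Prod.fst) c = true := by
  unfold relChk
  cases hc : Nat.ble N c with
  | true => rfl
  | false =>
    have hc' : c < N := by
      by_contra h1
      rw [Nat.ble_eq_true_of_le (not_lt.mp h1)] at hc; exact absurd hc (by simp)
    obtain ⟨h1, h2⟩ := relChkL_spec h hc'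
    have e1 : (allL ls fun i => Nat.blt (tgt E s c i) N) = true :=
      (allL_iff _ _).mpr fun i hi => by simpa [Nat.blt_eq] using h1 i hi
    have e2 : (allL (RL.map Prod.fst) fun r => Nat.beq (tr (tgt E s) r c) c) = true :=
      (allL_iff _ _).mpr fun r hr => by
        obtain ⟨p, hp, rfl⟩ := List.mem_map.mp hr
        rw [(h2 p hp).1]; exact Nat.beq_refl c
    rw [e1, e2]

/-- the labels as residues -/
def valL (RL : List (List ℕ × ℕ)) (m j : ℕ) : ZMod m := ((RL.getD j ([], 0)).2 : ℕ)

theorem rep_of_chk {E : ℕ → ℕ → ℕ} {s lm κ m N k M : ℕ} {RL : List (List ℕ × ℕ)}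
    {R : List (List ℕ)} (hR : RL.map Prod.fst = R) (hm : m ≠ 0) (hN : 0 < N)
    (hk : lettersB k R = true) (hs : startsB k R = true)
    (hκ : (R.all fun r => κ ^ r.length % m == 1 % m) = true) (hM : N ≤ M)
    (h : ∀ c < M, relChkL E s lm κ m N (List.range k) RL c = true) :
    Rep k R (ZMod m) κ (valL RL m) := by
  haveI : NeZero m := ⟨hm⟩
  have h' := fun c (hc : c < N) => relChkL_spec (h c (by omega)) hc
  have hlt : ∀ i < k, ∀ c < N, tgt E s c i < N := fun i hi c hc =>
    (h' c hc).1 i (List.mem_range.mpr hi)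
  let F : ℕ → Fin N × ZMod m → Fin N × ZMod m := fun i p =>
    if hi : i < k then (⟨tgt E s p.1.val i, hlt i hi _ p.1.is_lt⟩,
      ((Nat.land (E p.1.val i) lm : ℕ) : ZMod m) + κ * p.2) else p
  have hF : ∀ w : List ℕ, (∀ i ∈ w, i < k) → ∀ p : Fin N × ZMod m,
      (w.foldl (fun q i => F i q) p).1.val = tr (tgt E s) w p.1.val ∧
      (w.foldl (fun q i => F i q) p).2 =
        (accL E s lm κ w p.1.val 0 : ℕ) + (κ : ZMod m) ^ w.length * p.2 := by
    intro w
    induction w with
    | nil => intro _ p; simp [accL, tr_nil]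
    | cons i w ih =>
      intro hw p
      have hi := hw i (by simp)
      obtain ⟨h1, h2⟩ := ih (fun y hy => hw y (by simp [hy])) (F i p)
      rw [List.foldl_cons, h1, h2, tr_cons]
      simp only [F, dif_pos hi, accL, true_and]
      rw [accL_eq _ _ _ _ _ _ (_ + κ * 0), List.length_cons]
      push_cast
      ring
  have hrel : ∀ p ∈ RL, ∀ q : Fin N × ZMod m,
      p.1.foldl (fun q i => F i q) q = (q.1, (p.2 : ZMod m) + q.2) := by
    intro p hp q
    have hpR : p.1 ∈ R := hR ▸ List.mem_map_of_mem hp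
    obtain ⟨h1, h2⟩ := hF p.1 (lettersB_spec hk _ hpR) q
    obtain ⟨h3, h4⟩ := (h' _ q.1.is_lt).2 p hp
    refine Prod.ext (Fin.ext (h1.trans h3)) ?_
    have h5 : (κ : ZMod m) ^ p.1.length = 1 := by
      have := List.all_eq_true.mp hκ _ hpR
      rw [beq_iff_eq] at this
      have := (ZMod.natCast_eq_natCast_iff' _ _ _).mpr this
      simpa using this
    rw [h2, h5, one_mul, ← h4, ZMod.natCast_mod]
  have hinj : ∀ i, Function.Injective (F i) := by
    intro i a b hab
    by_cases hi : i < k
    · simp only [startsB, List.all_eq_true, List.mem_range, List.any_eq_true, beq_iff_eq] at hs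
      obtain ⟨r, hr, hh⟩ := hs i hi
      obtain ⟨p, hp, rfl⟩ := List.mem_map.mp (hR ▸ hr)
      have h1 := hrel p hp a
      have h2 := hrel p hp b
      cases hp1 : p.1 with
      | nil => rw [hp1] at hh; simp at hh
      | cons j w =>
        rw [hp1] at hh h1 h2
        have : j = i := by simpa using hh
        subst this
        rw [List.foldl_cons] at h1 h2
        rw [hab, h2] at h1
        exact Prod.ext (congrArg Prod.fst h1).symm (add_left_cancel (congrArg Prod.snd h1)).symm
    · simpa only [F, dif_neg hi] using hab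
  let φ : ℕ → Equiv.Perm (Fin N × ZMod m) := fun i =>
    (Equiv.ofBijective _ (Finite.injective_iff_bijective.mp (hinj i)))⁻¹
  let ζ : Multiplicative (ZMod m) →* Equiv.Perm (Fin N × ZMod m) :=
    { toFun := fun t => Equiv.prodCongr (Equiv.refl _) (Equiv.addLeft (-t.toAdd))
      map_one' := by ext p <;> simp
      map_mul' := fun a b => by ext p <;> simp [add_comm, add_left_comm] }
  have hζ : ∀ (t : ZMod m) p, (ζ (Multiplicative.ofAdd t))⁻¹ p = (p.1, t + p.2) := by
    intro t p
    rw [← map_inv]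
    ext <;> simp [ζ]
  have hφ : ∀ (w : List ℕ) p, (ev φ w)⁻¹ p = w.foldl (fun q i => F i q) p := by
    intro w
    induction w with
    | nil => intro p; rfl
    | cons i w ih => intro p; rw [ev_cons, mul_inv_rev, Equiv.Perm.mul_apply, ih]; rfl
  refine ⟨_, inferInstance, inferInstance, φ, ζ, ?_, ?_, ?_⟩
  · intro a b hab
    have h1 := hζ a.toAdd (⟨0, hN⟩, 0)
    rw [ofAdd_toAdd, hab, ← ofAdd_toAdd b, hζ] at h1
    simpa using (congrArg Prod.snd h1).symm
  · intro i hi a
    rw [← inv_inj, mul_inv_rev, mul_inv_rev]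
    refine Equiv.ext fun p => ?_
    rw [Equiv.Perm.mul_apply, Equiv.Perm.mul_apply, hζ, hζ]
    change F i _ = ((F i p).1, κ • a + (F i p).2)
    simp only [F, dif_pos hi, nsmul_eq_mul]
    congr 1
    ring
  · intro j hj
    rw [← inv_inj]
    refine Equiv.ext fun p => ?_
    have hj' : j < RL.length := by simpa [← hR] using hj
    have e : R.getD j [] = (RL[j]).1 := by
      subst hR
      rw [List.getD_eq_getElem _ _ hj]; simp
    rw [hφ, hζ, e, hrel _ (List.getElem_mem hj'), valL, List.getD_eq_getElem _ _ hj']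

end Cfsg.Agent.L0
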