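import Cfsg.Agent.L0.PcCert
import Cfsg.Agent.H9.OutChk

/-! From the actions of `H9.RA` to `RAct`. -/

set_option autoImplicit false

namespace Cfsg.Agent.L0

/-- the same action -/
def ofRA {G : Type*} [Group G] {N : ℕ} (A : H9.RA G N) : RAct G N where
  act := A.act
  lt x hc := A.lt hc x
  one hc := A.one hc
  mul x y hc := A.mul hc x y

/-- the other way round -/
def toRA {G : Type*} [Group G] {N : ℕ} (A : RAct G N) : H9.RA G N where
  act := A.act
  lt hc x := A.lt x hc
  one hc := A.one hc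
  mul hc x y := A.mul x y hc

theorem ofRA_tab {G : Type*} [Group G] {N : ℕ} {A : H9.RA G N} {g : ℕ → G} {k : ℕ}
    {T : ℕ → ℕ → ℕ} (h : A.Tab g k T) : (ofRA A).Tab g k T := fun i hi c hc => (h i hi c hc).symm

theorem toRA_tab {G : Type*} [Group G] {N : ℕ} {A : RAct G N} {g : ℕ → G} {k : ℕ}
    {T : ℕ → ℕ → ℕ} (h : A.Tab g k T) : (toRA A).Tab g k T := fun i hi c hc => (h i hi c hc).symm

theorem ofRA_base {G : Type*} [Group G] {N : ℕ} {A : H9.RA G N} {B : List ℕ} (h : A.IsBase B) :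
    (ofRA A).IsBase B := fun x hx => h.2 x fun b hb => hx b hb (h.1 b hb)

end Cfsg.Agent.L0
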