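import Mathlib

/-! Words in numbered letters, their values, and the presented groups `PG k R`. -/

set_option autoImplicit false

namespace Cfsg.Agent.L0

universe u v

/-- value of a positive word: `ev x [a, b, c] = x a * x b * x c`. -/
def ev {G : Type u} [Monoid G] (x : ℕ → G) (w : List ℕ) : G := (w.map x).prod

section ev
variable {G : Type u} [Monoid G] (x : ℕ → G)

@[simp] theorem ev_nil : ev x [] = 1 := rfl
@[simp] theorem ev_cons (a : ℕ) (w : List ℕ) : ev x (a :: w) = x a * ev x w := by
  simp [ev]
@[simp] theorem ev_append (w w' : List ℕ) : ev x (w ++ w') = ev x w * ev x w' := by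
  simp [ev]
theorem ev_singleton (a : ℕ) : ev x [a] = x a := by simp

theorem map_ev {H : Type v} [Monoid H] {F : Type*} [FunLike F G H] [MonoidHomClass F G H] (f : F)
    (w : List ℕ) : f (ev x w) = ev (fun y => f (x y)) w := by
  induction w with
  | nil => simp
  | cons a w ih => simp [ih]

theorem ev_congr {x x' : ℕ → G} {w : List ℕ} (h : ∀ y ∈ w, x y = x' y) : ev x w = ev x' w := by
  induction w with
  | nil => rfl
  | cons a w ih =>
    simp only [ev_cons]
    rw [h a (by simp), ih (fun y hy => h y (by simp [hy]))]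

theorem ev_map (f : ℕ → ℕ) (w : List ℕ) : ev x (w.map f) = ev (fun y => x (f y)) w := by
  induction w with
  | nil => rfl
  | cons a w ih => simp [ih]

/-- substitute words for letters -/
theorem ev_flatMap (s : ℕ → List ℕ) (w : List ℕ) :
    ev x (w.flatMap s) = ev (fun y => ev x (s y)) w := by
  induction w with
  | nil => rfl
  | cons a w ih => simp [ih]

theorem ev_replicate_flatten (w : List ℕ) (n : ℕ) :
    ev x (List.replicate n w).flatten = ev x w ^ n := by
  induction n with
  | zero => simp
  | succ n ih => simp [List.replicate_succ, ih, pow_succ']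

end ev

theorem ev_mem {G : Type u} [Group G] (x : ℕ → G) (H : Subgroup G) {w : List ℕ}
    (h : ∀ y ∈ w, x y ∈ H) : ev x w ∈ H := by
  induction w with
  | nil => simp
  | cons a w ih =>
    simp only [ev_cons]
    exact H.mul_mem (h a (by simp)) (ih fun y hy => h y (by simp [hy]))

/-- all letters of all words are below `k` -/
def lettersLt (k : ℕ) (R : List (List ℕ)) : Bool := R.all fun r => r.all fun y => decide (y < k)

theorem lettersLt_iff {k : ℕ} {R : List (List ℕ)} :
    lettersLt k R = true ↔ ∀ r ∈ R, ∀ y ∈ r, y < k := by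
  simp [lettersLt]

/-- relators: the words of `R`, and every letter from `k` on -/
def relSet (k : ℕ) (R : List (List ℕ)) : Set (FreeGroup ℕ) :=
  {r | ∃ w ∈ R, r = ev FreeGroup.of w} ∪ {r | ∃ y, k ≤ y ∧ r = FreeGroup.of y}

/-- the group with generators `0, …, k-1` and relators `R` -/
def PG (k : ℕ) (R : List (List ℕ)) : Type := PresentedGroup (relSet k R)

instance instGroupPG (k : ℕ) (R : List (List ℕ)) : Group (PG k R) :=
  inferInstanceAs (Group (PresentedGroup (relSet k R)))

namespace PG
variable {k : ℕ} {R : List (List ℕ)}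

/-- projection from the free group -/
def mk (k : ℕ) (R : List (List ℕ)) : FreeGroup ℕ →* PG k R := PresentedGroup.mk (relSet k R)

/-- the generators -/
def gen (k : ℕ) (R : List (List ℕ)) (y : ℕ) : PG k R := mk k R (FreeGroup.of y)

theorem mk_surjective : Function.Surjective (mk k R) := PresentedGroup.mk_surjective _

theorem mk_eq_one_iff (w : FreeGroup ℕ) :
    mk k R w = 1 ↔ w ∈ Subgroup.normalClosure (relSet k R) :=
  PresentedGroup.mk_eq_one_iff

theorem mk_ev (w : List ℕ) : mk k R (ev FreeGroup.of w) = ev (gen k R) w := map_ev _ _ _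

theorem rel {r : List ℕ} (hr : r ∈ R) : ev (gen k R) r = 1 := by
  rw [← mk_ev, mk_eq_one_iff]
  exact Subgroup.subset_normalClosure (Or.inl ⟨r, hr, rfl⟩)

theorem gen_ge {y : ℕ} (hy : k ≤ y) : gen k R y = 1 := by
  rw [gen, mk_eq_one_iff]
  exact Subgroup.subset_normalClosure (Or.inr ⟨y, hy, rfl⟩)

theorem lift_gen : FreeGroup.lift (gen k R) = mk k R := by
  ext y; simp [gen]

/-- a subgroup containing the generators below `k` is everything -/
theorem eq_top_of_gen_mem (H : Subgroup (PG k R)) (h : ∀ y < k, gen k R y ∈ H) : H = ⊤ := by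
  rw [eq_top_iff]
  intro g _
  obtain ⟨w, rfl⟩ := mk_surjective g
  have hall : ∀ y, gen k R y ∈ H := fun y => by
    by_cases hy : y < k
    · exact h y hy
    · rw [gen_ge (not_lt.mp hy)]; exact H.one_mem
  induction w using FreeGroup.induction_on with
  | C1 => simp
  | of y => exact hall y
  | inv_of y _ => rw [map_inv]; exact H.inv_mem (hall y)
  | mul a b ha hb => rw [map_mul]; exact H.mul_mem (ha trivial) (hb trivial)

theorem hom_ext {Γ : Type u} [Group Γ] {f f' : PG k R →* Γ}
    (h : ∀ y < k, f (gen k R y) = f' (gen k R y)) : f = f' := by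
  have : MonoidHom.eqLocus f f' = ⊤ := eq_top_of_gen_mem _ h
  ext g
  exact (this ▸ Subgroup.mem_top g : g ∈ MonoidHom.eqLocus f f')

/-- universal property -/
def lift {Γ : Type u} [Group Γ] (x : ℕ → Γ) (hk : lettersLt k R = true)
    (h : ∀ r ∈ R, ev x r = 1) : PG k R →* Γ :=
  PresentedGroup.toGroup (f := fun y => if y < k then x y else 1) (by
    rintro r (⟨w, hw, rfl⟩ | ⟨y, hy, rfl⟩)
    · rw [map_ev]
      simp only [FreeGroup.lift_apply_of]
      rw [ev_congr (x' := x), h w hw]
      intro y hy
      rw [if_pos (lettersLt_iff.mp hk w hw y hy)]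
    · simp [not_lt.mpr hy])

theorem lift_gen_apply {Γ : Type u} [Group Γ] (x : ℕ → Γ) (hk : lettersLt k R = true)
    (h : ∀ r ∈ R, ev x r = 1) {y : ℕ} (hy : y < k) : lift x hk h (gen k R y) = x y := by
  have : lift x hk h (gen k R y) = (if y < k then x y else 1) :=
    PresentedGroup.toGroup.of (f := fun y => if y < k then x y else 1) _
  rw [this, if_pos hy]

theorem lift_ev {Γ : Type u} [Group Γ] (x : ℕ → Γ) (hk : lettersLt k R = true)
    (h : ∀ r ∈ R, ev x r = 1) {w : List ℕ} (hw : ∀ y ∈ w, y < k) :
    lift x hk h (ev (gen k R) w) = ev x w := by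
  rw [map_ev]
  exact ev_congr fun y hy => lift_gen_apply x hk h (hw y hy)

end PG

end Cfsg.Agent.L0
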