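import Cfsg.Agent.L0.DceX

/-! Small lemmas on words: letters for words, signs, parity, central factors. -/

set_option autoImplicit false

namespace Cfsg.Agent.L0

section
variable {Γ : Type} [Group Γ] {y : ℕ → Γ} {n : ℕ} {iv : ℕ → ℕ}

theorem cons_ext (h : ∀ a < n, y (iv a) = (y a)⁻¹) {K : List (List ℕ)} (hK : ∀ r ∈ K, ev y r = 1)
    (E : ℕ → List ℕ) {L : List (List ℕ)}
    (e : (L.map fun r => r.flatMap E).all (consB n iv K) = true) :
    ∀ r ∈ L, ev (fun i => ev y (E i)) r = 1 := fun r hr => by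
  rw [← ev_flatMap]; exact cons_all h hK e _ (List.mem_map_of_mem hr)

theorem tr_one {U : List (List ℕ)} (h : ∀ u ∈ U, ev y u ∈ genL y []) : ∀ u ∈ U, ev y u = 1 :=
  fun u hu => eq_one_of_mem_genL_nil (h u hu)

theorem CardLe.ext {E : ℕ → List ℕ} {l l' : List ℕ} {m : ℕ}
    (h : CardLe (fun i => ev y (E i)) l m) (e : (l'.all fun a => l.any fun b => E b == [a]) = true) :
    CardLe y l' m := h.mono fun a ha => by
  obtain ⟨b, hb, e1⟩ := List.any_eq_true.mp (List.all_eq_true.mp e a ha)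
  have := mem_genL (fun i => ev y (E i)) hb
  rwa [beq_iff_eq.mp e1, ev_singleton] at this

theorem rel_hom {H : Type} [Group H] {g : ℕ → H} (f : H →* Γ) {k : ℕ} {E : ℕ → List ℕ}
    (hf : ∀ i < k, f (g i) = ev y (E i)) {L : List (List ℕ)} (hL : ∀ r ∈ L, ev g r = 1)
    (e : lettersLt k L = true) : ∀ r ∈ L.map fun r => r.flatMap E, ev y r = 1 := fun r hr => by
  obtain ⟨q, hq, rfl⟩ := List.mem_map.mp hr
  rw [ev_flatMap, ← ev_congr fun a ha => hf a (lettersLt_iff.mp e q hq a ha), ← map_ev, hL q hq,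
    map_one]

theorem semiconj_ev {c : Γ} (ε : ℕ → ℤ) {r : List ℕ} (h : ∀ a ∈ r, y a * c = c ^ ε a * y a) :
    ev y r * c = c ^ (r.map ε).prod * ev y r := by
  induction r with
  | nil => simp
  | cons a r ih =>
    have h1 : SemiconjBy (y a) c (c ^ ε a) := h a (by simp)
    rw [ev_cons, mul_assoc, ih fun b hb => h b (by simp [hb]), ← mul_assoc, (h1.zpow_right _).eq,
      List.map_cons, List.prod_cons, zpow_mul, mul_assoc]

theorem ev_scale {c : Γ} (hc : c ∈ Subgroup.center Γ) (j : ℕ) (r : List ℕ) :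
    ev (fun i => if i = j then y i * c else y i) r = ev y r * c ^ r.count j := by
  have h := Subgroup.mem_center_iff.mp hc
  induction r with
  | nil => simp
  | cons a r ih =>
    rw [ev_cons, ev_cons, ih, List.count_cons]
    by_cases ha : a = j
    · simp only [ha, if_true, beq_self_eq_true, pow_succ', mul_assoc]
      rw [← mul_assoc c, ← h, mul_assoc]
    · simp [ha, mul_assoc]

end

theorem card_subL_half {k : ℕ} {R : List (List ℕ)} [Finite (PG k R)] {l : List ℕ} {j : ℕ}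
    (e : (lettersLt k R && decide (j < k) && (l.all fun a => decide (a < k) && a != j) &&
      R.all fun r => r.count j % 2 == 0) = true) :
    2 * Nat.card (subL (PG.gen k R) l) ≤ Nat.card (PG k R) := by
  simp only [Bool.and_eq_true, List.all_eq_true, decide_eq_true_eq, bne_iff_ne, beq_iff_eq] at e
  obtain ⟨⟨⟨e1, e2⟩, e3⟩, e4⟩ := e
  have hR : ∀ r ∈ R, ev (fun i => if i = j then (1 : ℤˣ) * -1 else 1) r = 1 := fun r hr => by
    rw [ev_scale (y := fun _ => 1) (by simp [Subgroup.mem_center_iff]),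
      (Nat.even_iff.mpr (e4 r hr)).neg_one_pow]
    simp [ev]
  have h1 : subL (PG.gen k R) l ≤ (PG.lift _ e1 hR).ker := by
    rw [subL_eq]
    exact genL_le fun a ha => by
      rw [MonoidHom.mem_ker, PG.lift_gen_apply _ _ _ (e3 a ha).1, if_neg (e3 a ha).2]
  have h2 : (subL (PG.gen k R) l).index ≠ 1 := fun h => by
    have := h1 (Subgroup.index_eq_one.mp h ▸ Subgroup.mem_top (PG.gen k R j))
    rw [MonoidHom.mem_ker, PG.lift_gen_apply _ _ _ e2] at this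
    simp at this
  rw [← (subL (PG.gen k R) l).index_mul_card]
  have := Subgroup.index_ne_zero_of_finite (H := subL (PG.gen k R) l)
  exact Nat.mul_le_mul_right _ (by omega)

section
variable {Γ : Type} [Group Γ]

theorem pow_comm_central {a b : Γ} (hc : a⁻¹ * b⁻¹ * a * b ∈ Subgroup.center Γ) (m : ℕ) :
    (a⁻¹ * b⁻¹ * a * b) ^ m = (a ^ m)⁻¹ * (b⁻¹ * a ^ m * b) := by
  have h : Commute a (a⁻¹ * b⁻¹ * a * b) := Subgroup.mem_center_iff.mp hc a
  rw [eq_inv_mul_iff_mul_eq, ← h.mul_pow, show a * (a⁻¹ * b⁻¹ * a * b) = b⁻¹ * a * b⁻¹⁻¹ by group,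
    conj_pow, inv_inv]

/-- the relators of `HN` with the fourth generator, in a central extension -/
theorem hn_labels {a b e t : Γ} (c1 : t ^ 5 ∈ Subgroup.center Γ)
    (c2 : a⁻¹ * t * a * t ^ 2 ∈ Subgroup.center Γ) (c3 : t⁻¹ * b⁻¹ * t * b ∈ Subgroup.center Γ)
    (c4 : (e * t) ^ 3 ∈ Subgroup.center Γ) (h1 : (a⁻¹ * t * a * t ^ 2) ^ 2 = t ^ 5)
    (h2 : b ^ 6 = 1) (h3 : e * e = 1) (h4 : e * a * e * a = 1) (h5 : a ^ 4 = 1) :
    t ^ 5 = 1 ∧ a⁻¹ * t * a * t ^ 2 = 1 ∧ t⁻¹ * b⁻¹ * t * b = 1 ∧ ((e * t) ^ 3) ^ 2 = 1 := by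
  generalize e2 : a⁻¹ * t * a * t ^ 2 = u at c2 h1
  have cu : ∀ x, Commute x u := Subgroup.mem_center_iff.mp c2
  have e3 : a⁻¹ * t * a⁻¹⁻¹ = u * (t ^ 2)⁻¹ := by rw [← e2]; group
  have e4 : u = 1 := by
    have : a⁻¹ * t ^ 5 * a⁻¹⁻¹ = u ^ 5 * ((t ^ 5) ^ 2)⁻¹ := by
      rw [← conj_pow, e3, (cu _).symm.mul_pow]; group
    rw [Subgroup.mem_center_iff.mp c1, mul_inv_cancel_right, ← h1] at this
    calc u = u ^ 2 * (u ^ 5 * ((u ^ 2) ^ 2)⁻¹)⁻¹ := by group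
      _ = 1 := by rw [← this, mul_inv_cancel]
  subst e4
  have e5 : t ^ 5 = 1 := by rw [← h1, one_pow]
  have e6 : (t⁻¹ * b⁻¹ * t * b) ^ 5 = 1 := by rw [pow_comm_central c3, e5]; simp
  have e7 : (t⁻¹ * b⁻¹ * t * b) ^ 6 = 1 := by
    have := pow_comm_central (a := b) (b := t) (by simpa [mul_assoc] using inv_mem c3) 6
    rw [h2] at this
    rw [← inv_eq_one, ← inv_pow]
    simpa [mul_assoc] using this
  refine ⟨e5, rfl, by rw [pow_succ, e6, one_mul] at e7; exact e7, ?_⟩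
  have e8 : (a * a)⁻¹ * t * (a * a)⁻¹⁻¹ = t⁻¹ := by
    calc (a * a)⁻¹ * t * (a * a)⁻¹⁻¹ = a⁻¹ * (a⁻¹ * t * a⁻¹⁻¹) * a⁻¹⁻¹ := by
          simp [mul_assoc]
      _ = ((a⁻¹ * t * a⁻¹⁻¹) ^ 2)⁻¹ := by rw [conj_pow, e3]; group
      _ = t ^ 5 * t⁻¹ := by rw [e3]; group
      _ = _ := by rw [e5, one_mul]
  have e9 : e⁻¹ = e := inv_eq_of_mul_eq_one_right h3
  have e10 : (a * a)⁻¹ * e * (a * a)⁻¹⁻¹ = e := by
    have h6 : e * a = a⁻¹ * e := by
      rw [← mul_inv_eq_iff_eq_mul, e9, eq_inv_iff_mul_eq_one, h4]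
    calc (a * a)⁻¹ * e * (a * a)⁻¹⁻¹ = a⁻¹ * a⁻¹ * (e * a) * a := by simp [mul_assoc]
      _ = a⁻¹ * a⁻¹ * a⁻¹ * (e * a) := by nth_rewrite 1 [h6]; simp only [mul_assoc]
      _ = (a ^ 4)⁻¹ * e := by rw [h6]; group
      _ = e := by rw [h5]; simp
  have e11 : (e * t) ^ 3 = (e * t⁻¹) ^ 3 := by
    calc (e * t) ^ 3 = (a * a)⁻¹ * (e * t) ^ 3 * (a * a)⁻¹⁻¹ := by
          rw [Subgroup.mem_center_iff.mp c4, mul_inv_cancel_right]
      _ = ((a * a)⁻¹ * e * (a * a)⁻¹⁻¹ * ((a * a)⁻¹ * t * (a * a)⁻¹⁻¹)) ^ 3 := by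
          rw [← conj_pow]; group
      _ = _ := by rw [e8, e10]
  have e12 : (e * t) ^ 3 = (t * e) ^ 3 := by
    calc (e * t) ^ 3 = e⁻¹ * (e * t) ^ 3 * e⁻¹⁻¹ := by
          rw [Subgroup.mem_center_iff.mp c4, mul_inv_cancel_right]
      _ = _ := by rw [← conj_pow]; group
  rw [sq]
  nth_rewrite 1 [e11]
  rw [e12, ← e9, ← mul_inv_rev, e9, inv_pow, inv_mul_cancel]

end

end Cfsg.Agent.L0
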