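import Cfsg.Agent.L0.RAct

/-! Labels: digit vectors in base `2 ^ s` read as products in a commutative group. -/

set_option autoImplicit false

namespace Cfsg.Agent.L0

universe u

/-- digit number `r` in base `2 ^ s` -/
def dgt (s L r : ℕ) : ℕ := L / (2 ^ s) ^ r % 2 ^ s

theorem dgt_zero (s L : ℕ) : dgt s L 0 = L % 2 ^ s := by simp [dgt]
theorem dgt_succ (s L r : ℕ) : dgt s L (r + 1) = dgt s (L / 2 ^ s) r := by
  unfold dgt; rw [Nat.div_div_eq_div_mul, ← pow_succ']

/-- all digits at most `k` -/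
def BndU (s k L : ℕ) : Prop := ∀ r, dgt s L r ≤ k

theorem BndU.mono {s k k' L : ℕ} (h : BndU s k L) (hk : k ≤ k') : BndU s k' L :=
  fun r => (h r).trans hk

theorem bndU_zero (s k : ℕ) : BndU s k 0 := fun r => by simp [dgt]

theorem dgt_add {s : ℕ} (r : ℕ) : ∀ {a b k1 k2 : ℕ}, BndU s k1 a → BndU s k2 b → k1 + k2 < 2 ^ s →
    dgt s (a + b) r = dgt s a r + dgt s b r := by
  induction r with
  | zero =>
    intro a b k1 k2 ha hb h
    have h1 := ha 0; have h2 := hb 0
    simp only [dgt_zero] at *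
    exact Nat.add_mod_of_add_mod_lt (by omega)
  | succ r ih =>
    intro a b k1 k2 ha hb h
    have h1 := ha 0; have h2 := hb 0
    simp only [dgt_zero] at h1 h2
    simp only [dgt_succ]
    rw [Nat.add_div_eq_of_add_mod_lt (by omega)]
    exact ih (fun r => by rw [← dgt_succ]; exact ha _) (fun r => by rw [← dgt_succ]; exact hb _) h

theorem BndU.add {s a b k1 k2 : ℕ} (ha : BndU s k1 a) (hb : BndU s k2 b) (h : k1 + k2 < 2 ^ s) :
    BndU s (k1 + k2) (a + b) := fun r => by
  rw [dgt_add r ha hb h]; exact Nat.add_le_add (ha r) (hb r)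

/-- the unit vector -/
def unitV (s r : ℕ) : ℕ := Nat.shiftLeft 1 (Nat.mul s r)

theorem unitV_eq (s r : ℕ) : unitV s r = (2 ^ s) ^ r := by
  change 1 <<< (s * r) = _
  rw [Nat.shiftLeft_eq, one_mul, pow_mul]

theorem dgt_unit {s : ℕ} (hs : 0 < s) (r r' : ℕ) :
    dgt s (unitV s r) r' = if r' = r then 1 else 0 := by
  have hB : 1 < 2 ^ s := Nat.one_lt_two_pow hs.ne'
  rw [unitV_eq, dgt]
  rcases lt_trichotomy r' r with h | h | h
  · rw [if_neg h.ne, Nat.pow_div h.le (by omega)]
    exact Nat.mod_eq_zero_of_dvd (dvd_pow_self _ (by omega))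
  · rw [if_pos h, h, Nat.div_self (by positivity), Nat.mod_eq_of_lt hB]
  · rw [if_neg h.ne', Nat.div_eq_of_lt (Nat.pow_lt_pow_right hB h), Nat.zero_mod]

theorem bndU_unit {s : ℕ} (hs : 0 < s) (r : ℕ) : BndU s 1 (unitV s r) := fun r' => by
  rw [dgt_unit hs]; split_ifs <;> omega

section dc
variable {A : Type u} [CommGroup A] (z : ℕ → A)

/-- value of a label -/
def dc (s n L : ℕ) : A := ∏ r ∈ Finset.range n, z r ^ dgt s L r

theorem dc_zero (s n : ℕ) : dc z s n 0 = 1 := by simp [dc, dgt]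

theorem dc_add {s n a b k1 k2 : ℕ} (ha : BndU s k1 a) (hb : BndU s k2 b) (h : k1 + k2 < 2 ^ s) :
    dc z s n (a + b) = dc z s n a * dc z s n b := by
  simp only [dc, dgt_add _ ha hb h, pow_add, Finset.prod_mul_distrib]

theorem dc_unit {s n r : ℕ} (hs : 0 < s) (hr : r < n) : dc z s n (unitV s r) = z r := by
  simp only [dc, dgt_unit hs]
  rw [Finset.prod_eq_single r (fun b _ hb => by simp [hb]) (fun h => absurd (by simpa using hr) h)]
  simp

theorem dc_mul {s n a k : ℕ} (ha : BndU s k a) (μ : ℕ) (h : μ * k < 2 ^ s) :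
    BndU s (μ * k) (μ * a) ∧ dc z s n (μ * a) = dc z s n a ^ μ := by
  induction μ with
  | zero => simp [bndU_zero, dc_zero]
  | succ μ ih =>
    obtain ⟨h1, h2⟩ := ih (by nlinarith)
    rw [Nat.succ_mul] at h
    rw [Nat.succ_mul, Nat.succ_mul]
    exact ⟨h1.add ha h, by rw [dc_add z h1 ha h, h2, pow_succ]⟩

theorem dc_mem (B : Subgroup A) (hz : ∀ r, z r ∈ B) (s n L : ℕ) : dc z s n L ∈ B :=
  Subgroup.prod_mem _ fun r _ => pow_mem (hz r) _

/-- digitwise congruence modulo `m` on `n` digits (`msk = 2 ^ s - 1`) -/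
noncomputable def eqmU (s msk m n : ℕ) : ℕ → ℕ → Bool :=
  Nat.rec (motive := fun _ => ℕ → ℕ → Bool) (fun _ _ => true)
    (fun _ ih a b => Bool.rec (motive := fun _ => Bool)
      (Bool.rec (motive := fun _ => Bool) false
        (Nat.rec (motive := fun _ => Bool) false (fun a' _ =>
          Nat.rec (motive := fun _ => Bool) false (fun b' _ => ih a' b')
            (Nat.succ (Nat.shiftRight b s))) (Nat.succ (Nat.shiftRight a s)))
        (Nat.beq (Nat.mod (Nat.land a msk) m) (Nat.mod (Nat.land b msk) m)))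
      true (Nat.beq a b)) n

theorem eqmU_dgt {s msk m n : ℕ} (hm : msk = 2 ^ s - 1) : ∀ {a b : ℕ},
    eqmU s msk m n a b = true → ∀ r < n, dgt s a r % m = dgt s b r % m := by
  induction n with
  | zero => intro a b _ r hr; omega
  | succ n ih =>
    intro a b h r hr
    have e : eqmU s msk m (n + 1) a b = Bool.rec (motive := fun _ => Bool)
      (Bool.rec (motive := fun _ => Bool) false (eqmU s msk m n (a >>> s) (b >>> s))
        (Nat.beq ((a &&& msk) % m) ((b &&& msk) % m))) true (Nat.beq a b) := rfl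
    rw [e] at h
    cases hab : Nat.beq a b with
    | true => rw [Nat.eq_of_beq_eq_true hab]
    | false =>
      rw [hab] at h
      obtain ⟨h1, h2⟩ := brec_true h
      cases r with
      | zero =>
        have := Nat.eq_of_beq_eq_true h1
        rwa [hm, Nat.and_two_pow_sub_one_eq_mod, Nat.and_two_pow_sub_one_eq_mod, ← dgt_zero,
          ← dgt_zero] at this
      | succ r =>
        rw [dgt_succ, dgt_succ, ← Nat.shiftRight_eq_div_pow, ← Nat.shiftRight_eq_div_pow]
        exact ih h2 r (by omega)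

theorem eqmU_spec {s msk m n a b : ℕ} (hm : msk = 2 ^ s - 1) (hz : ∀ r, z r ^ m = 1)
    (h : eqmU s msk m n a b = true) : dc z s n a = dc z s n b := by
  refine Finset.prod_congr rfl fun r hr => ?_
  rw [pow_eq_pow_mod _ (hz r), eqmU_dgt hm h r (Finset.mem_range.mp hr), ← pow_eq_pow_mod _ (hz r)]

/-- all digits at most `k` (fuel `n`) -/
noncomputable def bndB' (s msk k n : ℕ) : ℕ → Bool :=
  Nat.rec (motive := fun _ => ℕ → Bool) (fun a => Nat.beq a 0)
    (fun _ ih a => Bool.rec (motive := fun _ => Bool)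
      (Bool.rec (motive := fun _ => Bool) false
        (Nat.rec (motive := fun _ => Bool) false (fun a' _ => ih a')
          (Nat.succ (Nat.shiftRight a s)))
        (Nat.ble (Nat.land a msk) k))
      true (Nat.beq a 0)) n

theorem bndB'_spec {s msk k n : ℕ} (hm : msk = 2 ^ s - 1) : ∀ {a : ℕ},
    bndB' s msk k n a = true → BndU s k a := by
  induction n with
  | zero => intro a h; rw [Nat.eq_of_beq_eq_true h]; exact bndU_zero _ _
  | succ n ih =>
    intro a h
    have e : bndB' s msk k (n + 1) a = Bool.rec (motive := fun _ => Bool)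
      (Bool.rec (motive := fun _ => Bool) false (bndB' s msk k n (a >>> s))
        (Nat.ble (a &&& msk) k)) true (Nat.beq a 0) := rfl
    rw [e] at h
    cases hab : Nat.beq a 0 with
    | true => rw [Nat.eq_of_beq_eq_true hab]; exact bndU_zero _ _
    | false =>
      rw [hab] at h
      obtain ⟨h1, h2⟩ := brec_true h
      intro r
      cases r with
      | zero =>
        have := Nat.le_of_ble_eq_true h1
        rwa [hm, Nat.and_two_pow_sub_one_eq_mod, ← dgt_zero] at this
      | succ r =>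
        rw [dgt_succ, ← Nat.shiftRight_eq_div_pow]
        exact ih h2 r

/-- add to `acc` the vectors of `l` with coefficients the base `m` digits of `μ`; continue with
the rest of `μ` -/
noncomputable def lin1 (m : ℕ) (l : List ℕ) : ℕ → ℕ → (ℕ → ℕ → Bool) → Bool :=
  List.rec (motive := fun _ => ℕ → ℕ → (ℕ → ℕ → Bool) → Bool) (fun μ acc k => k μ acc)
    (fun C _ ih μ acc k => Nat.rec (motive := fun _ => Bool) false (fun μ' _ =>
      Nat.rec (motive := fun _ => Bool) false (fun acc' _ => ih μ' acc' k)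
        (Nat.succ (Nat.add acc (Nat.mul (Nat.mod μ m) C)))) (Nat.succ (Nat.div μ m))) l

theorem lin1_spec {s n m : ℕ} (hm : 0 < m) (B : Subgroup A) (l : List ℕ) :
    ∀ {μ acc k0 : ℕ} {k : ℕ → ℕ → Bool}, (∀ C ∈ l, BndU s m C ∧ dc z s n C ∈ B) → BndU s k0 acc →
      k0 + l.length * (m * m) < 2 ^ s → lin1 m l μ acc k = true →
      ∃ μ' acc', BndU s (k0 + l.length * (m * m)) acc' ∧
        (dc z s n acc)⁻¹ * dc z s n acc' ∈ B ∧ k μ' acc' = true := by
  induction l with
  | nil => intro μ acc k0 k _ hb _ h; exact ⟨μ, acc, by simpa using hb, by simp, h⟩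
  | cons C l ih =>
    intro μ acc k0 k hl hb hf h
    have e : lin1 m (C :: l) μ acc k = lin1 m l (μ / m) (acc + μ % m * C) k := rfl
    rw [e] at h
    have hC := hl C (by simp)
    have hμ : μ % m * m ≤ m * m := Nat.mul_le_mul_right _ (Nat.mod_lt _ hm).le
    rw [List.length_cons, Nat.succ_mul] at hf ⊢
    obtain ⟨a1, a2⟩ := dc_mul z (n := n) hC.1 (μ % m) (by omega)
    have a3 := a1.mono hμ
    obtain ⟨μ', acc', b1, b2, b3⟩ := ih (fun C hC => hl C (by simp [hC]))
      (hb.add a3 (by omega)) (by omega) h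
    refine ⟨μ', acc', b1.mono (by omega), ?_, b3⟩
    rw [dc_add z hb a3 (by omega), a2] at b2
    have := B.mul_mem (B.pow_mem hC.2 (μ % m)) b2
    convert this using 1
    rw [mul_inv_rev, mul_assoc, mul_inv_cancel_left]

/-- `lin1` over a list of lists -/
noncomputable def lin2 (m : ℕ) (ll : List (List ℕ)) : ℕ → ℕ → (ℕ → Bool) → Bool :=
  List.rec (motive := fun _ => ℕ → ℕ → (ℕ → Bool) → Bool) (fun _ acc k => k acc)
    (fun l _ ih μ acc k => lin1 m l μ acc (fun μ' acc' => ih μ' acc' k)) ll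

theorem lin2_spec {s n m : ℕ} (hm : 0 < m) (B : Subgroup A) (ll : List (List ℕ)) :
    ∀ {μ acc k0 : ℕ} {k : ℕ → Bool}, (∀ l ∈ ll, ∀ C ∈ l, BndU s m C ∧ dc z s n C ∈ B) →
      BndU s k0 acc → k0 + (ll.map List.length).sum * (m * m) < 2 ^ s → lin2 m ll μ acc k = true →
      ∃ acc', (dc z s n acc)⁻¹ * dc z s n acc' ∈ B ∧ k acc' = true := by
  induction ll with
  | nil => intro μ acc k0 k _ _ _ h; exact ⟨acc, by simp, h⟩
  | cons l ll ih =>
    intro μ acc k0 k hl hb hf h
    rw [List.map_cons, List.sum_cons, Nat.add_mul] at hf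
    obtain ⟨μ', acc', b1, b2, b3⟩ := lin1_spec z hm B l (hl l (by simp)) hb (by omega) h
    obtain ⟨acc'', c1, c2⟩ := ih (fun l hl' => hl l (by simp [hl'])) b1 (by omega) b3
    refine ⟨acc'', ?_, c2⟩
    have := B.mul_mem b2 c1
    rwa [mul_assoc, mul_inv_cancel_left] at this

/-- `acc` plus the sum of the vectors `f y` over the letters of the word -/
noncomputable def sumW (f : ℕ → ℕ) (w : List ℕ) : ℕ → ℕ :=
  List.rec (motive := fun _ => ℕ → ℕ) (fun acc => acc)
    (fun y _ ih acc => Nat.rec (motive := fun _ => ℕ) 0 (fun a _ => ih a)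
      (Nat.succ (Nat.add acc (f y)))) w

theorem sumW_spec {s n k1 : ℕ} (f : ℕ → ℕ) (hf : ∀ y, BndU s k1 (f y)) (w : List ℕ) :
    ∀ {acc k0 : ℕ}, BndU s k0 acc → k0 + w.length * k1 < 2 ^ s →
      BndU s (k0 + w.length * k1) (sumW f w acc) ∧
        dc z s n (sumW f w acc) = dc z s n acc * ev (fun y => dc z s n (f y)) w := by
  induction w with
  | nil => intro acc k0 hb _; exact ⟨hb.mono (by simp), by rw [ev_nil, mul_one]; rfl⟩
  | cons y w ih =>
    intro acc k0 hb hk
    have e : sumW f (y :: w) acc = sumW f w (acc + f y) := rfl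
    rw [List.length_cons, Nat.succ_mul] at hk ⊢
    obtain ⟨a1, a2⟩ := ih (hb.add (hf y) (by omega)) (by omega)
    rw [e]
    exact ⟨a1.mono (by omega), by rw [a2, dc_add z hb (hf y) (by omega), ev_cons, mul_assoc]⟩

end dc

/-- number `j` of the list, `0` if there is none -/
noncomputable def nthN (l : List ℕ) (j : ℕ) : ℕ :=
  List.rec (motive := fun _ => ℕ) 0 (fun a _ _ => a) (dropN l j)

theorem nthN_mem (l : List ℕ) (j : ℕ) : nthN l j = 0 ∨ nthN l j ∈ l := by
  unfold nthN
  cases hd : dropN l j with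
  | nil => exact Or.inl rfl
  | cons p t => exact Or.inr (mem_of_dropN hd)

theorem nthN_eq (l : List ℕ) (j : ℕ) : nthN l j = l.getD j 0 := by
  unfold nthN
  rw [dropN_eq]
  induction l generalizing j with
  | nil => rw [List.drop_nil]; rfl
  | cons a l ih =>
    cases j with
    | zero => rfl
    | succ j => exact ih j

end Cfsg.Agent.L0
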