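import Cfsg.Agent.L0.TrivMult
import Cfsg.Agent.L0.PcLab

/-! Lifting subgroups with trivial multiplier to central extensions. -/

set_option autoImplicit false
set_option linter.style.haveILetI false

namespace Cfsg.Agent.L0

open scoped commutatorElement

section
variable {H G Γ : Type} [Group H] [Group G] [Group Γ]

theorem comm_mul_central {a b c d : Γ} (hc : c ∈ Subgroup.center Γ) (hd : d ∈ Subgroup.center Γ) :
    ⁅a * c, b * d⁆ = ⁅a, b⁆ := by
  have hc' := Subgroup.mem_center_iff.mp hc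
  have hd' := Subgroup.mem_center_iff.mp hd
  rw [commutatorElement_def, commutatorElement_def]
  calc a * c * (b * d) * (a * c)⁻¹ * (b * d)⁻¹
      = a * (c * (b * d) * c⁻¹) * (a⁻¹ * d⁻¹) * b⁻¹ := by group
    _ = a * b * (d * a⁻¹ * d⁻¹) * b⁻¹ := by rw [← hc' (b * d)]; group
    _ = _ := by rw [← hd' a⁻¹]; group

theorem lift_unique (hp : commutator H = ⊤) {σ : Γ →* G} (hc : σ.ker ≤ Subgroup.center Γ)
    {f f' : H →* Γ} (h : ∀ x, σ (f x) = σ (f' x)) : f = f' := by
  have : commutator H ≤ f.eqLocus f' := by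
    rw [commutator_def, Subgroup.commutator_le]
    intro a _ b _
    have k : ∀ x, (f x)⁻¹ * f' x ∈ Subgroup.center Γ := fun x => hc (by
      rw [MonoidHom.mem_ker, map_mul, map_inv, h, inv_mul_cancel])
    change f ⁅a, b⁆ = f' ⁅a, b⁆
    rw [map_commutatorElement, map_commutatorElement, ← comm_mul_central (k a) (k b)]
    simp
  ext x
  exact this (hp ▸ Subgroup.mem_top x)

theorem exists_lift_perfect [Finite H] (hp : commutator H = ⊤)
    (hM : UpperMult H (Multiplicative (ZMod 1))) (φ : H →* G) {σ : Γ →* G}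
    (hs : Function.Surjective σ) (hc : σ.ker ≤ Subgroup.center Γ) :
    ∃ ψ : H →* Γ, ∀ x, σ (ψ x) = φ x := by
  let P : Subgroup (H × Γ) := (φ.comp (MonoidHom.fst H Γ)).eqLocus (σ.comp (MonoidHom.snd H Γ))
  let π : P →* H := (MonoidHom.fst H Γ).comp P.subtype
  have hπ : Function.Surjective π := fun x => by
    obtain ⟨y, hy⟩ := hs (φ x)
    exact ⟨⟨(x, y), hy.symm⟩, rfl⟩
  have hk : π.ker ≤ Subgroup.center P := fun x hx => by
    have h1 : x.val.1 = 1 := hx
    have h2 : x.val.2 ∈ σ.ker := by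
      have : φ x.val.1 = σ x.val.2 := x.prop
      rw [MonoidHom.mem_ker, ← this, h1, map_one]
    rw [Subgroup.mem_center_iff]
    intro y
    exact Subtype.ext (Prod.ext (by simp [h1]) (Subgroup.mem_center_iff.mp (hc h2) _))
  have hmap : (commutator P).map π = ⊤ := by
    rw [commutator_def, Subgroup.map_commutator, Subgroup.map_top_of_surjective _ hπ,
      ← commutator_def, hp]
  have hdec : ∀ a : P, ∃ b ∈ commutator P, ∃ c ∈ Subgroup.center P, a = b * c := by
    intro a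
    obtain ⟨b, hb, e⟩ : π a ∈ (commutator P).map π := hmap ▸ Subgroup.mem_top _
    exact ⟨b, hb, b⁻¹ * a, hk (by rw [MonoidHom.mem_ker, map_mul, map_inv, e, inv_mul_cancel]),
      by group⟩
  have hcc : commutator P ≤ ⁅commutator P, commutator P⁆ := by
    rw [commutator_def, Subgroup.commutator_le]
    intro a _ b _
    obtain ⟨a', ha, c, hc, rfl⟩ := hdec a
    obtain ⟨b', hb, d, hd, rfl⟩ := hdec b
    rw [comm_mul_central hc hd]
    exact Subgroup.commutator_mem_commutator ha hb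
  have hpp : commutator (commutator P) = ⊤ := by
    rw [eq_top_iff]
    intro x _
    have h3 : (commutator (commutator P)).map (commutator P).subtype =
        ⁅commutator P, commutator P⁆ := by
      rw [commutator_def (commutator P), Subgroup.map_commutator, ← MonoidHom.range_eq_map,
        Subgroup.range_subtype]
    obtain ⟨y, hy, e⟩ : x.val ∈ (commutator (commutator P)).map (commutator P).subtype :=
      h3 ▸ hcc x.prop
    rwa [← Subtype.ext e]
  let τ : commutator P →* H := π.comp (commutator P).subtype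
  have hτk : τ.ker ≤ Subgroup.center _ := fun x hx =>
    Subgroup.mem_center_iff.mpr fun y => Subtype.ext (Subgroup.mem_center_iff.mp (hk hx) y)
  have hτs : Function.Surjective τ := fun y => by
    obtain ⟨b, hb, e⟩ : y ∈ (commutator P).map π := hmap ▸ Subgroup.mem_top _
    exact ⟨⟨b, hb⟩, e⟩
  haveI := finite_of_perfect_central τ hτk hpp
  obtain ⟨ρ, hρ⟩ := hM _ τ ⟨hτs, hτk, by rw [hpp]; exact le_top⟩
  have hi : Function.Injective τ := by
    rw [injective_iff_map_eq_one]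
    intro x hx
    obtain ⟨a, ha⟩ := hρ ⟨x, hx⟩
    rw [Subsingleton.elim a 1, map_one] at ha
    exact (congrArg Subtype.val ha).symm
  let e := MulEquiv.ofBijective τ ⟨hi, hτs⟩
  refine ⟨(MonoidHom.snd H Γ).comp (P.subtype.comp ((commutator P).subtype.comp
    e.symm.toMonoidHom)), fun x => ?_⟩
  have h1 : φ (e.symm x).val.val.1 = σ (e.symm x).val.val.2 := (e.symm x).val.prop
  have h2 : (e.symm x).val.val.1 = x := e.apply_symm_apply x
  rw [h2] at h1
  exact h1.symm

theorem exists_lift_ext [Finite H] {N : Subgroup H} (hp : commutator N = ⊤)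
    (hM : UpperMult N (Multiplicative (ZMod 1))) {ζ : H} {m : ℕ} (hm : m.Prime) (h1 : ζ ^ m = 1)
    (h2 : ζ ∉ N) (h3 : ∀ n ∈ N, ζ * n * ζ⁻¹ ∈ N) (h4 : N ⊔ Subgroup.zpowers ζ = ⊤) (φ : H →* G)
    {σ : Γ →* G} (hs : Function.Surjective σ) (hc : σ.ker ≤ Subgroup.center Γ) {η : Γ}
    (h5 : σ η = φ ζ) (h6 : η ^ m = 1) : ∃ ψ : H →* Γ, (∀ x, σ (ψ x) = φ x) ∧ ψ ζ = η := by
  obtain ⟨ψ, hψ⟩ := exists_lift_perfect hp hM (φ.comp N.subtype) hs hc
  haveI : N.Normal := by
    rw [← Subgroup.normalizer_eq_top_iff, eq_top_iff, ← h4, sup_le_iff, Subgroup.zpowers_le]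
    exact ⟨Subgroup.le_normalizer, Subgroup.mem_normalizer_fintype h3⟩
  have hconj : ∀ (j : ℤ) (n : N), η ^ j * ψ n * (η ^ j)⁻¹ = ψ (MulAut.conjNormal (ζ ^ j) n) := by
    intro j n
    have := lift_unique hp hc (f := (MulAut.conj (η ^ j)).toMonoidHom.comp ψ)
      (f' := ψ.comp (MulAut.conjNormal (ζ ^ j)).toMonoidHom) fun x => by
        change σ (η ^ j * ψ x * (η ^ j)⁻¹) = σ (ψ (MulAut.conjNormal (ζ ^ j) x))
        rw [hψ, map_mul, map_mul, map_inv, map_zpow, hψ, h5, MonoidHom.comp_apply,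
          MonoidHom.comp_apply, Subgroup.subtype_apply, Subgroup.subtype_apply,
          MulAut.conjNormal_apply, map_mul, map_mul, map_inv, map_zpow]
    exact DFunLike.congr_fun this n
  let Rl : H → Γ → Prop := fun h γ => ∃ (n : N) (j : ℤ), h = n * ζ ^ j ∧ γ = ψ n * η ^ j
  have tot : ∀ h, ∃ γ, Rl h γ := fun h => by
    have : h ∈ ((N ⊔ Subgroup.zpowers ζ : Subgroup H) : Set H) := h4 ▸ Subgroup.mem_top h
    rw [Subgroup.normal_mul] at this
    obtain ⟨n, hn, _, ⟨j, rfl⟩, rfl⟩ := this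
    exact ⟨_, ⟨n, hn⟩, j, rfl, rfl⟩
  have mul : ∀ {a b γ δ}, Rl a γ → Rl b δ → Rl (a * b) (γ * δ) := by
    rintro _ _ _ _ ⟨n, j, rfl, rfl⟩ ⟨n', j', rfl, rfl⟩
    refine ⟨n * MulAut.conjNormal (ζ ^ j) n', j + j', ?_, ?_⟩
    · rw [Subgroup.coe_mul, MulAut.conjNormal_apply, zpow_add]; group
    · rw [map_mul, ← hconj, zpow_add]; group
  have fn : ∀ {a γ δ}, Rl a γ → Rl a δ → γ = δ := by
    rintro _ _ _ ⟨n, j, rfl, rfl⟩ ⟨n', j', e, rfl⟩
    have e1 : ζ ^ (j - j') ∈ N := by
      have : ζ ^ (j - j') = (n⁻¹ * n' : N) := by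
        rw [zpow_sub, Subgroup.coe_mul, Subgroup.coe_inv, eq_inv_mul_iff_mul_eq, ← mul_assoc, e]
        group
      rw [this]; exact SetLike.coe_mem _
    have e2 : (m : ℤ) ∣ j - j' := by
      by_contra hd
      obtain ⟨u, v, huv⟩ := (Int.isCoprime_iff_gcd_eq_one.mpr
        ((Nat.Prime.coprime_iff_not_dvd hm).mpr (mt Int.natCast_dvd.mpr hd)) :
          IsCoprime (m : ℤ) (j - j'))
      apply h2
      have : ζ = (ζ ^ (j - j')) ^ v := by
        rw [← zpow_mul, show (j - j') * v = 1 - (m : ℤ) * u by linarith, zpow_sub, zpow_mul,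
          zpow_natCast, h1]; simp
      rw [this]; exact N.zpow_mem e1 _
    obtain ⟨q, hq⟩ := e2
    obtain rfl : j = j' + m * q := by linarith
    rw [zpow_add, zpow_mul, zpow_natCast, h1, one_zpow, mul_one, mul_left_inj] at e
    rw [zpow_add, zpow_mul, zpow_natCast, h6, one_zpow, mul_one, Subtype.ext e]
  choose f hf using tot
  refine ⟨MonoidHom.mk' f fun a b => fn (hf _) (mul (hf a) (hf b)), fun x => ?_,
    fn (hf ζ) ⟨1, 1, by simp, by simp⟩⟩
  obtain ⟨n, j, e1, e2⟩ := hf x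
  change σ (f x) = _
  rw [e2, e1, map_mul, map_mul, map_zpow, map_zpow, hψ, h5]; rfl

theorem mem_range_of_section {σ : Γ →* G} (hc : σ.ker ≤ Subgroup.center Γ) {f : G →* Γ}
    (hf : ∀ x, σ (f x) = x) : commutator Γ ≤ f.range := by
  rw [commutator_def, Subgroup.commutator_le]
  intro a _ b _
  have k : ∀ x, (f (σ x))⁻¹ * x ∈ Subgroup.center Γ := fun x => hc (by
    rw [MonoidHom.mem_ker, map_mul, map_inv, hf, inv_mul_cancel])
  refine ⟨⁅σ a, σ b⁆, ?_⟩
  rw [map_commutatorElement, ← comm_mul_central (k a) (k b)]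
  simp

theorem upper_of_trivial
    (h : ∀ (Γ : Type) [Group Γ] [Finite Γ] (σ : Γ →* G), IsStemExtension σ → ∀ a ∈ σ.ker, a = 1) :
    UpperMult G (Multiplicative (ZMod 1)) := fun Γ _ _ σ hσ =>
  ⟨1, fun a => ⟨1, Subtype.ext (h Γ σ hσ a.val a.prop).symm⟩⟩

theorem upper_of_section
    (h : ∀ (Γ : Type) [Group Γ] (σ : Γ →* G), Function.Surjective σ →
      σ.ker ≤ Subgroup.center Γ → ∃ f : G →* Γ, ∀ x, σ (f x) = x) :
    UpperMult G (Multiplicative (ZMod 1)) := upper_of_trivial fun Γ _ _ σ hσ a ha => by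
  obtain ⟨f, hf⟩ := h Γ σ hσ.1 hσ.2.1
  obtain ⟨y, rfl⟩ := mem_range_of_section hσ.2.1 hf (hσ.2.2 ha)
  rw [MonoidHom.mem_ker, hf] at ha
  rw [ha, map_one]

/-- one may assume that a given element of order `m` lifts to an element of order `m` -/
theorem upper_of_section_root (ζ : G) {m : ℕ} (hm : m ≠ 0) (hζ : ζ ^ m = 1)
    (h : ∀ (Γ : Type) [Group Γ] (σ : Γ →* G), Function.Surjective σ →
      σ.ker ≤ Subgroup.center Γ → ∀ η, σ η = ζ → η ^ m = 1 → ∃ f : G →* Γ, ∀ x, σ (f x) = x) :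
    UpperMult G (Multiplicative (ZMod 1)) := upper_of_trivial fun Γ _ _ σ hσ a ha => by
  obtain ⟨η, hη⟩ := hσ.1 ζ
  have hc : η ^ m ∈ σ.ker := by rw [MonoidHom.mem_ker, map_pow, hη, hζ]
  let B : Subgroup (Γ × Multiplicative ℤ) := Subgroup.zpowers (η ^ m, Multiplicative.ofAdd (m : ℤ))
  haveI : B.Normal := normal_of_le_center (by
    rw [Subgroup.zpowers_le, Subgroup.mem_center_iff]
    intro y
    exact Prod.ext (Subgroup.mem_center_iff.mp (hσ.2.1 hc) _) (mul_comm _ _))
  let τ := QuotientGroup.lift B (σ.comp (MonoidHom.fst _ _)) (by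
    rw [Subgroup.zpowers_le]; exact hc)
  have hτ : ∀ y : Γ × Multiplicative ℤ, τ y = σ y.1 := fun y => rfl
  have hk : τ.ker ≤ Subgroup.center _ := fun x hx => by
    obtain ⟨y, rfl⟩ := QuotientGroup.mk_surjective x
    rw [Subgroup.mem_center_iff]
    intro w
    obtain ⟨v, rfl⟩ := QuotientGroup.mk_surjective w
    rw [← QuotientGroup.mk_mul, ← QuotientGroup.mk_mul]
    congr 1
    exact Prod.ext (Subgroup.mem_center_iff.mp (hσ.2.1 (show y.1 ∈ σ.ker from hx)) _) (mul_comm _ _)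
  obtain ⟨f, hf⟩ := h _ τ (fun x => by
    obtain ⟨y, rfl⟩ := hσ.1 x
    exact ⟨((y, 1) : Γ × Multiplicative ℤ), rfl⟩) hk
    ((η, Multiplicative.ofAdd 1) : Γ × Multiplicative ℤ) hη (by
      rw [← QuotientGroup.mk_pow, QuotientGroup.eq_one_iff]
      exact ⟨1, by simp [← ofAdd_nsmul]⟩)
  let ι : Γ →* (Γ × Multiplicative ℤ) ⧸ B := (QuotientGroup.mk' B).comp (MonoidHom.inl _ _)
  have h1 : ι a ∈ commutator _ := by
    have := Subgroup.mem_map_of_mem ι (hσ.2.2 ha)
    rw [commutator_def, Subgroup.map_commutator] at this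
    exact Subgroup.commutator_mono le_top le_top this
  obtain ⟨y, hy⟩ := mem_range_of_section hk hf h1
  have h2 : y = 1 := by rw [← hf y, hy]; exact ha
  rw [h2, map_one, eq_comm] at hy
  obtain ⟨j, hj⟩ := (QuotientGroup.eq_one_iff _).mp hy
  have h3 : j = 0 := by
    have := congrArg (fun p => Multiplicative.toAdd p.2) hj
    simpa [hm] using this
  simpa [h3] using (congrArg Prod.fst hj).symm

end

theorem RAct.Tab.genLet {G : Type} [Group G] {N : ℕ} {A : RAct G N} {g : ℕ → G} {k : ℕ}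
    {T : ℕ → ℕ → ℕ} (h : A.Tab g k T) {l : List ℕ} (hl : (l.all fun i => decide (i < k)) = true) :
    (A.comap (genL (fun i => g (nthN l i)) (List.range l.length)).subtype).Tab
      (genLet (fun i => g (nthN l i)) l.length) l.length fun c i => T c (nthN l i) := by
  intro i hi c hc
  have : nthN l i < k := by
    rw [nthN_eq, List.getD_eq_getElem _ _ hi]
    simpa using List.all_eq_true.mp hl _ (List.getElem_mem hi)
  refine Eq.trans ?_ (h _ this c hc)
  simp [RAct.comap, L0.genLet, hi]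

end Cfsg.Agent.L0
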