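import Cfsg.Agent.L0.Dce
import Cfsg.Agent.L0.DceM

/-! From a presentation to the hypotheses of a double coset enumeration. -/

set_option autoImplicit false
set_option linter.style.haveILetI false

namespace Cfsg.Agent.L0

universe u

/-- free reduction -/
def rd (n : ℕ) (iv : ℕ → ℕ) : List ℕ → List ℕ
  | [] => []
  | a :: w => match rd n iv w with
    | [] => [a]
    | b :: l => if a < n ∧ b = iv a then l else a :: b :: l

/-- cyclic reduction -/
def cy (n : ℕ) (iv : ℕ → ℕ) : ℕ → List ℕ → List ℕ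
  | 0, w => w
  | _, [] => []
  | f + 1, a :: l => if (rd n iv (l ++ [a])).length < l.length then cy n iv f (rd n iv (l ++ [a]))
      else a :: l

/-- normal form up to rotation -/
def nf (n : ℕ) (iv : ℕ → ℕ) (w : List ℕ) : List ℕ := cy n iv w.length (rd n iv w)

/-- rotations -/
def rotB (a b : List ℕ) : Bool :=
  a.length == b.length && (List.range a.length).any fun i => a.rotate i == b

/-- `w` is freely conjugate to the empty word, to a word of `K` or to its inverse -/
def consB (n : ℕ) (iv : ℕ → ℕ) (K : List (List ℕ)) (w : List ℕ) : Bool :=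
  nf n iv w == [] || K.any fun r => rotB (nf n iv r) (nf n iv w) ||
    (r.all (fun y => decide (y < n)) && rotB (nf n iv (r.map iv).reverse) (nf n iv w))

section
variable {Γ : Type u} [Group Γ] {y : ℕ → Γ} {n : ℕ} {iv : ℕ → ℕ}

theorem ev_rd (h : ∀ a < n, y (iv a) = (y a)⁻¹) (w : List ℕ) : ev y (rd n iv w) = ev y w := by
  induction w with
  | nil => rfl
  | cons a w ih =>
    rw [ev_cons, ← ih, rd]
    cases rd n iv w with
    | nil => simp
    | cons b l =>
      dsimp only
      split_ifs with h1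
      · rw [ev_cons, h1.2, h a h1.1]; simp
      · simp

theorem ev_cy (h : ∀ a < n, y (iv a) = (y a)⁻¹) (f : ℕ) :
    ∀ w, ev y (cy n iv f w) = 1 ↔ ev y w = 1 := by
  induction f with
  | zero => intro w; rfl
  | succ f ih =>
    intro w
    cases w with
    | nil => rfl
    | cons a l =>
      rw [cy]
      split_ifs
      · rw [ih, ev_rd h, ev_append, ev_singleton, ev_cons, mul_eq_one_comm]
      · rfl

theorem ev_nf (h : ∀ a < n, y (iv a) = (y a)⁻¹) (w : List ℕ) : ev y (nf n iv w) = 1 ↔ ev y w = 1 := by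
  rw [nf, ev_cy h, ev_rd h]

theorem ev_rotB {a b : List ℕ} (e : rotB a b = true) (h : ev y a = 1) : ev y b = 1 := by
  simp only [rotB, Bool.and_eq_true, List.any_eq_true, beq_iff_eq, List.mem_range] at e
  obtain ⟨-, i, hi, rfl⟩ := e
  rw [List.rotate_eq_drop_append_take hi.le, ev_append, mul_eq_one_comm, ← ev_append,
    List.take_append_drop, h]

theorem ev_inv_word (h : ∀ a < n, y (iv a) = (y a)⁻¹) {w : List ℕ} (hw : ∀ a ∈ w, a < n) :
    ev y (w.map iv).reverse = (ev y w)⁻¹ := by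
  induction w with
  | nil => simp
  | cons a w ih =>
    rw [List.map_cons, List.reverse_cons, ev_append, ih fun b hb => hw b (by simp [hb]),
      ev_singleton, ev_cons, mul_inv_rev, h a (hw a (by simp))]

theorem consB_spec (h : ∀ a < n, y (iv a) = (y a)⁻¹) {K : List (List ℕ)}
    (hK : ∀ r ∈ K, ev y r = 1) {w : List ℕ} (e : consB n iv K w = true) : ev y w = 1 := by
  simp only [consB, Bool.or_eq_true, List.any_eq_true, beq_iff_eq, Bool.and_eq_true,
    List.all_eq_true, decide_eq_true_eq] at e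
  rw [← ev_nf h]
  rcases e with e | ⟨r, hr, e | ⟨e1, e⟩⟩
  · rw [e, ev_nil]
  · exact ev_rotB e ((ev_nf h r).mpr (hK r hr))
  · exact ev_rotB e ((ev_nf h _).mpr (by rw [ev_inv_word h e1, hK r hr, inv_one]))

theorem cons_all (h : ∀ a < n, y (iv a) = (y a)⁻¹) {K : List (List ℕ)}
    (hK : ∀ r ∈ K, ev y r = 1) {L : List (List ℕ)} (e : L.all (consB n iv K) = true) :
    ∀ w ∈ L, ev y w = 1 := fun w hw => consB_spec h hK (List.all_eq_true.mp e w hw)

theorem iv_of_rel {R : List (List ℕ)} (hR : ∀ r ∈ R, ev y r = 1)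
    (e : ((List.range n).all fun a => R.contains [a, iv a]) = true) :
    ∀ a < n, y (iv a) = (y a)⁻¹ := fun a ha => by
  have := hR _ (by simpa using List.all_eq_true.mp e a (List.mem_range.mpr ha))
  exact eq_inv_of_mul_eq_one_right (by simpa using this)

theorem forall_app {K L : List (List ℕ)} (h1 : ∀ r ∈ K, ev y r = 1) (h2 : ∀ r ∈ L, ev y r = 1) :
    ∀ r ∈ K ++ L, ev y r = 1 := fun r hr => (List.mem_append.mp hr).elim (h1 r) (h2 r)

end

theorem PG.perfect {k : ℕ} {R : List (List ℕ)} (hk : lettersLt k R = true)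
    {Ls : List (List (ℤ × ℕ))}
    (hL : ((List.range k).all fun i => unitExp k R i (Ls.getD i [])) = true) :
    commutator (PG k R) = ⊤ :=
  PG.eq_top_of_gen_mem _ fun i hi => by
    rw [← Abelianization.ker_of, MonoidHom.mem_ker]
    refine eq_one_of_unitExp (fun i => Abelianization.of (PG.gen k R i)) hk (fun r hr => ?_) hi
      (List.all_eq_true.mp hL i (List.mem_range.mpr hi))
    rw [← map_ev, PG.rel hr, map_one]

namespace Dce

open scoped IsMulCommutative

variable {H : Type} [Group H] {N : ℕ} {Γ : Type} [Group Γ] {G : Type} [Group G]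
  {P : Par} {A : RAct H N} {g : ℕ → H} {φ : H →* Γ} {z : Γ}

theorem CtxH.xiv (h : CtxH P A g) (φ : H →* Γ) (z : Γ) :
    ∀ a < P.k + 2, XX P.k g φ z (P.iv a) = (XX P.k g φ z a)⁻¹ := fun a ha => by
  have := h.ev_inv (φ := φ) (z := z) (w := [a]) (by simpa using Nat.lt_succ_iff.mp ha)
  simpa [Par.inv] using this

theorem ctxH_of {R : List (List ℕ)} (tab : A.Tab g P.k P.T) (base : A.IsBase P.bs)
    (hR : ∀ r ∈ R, ev g r = 1)
    (e : (P.bs.all (fun b => decide (b < N)) &&
      ((List.range P.k).all fun a => R.contains [a, P.iv a]) &&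
      ((List.range P.k).all fun a => decide (P.iv a < P.k)) && P.iv P.k == P.k + 1 &&
      P.iv (P.k + 1) == P.k && P.ok P.jp && P.ok P.jq && P.W 0 == [] && P.W 1 == [P.k]) = true) :
    CtxH P A g := by
  simp only [Bool.and_eq_true, beq_iff_eq] at e
  obtain ⟨⟨⟨⟨⟨⟨⟨⟨e1, e2⟩, e3⟩, e4⟩, e5⟩, e6⟩, e7⟩, e8⟩, e9⟩ := e
  exact ⟨tab, base, by simpa using e1,
    fun a ha => ⟨by simpa using List.all_eq_true.mp e3 a (List.mem_range.mpr ha),
      iv_of_rel hR e2 a ha⟩, ⟨e4, e5⟩, e6, e7, e8, e9⟩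

/-- the word for a vector of exponents -/
def cw (L : List (List ℕ)) : ℕ → List ℕ → List ℕ
  | _, [] => []
  | i, x :: l => (List.replicate x (L.getD i [])).flatten ++ cw L (i + 1) l

theorem ev_cw {y : ℕ → Γ} {L : List (List ℕ)} {c : ℕ → Subgroup.center Γ}
    (hc : ∀ i, (c i : Γ) = ev y (L.getD i [])) (l : List ℕ) :
    ∀ i, (cv c i l : Subgroup.center Γ) = ev y (cw L i l) := by
  induction l with
  | nil => intro i; rfl
  | cons x l ih =>
    intro i
    rw [cv_cons, cw, ev_append, ev_replicate_flatten, Subgroup.coe_mul, ih, Subgroup.coe_pow, hc]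

/-- the relators of the data hold with the labels `L`, by the relators `K` -/
noncomputable def ctxB (P : Par) (L K : List (List ℕ)) : Bool :=
  ((P.k :: wd P.jp ++ P.k :: wd P.jq, P.lm, P.lp) :: P.R).all fun r =>
    (cw L 0 r.2.1).all (fun y => decide (y < P.k + 2)) &&
      consB (P.k + 2) P.iv K (r.1 ++ cw L 0 r.2.2 ++ ((cw L 0 r.2.1).map P.iv).reverse)

theorem ctxG_of (h : CtxH P A g) {L K : List (List ℕ)} {c : ℕ → Subgroup.center Γ}
    (hc : ∀ i, (c i : Γ) = ev (XX P.k g φ z) (L.getD i []))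
    (hK : ∀ r ∈ K, ev (XX P.k g φ z) r = 1) (e : ctxB P L K = true) : CtxG P g φ z c := by
  have key : ∀ r ∈ (P.k :: wd P.jp ++ P.k :: wd P.jq, P.lm, P.lp) :: P.R,
      ev (XX P.k g φ z) r.1 = (lv c r.2.1 r.2.2 : Subgroup.center Γ) := fun r hr => by
    have := List.all_eq_true.mp e r hr
    simp only [Bool.and_eq_true, List.all_eq_true, decide_eq_true_eq] at this
    have h2 := consB_spec (h.xiv φ z) hK this.2
    rw [ev_append, ev_append, ev_inv_word (h.xiv φ z) this.1, ← ev_cw hc, ← ev_cw hc,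
      mul_inv_eq_one, ← eq_mul_inv_iff_mul_eq] at h2
    rw [h2, lv]; rfl
  refine ⟨?_, fun r hr => key r (List.mem_cons_of_mem _ hr)⟩
  have := key _ List.mem_cons_self
  simp only [List.cons_append, ev_cons, ev_append, ev_XX (ok_spec h.jp), ev_XX (ok_spec h.jq),
    show XX P.k g φ z P.k = z by simp [XX]] at this
  rw [lv_swap] at this
  rw [inv_eq_iff_mul_eq_one, ← mul_assoc, el, el, mul_assoc (φ _), this]
  simp

theorem ctxG_one (h : CtxH P A g) {K : List (List ℕ)} (hK : ∀ r ∈ K, ev (XX P.k g φ z) r = 1)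
    (e : ctxB P [] K = true) : CtxG P g φ z fun _ => 1 :=
  ctxG_of h (L := []) (fun _ => rfl) hK e

theorem rel_XX {k : ℕ} {R : List (List ℕ)} (hk : lettersLt k R = true) (hR : ∀ r ∈ R, ev g r = 1)
    (φ : H →* Γ) (z : Γ) : ∀ r ∈ R, ev (XX k g φ z) r = 1 := fun r hr => by
  rw [ev_congr (x := XX k g φ z) (x' := fun a => φ (g a)) fun a ha =>
    if_pos (lettersLt_iff.mp hk r hr a ha), ← map_ev, hR r hr, map_one]

theorem map_XX {k : ℕ} {σ : Γ →* G} {φ' : H →* G} (hφ : ∀ x, σ (φ x) = φ' x) (w : List ℕ) :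
    σ (ev (XX k g φ z) w) = ev (XX k g φ' (σ z)) w := by
  rw [map_ev]
  refine ev_congr fun a _ => ?_
  unfold XX
  split_ifs <;> simp [hφ]

/-- the labels are the values of the words of `L` -/
theorem labels (h : CtxH P A g) {σ : Γ →* G} (hσ : σ.ker ≤ Subgroup.center Γ) {φ' : H →* G}
    (hφ : ∀ x, σ (φ x) = φ' x) {L K : List (List ℕ)} (hL : ∀ r ∈ L, ev (XX P.k g φ' (σ z)) r = 1)
    (hK : ∀ r ∈ K, ev (XX P.k g φ z) r = 1) (e : ctxB P L K = true)
    (hrel : ∀ c : ℕ → Subgroup.center Γ, CtxG P g φ z c → ∀ i < L.length, c i = 1) :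
    ∀ r ∈ P.R.map Prod.fst, ev (XX P.k g φ z) r = 1 := by
  have hm : ∀ i, ev (XX P.k g φ z) (L.getD i []) ∈ Subgroup.center Γ := fun i => hσ (by
    rw [MonoidHom.mem_ker, map_XX hφ]
    by_cases hi : i < L.length
    · rw [List.getD_eq_getElem _ _ hi]; exact hL _ (List.getElem_mem hi)
    · rw [List.getD_eq_default _ _ (not_lt.mp hi), ev_nil])
  have hG := ctxG_of h (c := fun i => ⟨_, hm i⟩) (fun _ => rfl) hK e
  have h1 : (fun i => (⟨_, hm i⟩ : Subgroup.center Γ)) = fun _ => 1 := funext fun i => by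
    by_cases hi : i < L.length
    · exact hrel _ hG i hi
    · exact Subtype.ext (congrArg (ev _) (List.getD_eq_default _ _ (not_lt.mp hi)))
  rw [h1] at hG
  intro r hr
  obtain ⟨q, hq, rfl⟩ := List.mem_map.mp hr
  rw [hG.R q hq, lv, cv_one, cv_one]; simp

theorem ev_XX_mul {k : ℕ} {t : Γ} (ht : t ∈ Subgroup.center Γ) (w : List ℕ) :
    ev (XX k g φ (z * t)) w * t ^ (w.countP fun a => decide (k < a)) =
      ev (XX k g φ z) w * t ^ w.count k := by
  have hc := Subgroup.mem_center_iff.mp ht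
  induction w with
  | nil => simp
  | cons a w ih =>
    rw [ev_cons, ev_cons, List.countP_cons, List.count_cons, pow_add, pow_add, ← mul_assoc,
      mul_assoc _ (ev _ w), ih]
    rcases lt_trichotomy a k with h1 | rfl | h1
    · simp [XX, h1, h1.ne, not_lt.mpr h1.le, mul_assoc]
    · simp only [XX, lt_irrefl, if_false, if_true, decide_false, beq_self_eq_true]
      simp [mul_assoc, ← hc]
    · simp only [XX, not_lt.mpr h1.le, h1.ne', if_false, h1, decide_true, if_true, beq_iff_eq]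
      simp only [mul_inv_rev, pow_one, pow_zero, mul_one, mul_assoc]
      rw [← mul_assoc (ev _ w), hc, ← mul_assoc z⁻¹, hc]; simp [mul_assoc]

/-- the lift of `z` can be chosen to satisfy a relator with exponent one -/
theorem exists_norm {k : ℕ} {σ : Γ →* G} (hs : Function.Surjective σ)
    (hσ : σ.ker ≤ Subgroup.center Γ) {φ' : H →* G} (hφ : ∀ x, σ (φ x) = φ' x) {z' : G}
    {w v : List ℕ} (hw : ev (XX k g φ' z') w = 1) (hv : ev (XX k g φ' z') v = 1)
    (e : ((w ++ v).count k == (w ++ v).countP (fun a => decide (k < a)) + 1) = true) :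
    ∃ z, σ z = z' ∧ ∀ r ∈ [w ++ v], ev (XX k g φ z) r = 1 := by
  obtain ⟨z, rfl⟩ := hs z'
  have h1 : (ev (XX k g φ z) (w ++ v))⁻¹ ∈ σ.ker := by
    rw [inv_mem_iff, MonoidHom.mem_ker, map_XX hφ, ev_append, hw, hv, one_mul]
  refine ⟨z * (ev (XX k g φ z) (w ++ v))⁻¹, by rw [map_mul, h1, mul_one], ?_⟩
  have := ev_XX_mul (k := k) (g := g) (φ := φ) (z := z) (hσ h1) (w ++ v)
  rw [beq_iff_eq.mp e, pow_succ', mul_inv_cancel_left, mul_eq_right] at this
  simpa using this

/-- a section from the relators in the letters of the enumeration -/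
theorem section_of (h : CtxH P A g) {x : ℕ → G} {n : ℕ} {R : List (List ℕ)} (hP : IsPres x n R)
    {σ : Γ →* G} {φ' : H →* G} (hφ : ∀ x, σ (φ x) = φ' x) {s : ℕ → List ℕ}
    (hs : ∀ i < n, x i = ev (XX P.k g φ' (σ z)) (s i)) {K : List (List ℕ)}
    (hK : ∀ r ∈ K, ev (XX P.k g φ z) r = 1)
    (e : (R.map fun r => r.flatMap s).all (consB (P.k + 2) P.iv K) = true) :
    ∃ f : G →* Γ, ∀ a, σ (f a) = a := by
  obtain ⟨f, hf⟩ := hP.exists_hom (fun i => ev (XX P.k g φ z) (s i)) fun r hr => by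
    rw [← ev_flatMap]
    exact cons_all (h.xiv φ z) hK e _ (List.mem_map_of_mem hr)
  have : (σ.comp f).eqLocus (MonoidHom.id G) = ⊤ := by
    rw [eq_top_iff, ← hP.gen_top]
    exact genL_le fun i hi => by
      have hi := List.mem_range.mp hi
      change σ (f (x i)) = x i
      rw [hf i hi, map_XX hφ, ← hs i hi]
  exact ⟨f, fun a => (this ▸ Subgroup.mem_top a : a ∈ (σ.comp f).eqLocus (MonoidHom.id G))⟩

theorem gen_of {k : ℕ} {x : ℕ → Γ} {n : ℕ} (ht : genL x (List.range n) = ⊤) {s : ℕ → List ℕ}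
    (hs : ∀ i < n, x i = ev (XX k g φ z) (s i)) (S : Subgroup Γ) (h1 : ∀ a, φ a ∈ S)
    (h2 : z ∈ S) : S = ⊤ := by
  rw [eq_top_iff, ← ht]
  refine genL_le fun i hi => ?_
  rw [hs i (List.mem_range.mp hi)]
  refine ev_mem _ _ fun a _ => ?_
  unfold XX
  split_ifs
  exacts [h1 _, h2, inv_mem h2]

/-- the letters of the enumeration as words `t` in the letters of the group, and conversely -/
theorem bridge {x : ℕ → G} {n : ℕ} {R : List (List ℕ)} (hR : ∀ r ∈ R, ev x r = 1) {k : ℕ}
    {RH : List (List ℕ)} (iv iv' : ℕ → ℕ) (s t : ℕ → List ℕ)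
    (e0 : (lettersLt n R && lettersLt k RH && iv' k == k + 1 &&
      (List.range n).all fun a => R.contains [a, iv a]) = true)
    (e1 : ((List.range (k + 2)).all fun j => consB n iv R (t j ++ t (iv' j))) = true)
    (e2 : ((List.range n).all fun i => (s i).all (fun a => decide (a < k + 2)) &&
      consB n iv R (iv i :: (s i).flatMap t)) = true)
    (e3 : (RH.all fun r => consB n iv [] (r.flatMap t) ||
      consB (k + 2) iv' (R.map fun r => r.flatMap s) r) = true) :
    ∃ (φ : PG k RH →* G) (z : G), (∀ i < n, x i = ev (XX k (PG.gen k RH) φ z) (s i)) ∧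
      ∀ r ∈ R.map fun r => r.flatMap s, ev (XX k (PG.gen k RH) φ z) r = 1 := by
  simp only [Bool.and_eq_true, beq_iff_eq] at e0
  obtain ⟨⟨⟨l1, l2⟩, l3⟩, l4⟩ := e0
  have hiv := iv_of_rel hR l4
  have h1 : ∀ j < k + 2, ev x (t (iv' j)) = (ev x (t j))⁻¹ := fun j hj =>
    eq_inv_of_mul_eq_one_right (by
      rw [← ev_append]
      exact consB_spec hiv hR (List.all_eq_true.mp e1 j (List.mem_range.mpr hj)))
  have h2 : ∀ i < n, (∀ a ∈ s i, a < k + 2) ∧ x i = ev (fun j => ev x (t j)) (s i) := fun i hi => by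
    have := List.all_eq_true.mp e2 i (List.mem_range.mpr hi)
    simp only [Bool.and_eq_true, List.all_eq_true, decide_eq_true_eq] at this
    have h3 := consB_spec hiv hR this.2
    rw [ev_cons, hiv i hi, ev_flatMap, inv_mul_eq_one] at h3
    exact ⟨this.1, h3⟩
  have h3 : ∀ r ∈ R.map fun r => r.flatMap s, ev (fun j => ev x (t j)) r = 1 := fun r hr => by
    obtain ⟨q, hq, rfl⟩ := List.mem_map.mp hr
    rw [ev_flatMap, ← hR q hq]
    exact ev_congr fun a ha => (h2 a (lettersLt_iff.mp l1 q hq a ha)).2.symm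
  have h4 : ∀ r ∈ RH, ev (fun j => ev x (t j)) r = 1 := fun r hr => by
    rcases Bool.or_eq_true_iff.mp (List.all_eq_true.mp e3 r hr) with e | e
    · rw [← ev_flatMap]; exact consB_spec hiv (by simp) e
    · exact consB_spec (y := fun j => ev x (t j)) h1 h3 e
  have h5 : ∀ i < n, ev (XX k (PG.gen k RH) (PG.lift _ l2 h4) (ev x (t k))) (s i) = x i :=
    fun i hi => by
      rw [(h2 i hi).2]
      refine ev_congr fun a ha => ?_
      have := (h2 i hi).1 a ha
      unfold XX
      split_ifs with a1 a2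
      · exact PG.lift_gen_apply _ l2 h4 a1
      · rw [a2]
      · rw [← h1 k (by omega), l3, show a = k + 1 by omega]
  refine ⟨PG.lift _ l2 h4, ev x (t k), fun i hi => (h5 i hi).symm, fun r hr => ?_⟩
  obtain ⟨q, hq, rfl⟩ := List.mem_map.mp hr
  rw [ev_flatMap, ← hR q hq]
  exact ev_congr fun a ha => h5 a (lettersLt_iff.mp l1 q hq a ha)

end Dce

end Cfsg.Agent.L0
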