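import Cfsg.Agent.L0.DceG

/-! Lifting a subgroup which is an extension of prime degree of a perfect group. -/

set_option autoImplicit false

namespace Cfsg.Agent.L0

variable {H G Γ : Type} [Group H] [Group G] [Group Γ]

/-- the subgroup generated by the letters in `l` -/
noncomputable abbrev subL (g : ℕ → H) (l : List ℕ) : Subgroup H :=
  genL (fun i => g (nthN l i)) (List.range l.length)

theorem mem_subL {g : ℕ → H} {l : List ℕ} {a : ℕ} (h : a ∈ l) : g a ∈ subL g l := by
  obtain ⟨i, hi, rfl⟩ := List.getElem_of_mem h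
  have := mem_genL (fun i => g (nthN l i)) (List.mem_range.mpr hi)
  rwa [nthN_eq, List.getD_eq_getElem _ _ hi] at this

theorem subL_eq (g : ℕ → H) (l : List ℕ) : subL g l = genL g l :=
  le_antisymm (genL_le fun i hi => mem_genL g (by
    have hi := List.mem_range.mp hi
    rw [nthN_eq, List.getD_eq_getElem _ _ hi]; exact List.getElem_mem hi))
    (genL_le fun _ ha => mem_subL ha)

/-- the word `w` equals a word of `V` in the letters `l` -/
def memB (n : ℕ) (iv : ℕ → ℕ) (K : List (List ℕ)) (l : List ℕ) (V : List (List ℕ)) (w : List ℕ) :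
    Bool :=
  V.any fun v => v.all (fun a => l.contains a && decide (a < n)) &&
    consB n iv K (w ++ (v.map iv).reverse)

theorem memB_spec {g : ℕ → H} {n : ℕ} {iv : ℕ → ℕ} (h : ∀ a < n, g (iv a) = (g a)⁻¹)
    {K : List (List ℕ)} (hK : ∀ r ∈ K, ev g r = 1) {l : List ℕ} {V : List (List ℕ)} {w : List ℕ}
    (e : memB n iv K l V w = true) {S : Subgroup H} (hS : ∀ a ∈ l, g a ∈ S) : ev g w ∈ S := by
  simp only [memB, List.any_eq_true, Bool.and_eq_true, List.all_eq_true, List.contains_iff_mem,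
    decide_eq_true_eq] at e
  obtain ⟨v, -, e1, e2⟩ := e
  have := consB_spec h hK e2
  rw [ev_append, ev_inv_word h fun a ha => (e1 a ha).2, mul_inv_eq_one] at this
  rw [this]
  exact ev_mem _ _ fun a ha => hS a (e1 a ha).1

theorem perfect_subL {g : ℕ → H} {n : ℕ} {iv : ℕ → ℕ} (h : ∀ a < n, g (iv a) = (g a)⁻¹)
    {K : List (List ℕ)} (hK : ∀ r ∈ K, ev g r = 1) {l : List ℕ} {R : List (List ℕ)}
    {Ls : List (List (ℤ × ℕ))} (e : (lettersLt l.length R &&
      ((R.map fun r => r.map (nthN l)).all (consB n iv K)) &&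
      (List.range l.length).all fun i => unitExp l.length R i (Ls.getD i [])) = true) :
    commutator (subL g l) = ⊤ := by
  simp only [Bool.and_eq_true] at e
  refine perfect_genL e.1.1 (fun r hr => ?_) e.2
  rw [← ev_map]
  exact cons_all h hK e.1.2 _ (List.mem_map_of_mem hr)

theorem exists_lift_let [Finite H] {g : ℕ → H} {n : ℕ} {iv : ℕ → ℕ}
    (h : ∀ a < n, g (iv a) = (g a)⁻¹) {K : List (List ℕ)} (hK : ∀ r ∈ K, ev g r = 1)
    (hg : genL g (List.range n) = ⊤) {l : List ℕ} (hp : commutator (subL g l) = ⊤)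
    (hM : UpperMult (subL g l) (Multiplicative (ZMod 1)))
    (hn : Nat.card (subL g l) ≠ Nat.card H) {j m : ℕ} (hm : m.Prime) (V W : List (List ℕ))
    (e : (decide (j < n) && consB n iv K (List.replicate m j) &&
      (l.all fun a => memB n iv K l V [j, a, iv j]) &&
      (List.range n).all fun a => memB n iv K (j :: iv j :: l) W [a]) = true)
    (φ : H →* G) {σ : Γ →* G} (hs : Function.Surjective σ) (hc : σ.ker ≤ Subgroup.center Γ)
    {η : Γ} (h5 : σ η = φ (g j)) (h6 : η ^ m = 1) :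
    ∃ ψ : H →* Γ, (∀ x, σ (ψ x) = φ x) ∧ ψ (g j) = η := by
  simp only [Bool.and_eq_true, List.all_eq_true, decide_eq_true_eq, List.mem_range] at e
  obtain ⟨⟨⟨e1, e2⟩, e3⟩, e4⟩ := e
  have h4 : subL g l ⊔ Subgroup.zpowers (g j) = ⊤ := by
    rw [eq_top_iff, ← hg]
    refine genL_le fun a ha => ?_
    rw [← ev_singleton g a]
    refine memB_spec h hK (e4 a (List.mem_range.mp ha)) fun b hb => ?_
    rcases List.mem_cons.mp hb with rfl | hb
    · exact Subgroup.mem_sup_right (Subgroup.mem_zpowers _)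
    rcases List.mem_cons.mp hb with rfl | hb
    · rw [h j e1]; exact inv_mem (Subgroup.mem_sup_right (Subgroup.mem_zpowers _))
    · exact Subgroup.mem_sup_left (mem_subL hb)
  refine exists_lift_ext hp hM hm (by simpa [ev] using consB_spec h hK e2) (fun h2 => hn ?_)
    (fun x hx => ?_) h4 φ hs hc h5 h6
  · rw [sup_eq_left.mpr (Subgroup.zpowers_le.mpr h2)] at h4
    rw [h4, Subgroup.card_top]
  · have : genL g l ≤ (subL g l).comap (MulAut.conj (g j)).toMonoidHom := genL_le fun a ha => by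
      have := memB_spec h hK (e3 a ha) fun b hb => mem_subL (g := g) hb
      simpa [h j e1, mul_assoc] using this
    exact this (subL_eq g l ▸ hx)

/-- an element of order three inverted by `u` has a lift with the same properties -/
theorem exists_lift_three {σ : Γ →* G} (hs : Function.Surjective σ)
    (hc : σ.ker ≤ Subgroup.center Γ) {t u : G} (h1 : t ^ 3 = 1) (h2 : u⁻¹ * t * u * t = 1) :
    ∃ η, σ η = t ∧ η ^ 3 = 1 ∧ ∀ v, σ v = u → v⁻¹ * η * v * η = 1 := by
  obtain ⟨η, rfl⟩ := hs t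
  obtain ⟨v, rfl⟩ := hs u
  have ha : η ^ 3 ∈ σ.ker := by rw [MonoidHom.mem_ker, map_pow, h1]
  have hb : v⁻¹ * η * v * η ∈ σ.ker := by simpa [MonoidHom.mem_ker] using h2
  generalize e1 : η ^ 3 = a at ha
  generalize e2 : v⁻¹ * η * v * η = b at hb
  have ca : ∀ x, Commute x a := Subgroup.mem_center_iff.mp (hc ha)
  have cb : ∀ x, Commute x b := Subgroup.mem_center_iff.mp (hc hb)
  have cy : ∀ x, Commute x (b * a⁻¹) := fun x => (cb x).mul_right (ca x).inv_right
  have e3 : b ^ 3 * a⁻¹ = a := by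
    have : v⁻¹ * η * v = b * η⁻¹ := by rw [← e2]; group
    rw [← e1, ← inv_pow, ← (cb η⁻¹).symm.mul_pow, ← this, e1,
      show (v⁻¹ * η * v) ^ 3 = v⁻¹ * η ^ 3 * v by simp [pow_succ, mul_assoc], e1, mul_assoc,
      ← (ca v).eq, inv_mul_cancel_left]
  have e4 : b ^ 3 = a * a := by rw [← mul_inv_eq_iff_eq_mul, e3]
  refine ⟨η * (b * a⁻¹), by rw [map_mul, σ.ker.mul_mem hb (inv_mem ha), mul_one], ?_, fun w hw => ?_⟩
  · rw [(cy η).mul_pow, e1, (cb a⁻¹).symm.mul_pow, e4]; group
  · have cd : ∀ x, Commute x (v⁻¹ * w) := Subgroup.mem_center_iff.mp (hc (by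
      rw [MonoidHom.mem_ker, map_mul, map_inv, hw, inv_mul_cancel]))
    have e5 : w⁻¹ * η * w = v⁻¹ * η * v := by
      calc w⁻¹ * η * w = (v⁻¹ * w)⁻¹ * (v⁻¹ * η * v * (v⁻¹ * w)) := by group
        _ = _ := by rw [(cd _).eq, inv_mul_cancel_left]
    calc w⁻¹ * (η * (b * a⁻¹)) * w * (η * (b * a⁻¹))
        = w⁻¹ * η * (b * a⁻¹ * (w * η)) * (b * a⁻¹) := by group
      _ = w⁻¹ * η * w * η * (b * a⁻¹) * (b * a⁻¹) := by rw [← (cy _).eq]; group
      _ = b * b * (a⁻¹ * b) * a⁻¹ := by rw [e5, e2]; group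
      _ = 1 := by rw [(cb a⁻¹).eq, ← mul_assoc, ← pow_three', e3, mul_inv_cancel]

end Cfsg.Agent.L0
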