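import Cfsg.Agent.L0.RAct

/-! Levels of a stabiliser chain given by packed trees. -/

set_option autoImplicit false

namespace Cfsg.Agent.L0

universe u

/-- layout of a row: point, number of the word, number of the parent, depth -/
structure LvP where
  pm : ℕ
  gs : ℕ
  gm : ℕ
  ps : ℕ
  im : ℕ
  ds : ℕ
  n : ℕ
  β : ℕ

/-- point number `t` of an orbit listed in increasing order -/
noncomputable def levT (T : ℕ → ℕ → ℕ) (S : List (List ℕ)) (row : ℕ → ℕ) (L : LvP) (N t : ℕ) : Bool :=
  Bool.rec (motive := fun _ => Bool)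
    (Nat.rec (motive := fun _ => Bool) false (fun e _ =>
      Nat.rec (motive := fun _ => Bool) false (fun c _ =>
        Bool.rec (motive := fun _ => Bool) false
          (Bool.rec (motive := fun _ => Bool) false
            (Bool.rec (motive := fun _ => Bool)
              (Nat.rec (motive := fun _ => Bool) false (fun j _ =>
                Bool.rec (motive := fun _ => Bool) false
                  (Nat.rec (motive := fun _ => Bool) false (fun e' _ =>
                    Bool.rec (motive := fun _ => Bool) false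
                      (Nat.beq (tr T (nthW S (Nat.land (Nat.shiftRight e L.gs) L.gm)) c)
                        (Nat.land e' L.pm))
                      (Nat.blt (Nat.shiftRight e' L.ds) (Nat.shiftRight e L.ds)))
                    (Nat.succ (row j)))
                  (Nat.blt j L.n))
                (Nat.succ (Nat.land (Nat.shiftRight e L.ps) L.im)))
              true (Nat.beq c L.β))
            (Bool.rec (motive := fun _ => Bool) (Nat.blt (Nat.land (row (Nat.pred t)) L.pm) c) true
              (Nat.beq t 0)))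
          (Nat.blt c N))
        (Nat.succ (Nat.land e L.pm)))
      (Nat.succ (row t)))
    true (Nat.ble L.n t)

theorem levT_spec {T : ℕ → ℕ → ℕ} {S : List (List ℕ)} {row : ℕ → ℕ} {L : LvP} {N t : ℕ}
    (h : levT T S row L N t = true) (ht : t < L.n) :
    Nat.land (row t) L.pm < N ∧ (t = 0 ∨ Nat.land (row (t - 1)) L.pm < Nat.land (row t) L.pm) ∧
      (Nat.land (row t) L.pm = L.β ∨ ∃ j < L.n, ∃ s, row j >>> L.ds < row t >>> L.ds ∧
        tr T (nthW S s) (Nat.land (row t) L.pm) = Nat.land (row j) L.pm) := by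
  have e : levT T S row L N t = Bool.rec (motive := fun _ => Bool)
      (Bool.rec (motive := fun _ => Bool) false
        (Bool.rec (motive := fun _ => Bool) false
          (Bool.rec (motive := fun _ => Bool)
            (Bool.rec (motive := fun _ => Bool) false
              (Bool.rec (motive := fun _ => Bool) false
                (Nat.beq (tr T (nthW S (Nat.land (Nat.shiftRight (row t) L.gs) L.gm))
                  (Nat.land (row t) L.pm))
                  (Nat.land (row (Nat.land (Nat.shiftRight (row t) L.ps) L.im)) L.pm))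
                (Nat.blt (Nat.shiftRight (row (Nat.land (Nat.shiftRight (row t) L.ps) L.im)) L.ds)
                  (Nat.shiftRight (row t) L.ds)))
              (Nat.blt (Nat.land (Nat.shiftRight (row t) L.ps) L.im) L.n))
            true (Nat.beq (Nat.land (row t) L.pm) L.β))
          (Bool.rec (motive := fun _ => Bool)
            (Nat.blt (Nat.land (row (Nat.pred t)) L.pm) (Nat.land (row t) L.pm)) true
            (Nat.beq t 0)))
        (Nat.blt (Nat.land (row t) L.pm) N))
      true (Nat.ble L.n t) := rfl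
  have h2 : Nat.ble L.n t = false := by
    rw [Bool.eq_false_iff]; intro h3; exact absurd (Nat.le_of_ble_eq_true h3) (by omega)
  rw [e, h2] at h
  obtain ⟨h3, h4⟩ := brec_true h
  obtain ⟨h5, h6⟩ := brec_true h4
  refine ⟨by simpa [Nat.blt_eq] using h3, ?_, ?_⟩
  · cases h7 : Nat.beq t 0 with
    | true => exact Or.inl (Nat.eq_of_beq_eq_true h7)
    | false => rw [h7] at h5; exact Or.inr (by simpa [Nat.blt_eq] using h5)
  · cases h7 : Nat.beq (Nat.land (row t) L.pm) L.β with
    | true => exact Or.inl (Nat.eq_of_beq_eq_true h7)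
    | false =>
      rw [h7] at h6
      obtain ⟨h8, h9⟩ := brec_true h6
      obtain ⟨h10, h11⟩ := brec_true h9
      exact Or.inr ⟨_, by simpa [Nat.blt_eq] using h8, _, by simpa [Nat.blt_eq] using h10,
        Nat.eq_of_beq_eq_true h11⟩

namespace RAct

variable {G : Type u} [Group G] {N : ℕ} {A : RAct G N}

/-- the set of points of a level -/
noncomputable def lvSet (row : ℕ → ℕ) (L : LvP) : Finset ℕ :=
  (Finset.range L.n).image fun t => Nat.land (row t) L.pm

theorem Tab.lev_tree {g : ℕ → G} {k : ℕ} {T : ℕ → ℕ → ℕ} (h : A.Tab g k T)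
    {S : List (List ℕ)} {pre : List ℕ} {row : ℕ → ℕ} {L : LvP} {M : ℕ}
    (hs : (lettersB k S && fixB T S pre && Nat.blt L.β N && Nat.ble L.n M) = true)
    (hchk : ∀ t < M, levT T S row L N t = true) :
    A.Lev ⊤ pre L.β (lvSet row L) ∧ (lvSet row L).card = L.n := by
  simp only [Bool.and_eq_true, Nat.blt_eq, Nat.ble_eq] at hs
  obtain ⟨⟨⟨hS, hf⟩, hβ⟩, hM⟩ := hs
  have sp := fun t (ht : t < L.n) => levT_spec (hchk t (by omega)) ht
  have key : ∀ D t, t < L.n → row t >>> L.ds = D →
      ∃ x ∈ (⊤ : Subgroup G) ⊓ A.fixL pre, A.act (Nat.land (row t) L.pm) x = L.β := by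
    intro D
    induction D using Nat.strong_induction_on with
    | _ D ih =>
      intro t ht hD
      obtain ⟨h1, -, h2 | ⟨j, hj, s, h3, h4⟩⟩ := sp t ht
      · exact ⟨1, Subgroup.one_mem _, by rw [A.one h1, h2]⟩
      · obtain ⟨x, hx, hxa⟩ := ih _ (hD ▸ h3) j hj rfl
        have hw : dG g S s ∈ (⊤ : Subgroup G) ⊓ A.fixL pre :=
          dG_mem (fun w hw => Subgroup.mem_inf.mpr ⟨Subgroup.mem_top _, h.mem_fixL hS hf w hw⟩) _
        refine ⟨_, Subgroup.mul_mem _ hw hx, ?_⟩
        rw [A.mul _ _ h1, h.derive hS (s + 1) _ (by omega) _ h1, ← hxa, ← h4]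
        rfl
  have mono : ∀ b, b < L.n → ∀ a < b, Nat.land (row a) L.pm < Nat.land (row b) L.pm := by
    intro b
    induction b with
    | zero => intro _ a ha; omega
    | succ b ih =>
      intro hb a ha
      have h1 : Nat.land (row b) L.pm < Nat.land (row (b + 1)) L.pm := by
        simpa using (sp _ hb).2.1
      rcases Nat.lt_succ_iff_lt_or_eq.mp ha with h2 | rfl
      · exact (ih (by omega) a h2).trans h1
      · exact h1
  refine ⟨⟨hβ, fun c hc => ?_⟩, ?_⟩
  · obtain ⟨t, ht, rfl⟩ := Finset.mem_image.mp hc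
    exact ⟨(sp t (Finset.mem_range.mp ht)).1, key _ t (Finset.mem_range.mp ht) rfl⟩
  · rw [lvSet, Finset.card_image_of_injOn, Finset.card_range]
    intro a ha b hb hab
    have ha' : a < L.n := by simpa using ha
    have hb' : b < L.n := by simpa using hb
    rcases lt_trichotomy a b with h1 | h1 | h1
    · exact absurd hab (mono b hb' a h1).ne
    · exact h1
    · exact absurd hab (mono a ha' b h1).ne'

/-- a chain with base points `B` below `pre` and product of the orbit lengths `n` -/
def Ch (A : RAct G N) (pre B : List ℕ) (n : ℕ) : Prop :=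
  ∃ l, A.Chain ⊤ pre l ∧ l.map Prod.fst = B ∧ chainProd l = n

theorem ch_nil {pre : List ℕ} : A.Ch pre [] 1 := ⟨[], trivial, rfl, rfl⟩

theorem ch_cons {pre B : List ℕ} {β m n : ℕ} {s : Finset ℕ} (h : A.Lev ⊤ pre β s ∧ s.card = m)
    (h' : A.Ch (β :: pre) B n) : A.Ch pre (β :: B) (m * n) := by
  obtain ⟨l, h1, h2, h3⟩ := h'
  exact ⟨(β, s) :: l, ⟨h.1, h1⟩, by simp [h2], by rw [← h3, ← h.2]; simp [chainProd]⟩

theorem Tab.lev_all {g : ℕ → G} {k : ℕ} {T : ℕ → ℕ → ℕ} (h : A.Tab g k T)
    {S : List (List ℕ)} {info : ℕ → ℕ} {gm dsh β M : ℕ}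
    (hs : (lettersB k S && Nat.blt β N && Nat.ble N M) = true)
    (hchk : ∀ t < M, levI T S info gm dsh 0 N β t = true) :
    A.Lev ⊤ [] β (Finset.Ico 0 (0 + N)) ∧ (Finset.Ico 0 (0 + N)).card = N := by
  simp only [Bool.and_eq_true, Nat.blt_eq, Nat.ble_eq] at hs
  refine ⟨h.lev_interval hs.1.1 (fun _ _ => Subgroup.mem_top _) ?_ hs.1.2 (by omega) hs.2 hchk, by simp⟩
  exact (allL_iff _ _).mpr fun _ _ => rfl

theorem Ch.exact [Finite G] {B : List ℕ} {n m : ℕ} (h : A.Ch [] B n) (hm : n = m)
    (hc : Nat.card G ≤ m) : A.IsBase B ∧ Nat.card G = m := by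
  obtain ⟨l, h1, rfl, rfl⟩ := h
  subst hm
  exact ⟨h1.isBase hc, h1.card_eq hc⟩

end RAct

/-- letters that are products of two letters -/
noncomputable def pairT (T : ℕ → ℕ → ℕ) (k c s : ℕ) : ℕ :=
  Nat.rec (motive := fun _ => ℕ) 0 (fun d _ => T d (Nat.mod s k)) (Nat.succ (T c (Nat.div s k)))

theorem RAct.Tab.pair {G : Type u} [Group G] {N : ℕ} {A : RAct G N} {g : ℕ → G} {k : ℕ}
    {T : ℕ → ℕ → ℕ} (h : A.Tab g k T) (hk : 0 < k) :
    A.Tab (fun s => g (s / k) * g (s % k)) (k * k) (pairT T k) := by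
  intro s hs c hc
  have h1 : s / k < k := Nat.div_lt_of_lt_mul hs
  rw [A.mul _ _ hc, h _ (Nat.mod_lt _ hk) _ (A.lt _ hc), h _ h1 _ hc]
  rfl

end Cfsg.Agent.L0
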