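import Cfsg.Agent.L0.Digits

/-! Checker for labelled coset tables (static, time-stamped deductions) and its soundness. -/

set_option autoImplicit false

namespace Cfsg.Agent.L0

universe u

/-- same right coset of `K` -/
def Eqv {Γ : Type u} [Group Γ] (K : Subgroup Γ) (a b : Γ) : Prop := a * b⁻¹ ∈ K

section eqv
variable {Γ : Type u} [Group Γ] {K : Subgroup Γ}

theorem Eqv.refl (a : Γ) : Eqv K a a := by simp [Eqv]
theorem Eqv.symm {a b : Γ} (h : Eqv K a b) : Eqv K b a := by
  have := K.inv_mem h; simpa [Eqv] using this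
theorem Eqv.trans {a b c : Γ} (h : Eqv K a b) (h' : Eqv K b c) : Eqv K a c := by
  have := K.mul_mem h h'; simpa [Eqv, mul_assoc] using this
theorem Eqv.mul_right {a b : Γ} (h : Eqv K a b) (c : Γ) : Eqv K (a * c) (b * c) := by
  simpa [Eqv, mul_assoc] using h
theorem Eqv.of_mul_right {a b c : Γ} (h : Eqv K (a * c) (b * c)) : Eqv K a b := by
  simpa [Eqv, mul_assoc] using h
theorem Eqv.mono {K' : Subgroup Γ} (hK : K ≤ K') {a b : Γ} (h : Eqv K a b) : Eqv K' a b := hK h
theorem Eqv.mul_left {C : Subgroup Γ} [hC : C.Normal] (hK : C ≤ K) {a b : Γ} (h : Eqv C a b)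
    (c : Γ) : Eqv K (c * a) (c * b) := by
  have := hK (hC.conj_mem _ h c)
  simpa [Eqv, mul_assoc] using this
end eqv

/-- binary tree of chunks -/
inductive BT where
  | leaf (n : ℕ) : BT
  | node (l r : BT) : BT

/-- chunk number `j` (low bit first) -/
noncomputable def BT.get (t : BT) : ℕ → ℕ :=
  BT.rec (motive := fun _ => ℕ → ℕ) (fun n _ => n)
    (fun _ _ l r j => Bool.rec (motive := fun _ => ℕ) (r (Nat.shiftRight j 1))
      (l (Nat.shiftRight j 1)) (Nat.beq (Nat.land j 1) 0)) t

/-- row `c` of a table stored in chunks of `2 ^ sh` rows of `rw` bits -/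
noncomputable def rowOf (t : BT) (sh msk rw rmask c : ℕ) : ℕ :=
  Nat.rec (motive := fun _ => ℕ) 0
    (fun j _ => Nat.land (Nat.shiftRight (t.get j) (Nat.mul rw (Nat.land c msk))) rmask)
    (Nat.succ (Nat.shiftRight c sh))

/-- drop `j` elements -/
noncomputable def dropN {α : Type} (l : List α) : ℕ → List α :=
  List.rec (motive := fun _ => ℕ → List α) (fun _ => [])
    (fun a t ih j => Nat.rec (motive := fun _ => List α) (a :: t) (fun j' _ => ih j') j) l

theorem mem_of_dropN {α : Type} {l : List α} {j : ℕ} {p : α} {t : List α}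
    (h : dropN l j = p :: t) : p ∈ l := by
  induction l generalizing j with
  | nil => exact absurd (show ([] : List α) = p :: t from h) (by simp)
  | cons a l ih =>
    cases j with
    | zero =>
      have : a :: l = p :: t := h
      rw [(List.cons.inj this).1]; exact List.mem_cons_self
    | succ j => exact List.mem_cons_of_mem _ (ih (j := j) h)

/-- apply `f` to the pair number `j` of the list, `false` if there is none -/
noncomputable def withNth (l : List (List ℕ × ℕ)) (j : ℕ) (f : List ℕ → ℕ → Bool) : Bool :=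
  List.rec (motive := fun _ => Bool) false
    (fun p _ _ => Prod.rec (motive := fun _ => Bool) f p) (dropN l j)

theorem withNth_spec {l : List (List ℕ × ℕ)} {j : ℕ} {f : List ℕ → ℕ → Bool}
    (h : withNth l j f = true) : ∃ w Z, (w, Z) ∈ l ∧ f w Z = true := by
  unfold withNth at h
  cases hd : dropN l j with
  | nil => rw [hd] at h; exact absurd h (by simp)
  | cons p t => rw [hd] at h; exact ⟨p.1, p.2, mem_of_dropN hd, h⟩

/-- follow coincidence entries older than `thr` -/
noncomputable def chase (row : ℕ → ℕ) (m0 tm nl offE thr fuel : ℕ) :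
    ℕ → ℕ → (ℕ → ℕ → Bool) → Bool :=
  Nat.rec (motive := fun _ => ℕ → ℕ → (ℕ → ℕ → Bool) → Bool) (fun c acc k => k c acc)
    (fun _ ih c acc k => Bool.rec (motive := fun _ => Bool) (k c acc)
      (Nat.rec (motive := fun _ => Bool) (k c acc)
        (fun d _ => Bool.rec (motive := fun _ => Bool)
          (ih d (Nat.add acc (Nat.shiftRight (row c) offE)) k) (k c acc)
          (Nat.ble thr (Nat.land (Nat.shiftRight (row c) offE) tm)))
        (Nat.land (Nat.shiftRight (row c) offE) m0))
      (Nat.ble nl c)) fuel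

/-- trace a word through entries older than `thr`, no coincidences -/
noncomputable def path0 (row : ℕ → ℕ) (m0 tm thr : ℕ) (w : List ℕ) :
    ℕ → ℕ → (ℕ → ℕ → Bool) → Bool :=
  List.rec (motive := fun _ => ℕ → ℕ → (ℕ → ℕ → Bool) → Bool) (fun c acc k => k c acc)
    (fun off _ ih c acc k => Bool.rec (motive := fun _ => Bool)
      (Nat.rec (motive := fun _ => Bool) false
        (fun d _ => ih d (Nat.add acc (Nat.shiftRight (row c) off)) k)
        (Nat.land (Nat.shiftRight (row c) off) m0)) false
      (Nat.ble thr (Nat.land (Nat.shiftRight (row c) off) tm))) w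

/-- trace a word through entries older than `thr`, following coincidences -/
noncomputable def path1 (row : ℕ → ℕ) (m0 tm nl offE fuel thr : ℕ) (w : List ℕ) :
    ℕ → ℕ → (ℕ → ℕ → Bool) → Bool :=
  List.rec (motive := fun _ => ℕ → ℕ → (ℕ → ℕ → Bool) → Bool) (fun c acc k => k c acc)
    (fun off _ ih c acc k => Bool.rec (motive := fun _ => Bool)
      (Nat.rec (motive := fun _ => Bool) false
        (fun d _ => Bool.rec (motive := fun _ => Bool)
          (ih d (Nat.add acc (Nat.shiftRight (row c) off)) k)
          (chase row m0 tm nl offE thr fuel d (Nat.add acc (Nat.shiftRight (row c) off))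
            (fun d' acc' => ih d' acc' k))
          (Nat.ble nl d))
        (Nat.land (Nat.shiftRight (row c) off) m0)) false
      (Nat.ble thr (Nat.land (Nat.shiftRight (row c) off) tm))) w

/-- a column: offset, subgroup label (plus one; `0` for none), and the rotated relators starting
with this column (first letter omitted) with their labels -/
structure Col where
  off : ℕ
  sub : ℕ
  rots : List (List ℕ × ℕ)

/-- the type of path tracers -/
abbrev PF : Type := ℕ → List ℕ → ℕ → ℕ → (ℕ → ℕ → Bool) → Bool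

/-- check one entry -/
noncomputable def chkEntry (row : ℕ → ℕ) (M m0 tm jsh jm offD pm psh om rm : ℕ) (ds : List Dg)
    (pf : PF) (c : ℕ) (col : Col) : Bool :=
  Nat.rec (motive := fun _ => Bool) true
    (fun d _ => Bool.rec (motive := fun _ => Bool)
      (Bool.rec (motive := fun _ => Bool) false
        (Nat.rec (motive := fun _ => Bool)
          (Nat.beq (Nat.land (Nat.shiftRight (row d) offD) pm) c &&
            Nat.beq (Nat.land (Nat.shiftRight (Nat.shiftRight (row d) offD) psh) om) col.off &&
            !(Nat.ble (Nat.land (Nat.shiftRight (row d) offD) rm)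
              (Nat.land (Nat.shiftRight (row c) offD) rm)) &&
            eqmB ds (Nat.shiftRight (row c) col.off) 0)
          (fun j _ => Nat.rec (motive := fun _ => Bool)
            (Nat.beq c 0 && Nat.beq d 0 && Nat.rec (motive := fun _ => Bool) false
              (fun Z _ => eqmB ds (Nat.shiftRight (row c) col.off) Z) col.sub)
            (fun j2 _ => withNth col.rots j2
              (fun rest Z => pf (Nat.land (Nat.shiftRight (row c) col.off) tm) rest d
                (Nat.shiftRight (row c) col.off)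
                (fun e acc => Bool.rec (motive := fun _ => Bool) false (eqmB ds acc Z)
                  (Nat.beq e c)))) j)
          (Nat.land (Nat.shiftRight (Nat.shiftRight (row c) col.off) jsh) jm))
        (bndB ds (Nat.shiftRight (row c) col.off))) false
      (Nat.ble M d))
    (Nat.land (Nat.shiftRight (row c) col.off) m0)

/-- check the coincidence entry of a row -/
noncomputable def chkEps (row : ℕ → ℕ) (M m0 tm jsh jm nl offE offS fuel : ℕ) (ds : List Dg)
    (erots : List (List ℕ × ℕ)) (pf : PF) (c : ℕ) : Bool :=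
  Nat.rec (motive := fun _ => Bool) true
    (fun d _ => !(Nat.ble M d) && bndB ds (Nat.shiftRight (row c) offE) &&
      Nat.rec (motive := fun _ => Bool) false
        (fun s _ => !(Nat.ble M s) &&
          withNth erots (Nat.shiftRight
              (Nat.land (Nat.shiftRight (Nat.shiftRight (row c) offE) jsh) jm) 1)
            (fun w Z => chase row m0 tm nl offE (Nat.land (Nat.shiftRight (row c) offE) tm) fuel s 0
              (fun p a1 => pf (Nat.land (Nat.shiftRight (row c) offE) tm) w s 0
                (fun e a2 => Bool.rec (motive := fun _ => Bool)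
                  (Nat.beq p c && Nat.beq e d &&
                    eqmB ds (Nat.add (Nat.add (Nat.shiftRight (row c) offE) a1) Z) a2)
                  (Nat.beq p d && Nat.beq e c &&
                    eqmB ds (Nat.add (Nat.shiftRight (row c) offE) a2) (Nat.add a1 Z))
                  (Nat.beq (Nat.land (Nat.shiftRight (Nat.shiftRight (row c) offE) jsh) 1) 0)))))
        (Nat.land (Nat.shiftRight (row c) offS) m0))
    (Nat.land (Nat.shiftRight (row c) offE) m0)

/-- the parameters of a table -/
structure CT where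
  row : ℕ → ℕ
  M : ℕ
  nl : ℕ
  m0 : ℕ
  tm : ℕ
  jsh : ℕ
  jm : ℕ
  offD : ℕ
  pm : ℕ
  psh : ℕ
  om : ℕ
  rm : ℕ
  offE : ℕ
  offS : ℕ
  fuel : ℕ
  L : ℕ
  ds : List Dg
  cols : List Col
  erots : List (List ℕ × ℕ)
  gens : List ℕ

/-- row check for tables without coincidences -/
noncomputable def chkRow0 (row : ℕ → ℕ) (M m0 tm jsh jm offD pm psh om rm : ℕ) (ds : List Dg)
    (cols : List Col) (gens : List ℕ) (c : ℕ) : Bool :=
  Bool.rec (motive := fun _ => Bool)
    (Bool.rec (motive := fun _ => Bool) false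
      (allL gens fun off => Nat.rec (motive := fun _ => Bool) false (fun _ _ => true)
        (Nat.land (Nat.shiftRight (row c) off) m0))
      (allL cols (chkEntry row M m0 tm jsh jm offD pm psh om rm ds (path0 row m0 tm) c)))
    true (Nat.ble M c)

/-- row check for tables with coincidences -/
noncomputable def chkRow1 (row : ℕ → ℕ) (M nl m0 tm jsh jm offD pm psh om rm offE offS fuel : ℕ)
    (ds : List Dg) (cols : List Col) (erots : List (List ℕ × ℕ)) (gens : List ℕ) (c : ℕ) : Bool :=
  Bool.rec (motive := fun _ => Bool)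
    (Bool.rec (motive := fun _ => Bool) false
      (Bool.rec (motive := fun _ => Bool)
        (allL gens fun off => path1 row m0 tm nl offE fuel (Nat.succ tm) [off] c 0
          (fun e _ => !(Nat.ble nl e)))
        (chkEps row M m0 tm jsh jm nl offE offS fuel ds erots (path1 row m0 tm nl offE fuel) c)
        (Nat.ble nl c))
      (allL cols (chkEntry row M m0 tm jsh jm offD pm psh om rm ds
        (path1 row m0 tm nl offE fuel) c)))
    true (Nat.ble M c)

namespace CT
variable (T : CT)

/-- raw entry -/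
def ent (c off : ℕ) : ℕ := Nat.shiftRight (T.row c) off
def tg (c off : ℕ) : ℕ := Nat.land (T.ent c off) T.m0
def time (c off : ℕ) : ℕ := Nat.land (T.ent c off) T.tm
def par (d : ℕ) : ℕ := Nat.land (T.ent d T.offD) T.pm
def poff (d : ℕ) : ℕ := Nat.land (Nat.shiftRight (T.ent d T.offD) T.psh) T.om
def rank (d : ℕ) : ℕ := Nat.land (T.ent d T.offD) T.rm
def offs : List ℕ := T.cols.map Col.off

/-- coset representatives -/
noncomputable def rep {Γ : Type u} [Group Γ] (X : ℕ → Γ) (d : ℕ) : Γ :=
  if T.rank (T.par d) < T.rank d then rep X (T.par d) * X (T.poff d) else 1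
termination_by T.rank d

def Valid (c off : ℕ) : Prop := off ∈ T.offs ∨ (off = T.offE ∧ T.nl ≤ c)

/-- static side conditions, decidable -/
structure Static : Prop where
  rank0 : T.rank 0 = 0
  fits : Fits T.ds ((T.L + 1) * (T.fuel + 1) + 2)
  rots : ∀ col ∈ T.cols, ∀ p ∈ col.rots, p.1.length ≤ T.L ∧ ∀ o ∈ p.1, o ∈ T.offs
  erots : ∀ p ∈ T.erots, p.1.length ≤ T.L ∧ (∀ o ∈ p.1, o ∈ T.offs) ∧ Bnd T.ds 1 p.2
  gens : ∀ o ∈ T.gens, o ∈ T.offs
  Lpos : 1 ≤ T.L
  nlM : T.nl ≤ T.M
  nlpos : 0 < T.nl

/-- the group-theoretic hypotheses -/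
structure Hyp {Γ : Type u} [Group Γ] (X : ℕ → Γ) (zs : List Γ) (C K : Subgroup Γ) : Prop where
  normal : C.Normal
  le : C ≤ K
  zok : ZOk C T.ds zs
  rots : ∀ col ∈ T.cols, ∀ p ∈ col.rots, Eqv C (X col.off * ev X p.1) (dec T.ds zs p.2)
  erots : ∀ p ∈ T.erots, Eqv C (ev X p.1) (dec T.ds zs p.2)
  sub : ∀ col ∈ T.cols, ∀ Z, col.sub = Z + 1 → Eqv K (X col.off) (dec T.ds zs Z)

section sound
variable {Γ : Type u} [Group Γ] (X : ℕ → Γ) (zs : List Γ) (K : Subgroup Γ)

/-- letter value, the coincidence column counting as `1` -/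
def Good (c off : ℕ) (g : Γ) : Prop := ∀ d, T.tg c off = d + 1 →
  d < T.M ∧ Bnd T.ds 1 (T.ent c off) ∧
    Eqv K (T.rep X c * g) (T.rep X d * dec T.ds zs (T.ent c off))

/-- all entries older than `thr` are good -/
def Old (thr : ℕ) : Prop :=
  (∀ c < T.M, ∀ off ∈ T.offs, T.time c off < thr → T.Good X zs K c off (X off)) ∧
  (∀ c < T.M, T.nl ≤ c → T.time c T.offE < thr → T.Good X zs K c T.offE 1)

variable {T X zs K} {C : Subgroup Γ}

theorem chase_spec (hz : ZOk C T.ds zs) {thr : ℕ} (ho : T.Old X zs K thr) (fuel : ℕ) :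
    ∀ (c acc n : ℕ) (k : ℕ → ℕ → Bool) (g : Γ), c < T.M → Bnd T.ds n acc →
      Fits T.ds (n + fuel) → Eqv K g (T.rep X c * dec T.ds zs acc) →
      chase T.row T.m0 T.tm T.nl T.offE thr fuel c acc k = true →
      ∃ e acc', e < T.M ∧ Bnd T.ds (n + fuel) acc' ∧ Eqv K g (T.rep X e * dec T.ds zs acc') ∧
        k e acc' = true := by
  induction fuel with
  | zero => intro c acc n k g hc hb _ hg h; exact ⟨c, acc, hc, hb, hg, h⟩
  | succ fuel ih =>
    intro c acc n k g hc hb hf hg h
    have e : chase T.row T.m0 T.tm T.nl T.offE thr (fuel + 1) c acc k =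
      Bool.rec (motive := fun _ => Bool) (k c acc)
      (Nat.rec (motive := fun _ => Bool) (k c acc)
        (fun d _ => Bool.rec (motive := fun _ => Bool)
          (chase T.row T.m0 T.tm T.nl T.offE thr fuel d (acc + T.ent c T.offE) k) (k c acc)
          (Nat.ble thr (T.time c T.offE))) (T.tg c T.offE)) (Nat.ble T.nl c) := rfl
    rw [e] at h
    have stop : k c acc = true → ∃ e acc', e < T.M ∧ Bnd T.ds (n + (fuel + 1)) acc' ∧
        Eqv K g (T.rep X e * dec T.ds zs acc') ∧ k e acc' = true :=
      fun h => ⟨c, acc, hc, hb.mono (by omega), hg, h⟩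
    cases h1 : Nat.ble T.nl c with
    | false => rw [h1] at h; exact stop h
    | true =>
      rw [h1] at h
      cases h2 : T.tg c T.offE with
      | zero => rw [h2] at h; exact stop h
      | succ d =>
        rw [h2] at h
        cases h3 : Nat.ble thr (T.time c T.offE) with
        | true => simp only [h3] at h; exact stop h
        | false =>
          simp only [h3] at h
          have ht : T.time c T.offE < thr := by
            have := Nat.not_le_of_not_ble_eq_true (by simp [h3] : ¬ Nat.ble thr (T.time c T.offE) = true)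
            omega
          obtain ⟨g1, g2, g3⟩ := ho.2 c hc (Nat.le_of_ble_eq_true h1) ht d h2
          obtain ⟨a1, a2⟩ := dec_add hz hb g2 (hf.mono (by omega))
          have := ih d _ (n + 1) k g g1 a1 (by rwa [show n + 1 + fuel = n + (fuel + 1) by omega])
            (by
              rw [a2]
              refine hg.trans ?_
              have := g3.mul_right (dec T.ds zs acc)
              rw [mul_one, mul_assoc,
                Subgroup.mem_center_iff.mp (dec_mem_center hz acc) (dec T.ds zs _)] at this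
              exact this) h
          rwa [show n + 1 + fuel = n + (fuel + 1) by omega] at this

/-- specification of a path tracer -/
def PathSpec (T : CT) (X : ℕ → Γ) (zs : List Γ) (K : Subgroup Γ) (pf : PF) : Prop :=
  ∀ thr, T.Old X zs K thr → ∀ (w : List ℕ) (c acc n : ℕ) (k : ℕ → ℕ → Bool) (g : Γ),
    (∀ o ∈ w, o ∈ T.offs) → c < T.M → Bnd T.ds n acc →
    Fits T.ds (n + w.length * (T.fuel + 1)) → Eqv K g (T.rep X c * dec T.ds zs acc) →
    pf thr w c acc k = true →
    ∃ e acc', e < T.M ∧ Bnd T.ds (n + w.length * (T.fuel + 1)) acc' ∧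
      Eqv K (g * ev X w) (T.rep X e * dec T.ds zs acc') ∧ k e acc' = true

theorem step_aux (hz : ZOk C T.ds zs) {c off d acc n : ℕ} {g : Γ}
    (hb : Bnd T.ds n acc) (hf : Fits T.ds (n + 1)) (hg : Eqv K g (T.rep X c * dec T.ds zs acc))
    (h : T.Good X zs K c off (X off)) (h2 : T.tg c off = d + 1) :
    d < T.M ∧ Bnd T.ds (n + 1) (acc + T.ent c off) ∧
      Eqv K (g * X off) (T.rep X d * dec T.ds zs (acc + T.ent c off)) := by
  obtain ⟨g1, g2, g3⟩ := h d h2
  obtain ⟨a1, a2⟩ := dec_add hz hb g2 hf
  refine ⟨g1, a1, ?_⟩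
  rw [a2]
  refine (hg.mul_right (X off)).trans ?_
  have := g3.mul_right (dec T.ds zs acc)
  have hc := Subgroup.mem_center_iff.mp (dec_mem_center hz acc)
  rw [mul_assoc, hc, mul_assoc (T.rep X d), hc, ← mul_assoc] at this
  exact this

theorem not_ble {a b : ℕ} (h : Nat.ble a b = false) : b < a := by
  have := Nat.not_le_of_not_ble_eq_true (by simp [h] : ¬ Nat.ble a b = true)
  omega

theorem path0_spec (hz : ZOk C T.ds zs) : PathSpec T X zs K (path0 T.row T.m0 T.tm) := by
  intro thr ho w
  induction w with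
  | nil =>
    intro c acc n k g _ hc hb _ hg h
    exact ⟨c, acc, hc, by simpa using hb, by simpa using hg, h⟩
  | cons off w ih =>
    intro c acc n k g hw hc hb hf hg h
    have e : path0 T.row T.m0 T.tm thr (off :: w) c acc k = Bool.rec (motive := fun _ => Bool)
      (Nat.rec (motive := fun _ => Bool) false
        (fun d _ => path0 T.row T.m0 T.tm thr w d (acc + T.ent c off) k) (T.tg c off)) false
      (Nat.ble thr (T.time c off)) := rfl
    rw [e] at h
    obtain ⟨h1, h⟩ := brec_false h
    cases h2 : T.tg c off with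
    | zero => rw [h2] at h; exact absurd h (by simp)
    | succ d =>
      rw [h2] at h
      simp only [List.length_cons] at hf ⊢
      obtain ⟨g1, g2, g3⟩ := step_aux hz hb (hf.mono (by nlinarith)) hg
        (ho.1 c hc off (hw off (by simp)) (not_ble h1)) h2
      obtain ⟨e, acc', b1, b2, b3, b4⟩ := ih d _ (n + 1) k _ (fun o ho => hw o (by simp [ho])) g1 g2
        (hf.mono (by nlinarith)) g3 h
      exact ⟨e, acc', b1, b2.mono (by nlinarith), by simpa [mul_assoc] using b3, b4⟩

theorem path1_spec (hz : ZOk C T.ds zs) :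
    PathSpec T X zs K (path1 T.row T.m0 T.tm T.nl T.offE T.fuel) := by
  intro thr ho w
  induction w with
  | nil =>
    intro c acc n k g _ hc hb _ hg h
    exact ⟨c, acc, hc, by simpa using hb, by simpa using hg, h⟩
  | cons off w ih =>
    intro c acc n k g hw hc hb hf hg h
    have e : path1 T.row T.m0 T.tm T.nl T.offE T.fuel thr (off :: w) c acc k =
      Bool.rec (motive := fun _ => Bool)
      (Nat.rec (motive := fun _ => Bool) false
        (fun d _ => Bool.rec (motive := fun _ => Bool)
          (path1 T.row T.m0 T.tm T.nl T.offE T.fuel thr w d (acc + T.ent c off) k)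
          (chase T.row T.m0 T.tm T.nl T.offE thr T.fuel d (acc + T.ent c off)
            (fun d' acc' => path1 T.row T.m0 T.tm T.nl T.offE T.fuel thr w d' acc' k))
          (Nat.ble T.nl d)) (T.tg c off)) false
      (Nat.ble thr (T.time c off)) := rfl
    rw [e] at h
    obtain ⟨h1, h⟩ := brec_false h
    cases h2 : T.tg c off with
    | zero => rw [h2] at h; exact absurd h (by simp)
    | succ d =>
      rw [h2] at h
      simp only [List.length_cons] at hf ⊢
      obtain ⟨g1, g2, g3⟩ := step_aux hz hb (hf.mono (by nlinarith)) hg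
        (ho.1 c hc off (hw off (by simp)) (not_ble h1)) h2
      have key : ∀ d' acc', d' < T.M → Bnd T.ds (n + 1 + T.fuel) acc' →
          Eqv K (g * X off) (T.rep X d' * dec T.ds zs acc') →
          path1 T.row T.m0 T.tm T.nl T.offE T.fuel thr w d' acc' k = true →
          ∃ e acc', e < T.M ∧ Bnd T.ds (n + (w.length + 1) * (T.fuel + 1)) acc' ∧
            Eqv K (g * ev X (off :: w)) (T.rep X e * dec T.ds zs acc') ∧ k e acc' = true := by
        intro d' acc' c1 c2 c3 c4
        obtain ⟨e, acc'', b1, b2, b3, b4⟩ := ih d' acc' (n + 1 + T.fuel) k _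
          (fun o ho => hw o (by simp [ho])) c1 c2 (hf.mono (by nlinarith)) c3 c4
        exact ⟨e, acc'', b1, b2.mono (by nlinarith), by simpa [mul_assoc] using b3, b4⟩
      cases h3 : Nat.ble T.nl d with
      | false =>
        simp only [h3] at h
        exact key d _ g1 (g2.mono (by omega)) g3 h
      | true =>
        simp only [h3] at h
        obtain ⟨d', acc', c1, c2, c3, c4⟩ := chase_spec hz ho T.fuel d _ (n + 1) _ _ g1 g2
          (hf.mono (by nlinarith)) g3 h
        exact key d' acc' c1 c2 c3 c4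

theorem rep_zero (hs : T.Static) : T.rep X 0 = 1 := by
  rw [rep, if_neg (by rw [hs.rank0]; omega)]

theorem chkEntry_spec (hs : T.Static) (hy : T.Hyp X zs C K) {pf : PF} (hp : PathSpec T X zs K pf)
    {c : ℕ} {col : Col} (hcol : col ∈ T.cols)
    (h : chkEntry T.row T.M T.m0 T.tm T.jsh T.jm T.offD T.pm T.psh T.om T.rm T.ds pf c col = true)
    (ho : T.Old X zs K (T.time c col.off)) : T.Good X zs K c col.off (X col.off) := by
  have := hy.normal
  intro d hd
  have e : chkEntry T.row T.M T.m0 T.tm T.jsh T.jm T.offD T.pm T.psh T.om T.rm T.ds pf c col =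
    Nat.rec (motive := fun _ => Bool) true
    (fun d _ => Bool.rec (motive := fun _ => Bool)
      (Bool.rec (motive := fun _ => Bool) false
        (Nat.rec (motive := fun _ => Bool)
          (Nat.beq (T.par d) c && Nat.beq (T.poff d) col.off &&
            !(Nat.ble (T.rank d) (T.rank c)) && eqmB T.ds (T.ent c col.off) 0)
          (fun j _ => Nat.rec (motive := fun _ => Bool)
            (Nat.beq c 0 && Nat.beq d 0 && Nat.rec (motive := fun _ => Bool) false
              (fun Z _ => eqmB T.ds (T.ent c col.off) Z) col.sub)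
            (fun j2 _ => withNth col.rots j2
              (fun rest Z => pf (T.time c col.off) rest d (T.ent c col.off)
                (fun e acc => Bool.rec (motive := fun _ => Bool) false (eqmB T.ds acc Z)
                  (Nat.beq e c)))) j)
          (Nat.land (Nat.shiftRight (T.ent c col.off) T.jsh) T.jm))
        (bndB T.ds (T.ent c col.off))) false
      (Nat.ble T.M d)) (T.tg c col.off) := rfl
  rw [e, hd] at h
  obtain ⟨h1, h⟩ := brec_false h
  obtain ⟨h2, h⟩ := brec_true h
  have hdM := not_ble h1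
  have hb := bndB_spec h2
  refine ⟨hdM, hb, ?_⟩
  cases hj : Nat.land (Nat.shiftRight (T.ent c col.off) T.jsh) T.jm with
  | zero =>
    rw [hj] at h
    simp only [Nat.rec_zero, Bool.and_eq_true, Nat.beq_eq, Bool.not_eq_true'] at h
    obtain ⟨⟨⟨a1, a2⟩, a3⟩, a4⟩ := h
    have hr : T.rep X d = T.rep X c * X col.off := by
      rw [rep, if_pos (by rw [a1]; exact not_ble a3), a1, a2]
    have := (Eqv.mul_left hy.le (C := C) (eqmB_spec hy.zok a4) (T.rep X d)).symm
    rw [dec_zero, mul_one] at this
    rw [← hr]; exact this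
  | succ j =>
    rw [hj] at h
    cases j with
    | zero =>
      simp only [Nat.rec_zero, Bool.and_eq_true, Nat.beq_eq] at h
      obtain ⟨⟨a1, a2⟩, a3⟩ := h
      cases hZ : col.sub with
      | zero => rw [hZ] at a3; exact absurd a3 (by simp)
      | succ Z =>
        rw [hZ] at a3
        subst a1; subst a2
        rw [rep_zero hs, one_mul, one_mul]
        exact (hy.sub col hcol Z hZ).trans (Eqv.mono hy.le (Eqv.symm (eqmB_spec hy.zok a3)))
    | succ j2 =>
      obtain ⟨rest, Z, hm, h'⟩ := withNth_spec h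
      obtain ⟨l1, l2⟩ := hs.rots col hcol _ hm
      have hrel := hy.rots col hcol _ hm
      simp only at l1 l2 hrel h'
      obtain ⟨e', acc, _, _, b3, b4⟩ := hp _ ho rest d _ 1 _ _ l2 hdM hb
        (hs.fits.mono (by nlinarith)) (Eqv.refl _) h'
      obtain ⟨b4, b5⟩ := brec_true b4
      have hec : e' = c := Nat.eq_of_beq_eq_true b4
      rw [hec] at b3
      have f1 := Eqv.mul_left hy.le (C := C) (eqmB_spec hy.zok b5) (T.rep X c)
      have f2 := Eqv.mul_left hy.le (C := C) hrel (T.rep X c)
      have f3 := (b3.trans f1).trans f2.symm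
      rw [← mul_assoc] at f3
      exact (Eqv.of_mul_right f3).symm

theorem chkEps_spec (hs : T.Static) (hy : T.Hyp X zs C K) {pf : PF} (hp : PathSpec T X zs K pf)
    {c : ℕ}
    (h : chkEps T.row T.M T.m0 T.tm T.jsh T.jm T.nl T.offE T.offS T.fuel T.ds T.erots pf c = true)
    (ho : T.Old X zs K (T.time c T.offE)) : T.Good X zs K c T.offE 1 := by
  have := hy.normal
  intro d hd
  have e : chkEps T.row T.M T.m0 T.tm T.jsh T.jm T.nl T.offE T.offS T.fuel T.ds T.erots pf c =
    Nat.rec (motive := fun _ => Bool) true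
    (fun d _ => !(Nat.ble T.M d) && bndB T.ds (T.ent c T.offE) &&
      Nat.rec (motive := fun _ => Bool) false
        (fun s _ => !(Nat.ble T.M s) &&
          withNth T.erots (Nat.shiftRight
              (Nat.land (Nat.shiftRight (T.ent c T.offE) T.jsh) T.jm) 1)
            (fun w Z => chase T.row T.m0 T.tm T.nl T.offE (T.time c T.offE) T.fuel s 0
              (fun p a1 => pf (T.time c T.offE) w s 0
                (fun e a2 => Bool.rec (motive := fun _ => Bool)
                  (Nat.beq p c && Nat.beq e d &&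
                    eqmB T.ds (Nat.add (Nat.add (T.ent c T.offE) a1) Z) a2)
                  (Nat.beq p d && Nat.beq e c &&
                    eqmB T.ds (Nat.add (T.ent c T.offE) a2) (Nat.add a1 Z))
                  (Nat.beq (Nat.land (Nat.shiftRight (T.ent c T.offE) T.jsh) 1) 0)))))
        (T.tg c T.offS)) (T.tg c T.offE) := rfl
  rw [e, hd] at h
  simp only [Bool.and_eq_true, Bool.not_eq_true'] at h
  obtain ⟨⟨h1, h2⟩, h⟩ := h
  have hdM := not_ble h1
  have hb := bndB_spec h2
  refine ⟨hdM, hb, ?_⟩
  cases hs' : T.tg c T.offS with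
  | zero => rw [hs'] at h; exact absurd h (by simp)
  | succ s =>
    rw [hs'] at h
    simp only [Bool.and_eq_true, Bool.not_eq_true'] at h
    obtain ⟨h3, h⟩ := h
    have hsM := not_ble h3
    obtain ⟨w, Z, hm, h⟩ := withNth_spec h
    obtain ⟨l1, l2, l3⟩ := hs.erots _ hm
    have hrel := hy.erots _ hm
    simp only at l1 l2 l3 hrel
    have hfit := hs.fits
    have hL := hs.Lpos
    have z0 : Eqv K (T.rep X s) (T.rep X s * dec T.ds zs 0) := by
      rw [dec_zero, mul_one]; exact Eqv.refl _
    obtain ⟨p, a1, _, c2, c3, h⟩ := chase_spec hy.zok ho T.fuel s 0 0 _ _ hsM (Bnd.zero _ _)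
      (hfit.mono (by nlinarith)) z0 h
    obtain ⟨e', a2, _, b2, b3, h⟩ := hp _ ho w s 0 0 _ _ l2 hsM (Bnd.zero _ _)
      (hfit.mono (by nlinarith)) z0 h
    -- rep p * a1 * Z ~ rep s * Z ~ rep s * w ~ rep e' * a2
    have f1 : Eqv K (T.rep X p * dec T.ds zs a1 * dec T.ds zs Z) (T.rep X e' * dec T.ds zs a2) :=
      ((c3.symm.mul_right _).trans (Eqv.mul_left hy.le (C := C) hrel _).symm).trans b3
    have hc := fun L g => Subgroup.mem_center_iff.mp (dec_mem_center hy.zok L) g
    simp only [zero_add] at c2 b2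
    cases hfl : Nat.beq (Nat.land (Nat.shiftRight (T.ent c T.offE) T.jsh) 1) 0 with
    | false =>
      rw [hfl] at h
      simp only [Bool.and_eq_true, Nat.beq_eq] at h
      obtain ⟨⟨q1, q2⟩, hq⟩ := h
      rw [q1, q2] at f1
      obtain ⟨g1, g2⟩ := dec_add hy.zok hb c2 (hfit.mono (by nlinarith))
      obtain ⟨_, g3⟩ := dec_add hy.zok g1 l3 (hfit.mono (by nlinarith))
      have f2 := eqmB_spec hy.zok hq
      rw [Nat.add_eq, Nat.add_eq, g3, g2] at f2
      have f3 := f1.trans (Eqv.mul_left hy.le (C := C) f2 (T.rep X d)).symm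
      rw [← mul_assoc, ← mul_assoc] at f3
      rw [mul_one]
      exact f3.of_mul_right.of_mul_right
    | true =>
      rw [hfl] at h
      simp only [Bool.and_eq_true, Nat.beq_eq] at h
      obtain ⟨⟨q1, q2⟩, hq⟩ := h
      rw [q1, q2] at f1
      obtain ⟨_, g2⟩ := dec_add hy.zok hb b2 (hfit.mono (by nlinarith))
      obtain ⟨_, g3⟩ := dec_add hy.zok c2 l3 (hfit.mono (by nlinarith))
      have f2 := eqmB_spec hy.zok hq
      rw [Nat.add_eq, Nat.add_eq, g3, g2] at f2
      have f3 := (Eqv.mul_left hy.le (C := C) f2 (T.rep X d))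
      rw [← mul_assoc, ← mul_assoc] at f3
      rw [mul_one]
      exact (f3.trans f1).of_mul_right.symm

/-- every entry of the table has been checked with the tracer `pf` -/
structure Checked (T : CT) (pf : PF) : Prop where
  ent : ∀ c < T.M, ∀ col ∈ T.cols,
    chkEntry T.row T.M T.m0 T.tm T.jsh T.jm T.offD T.pm T.psh T.om T.rm T.ds pf c col = true
  eps : ∀ c < T.M, T.nl ≤ c →
    chkEps T.row T.M T.m0 T.tm T.jsh T.jm T.nl T.offE T.offS T.fuel T.ds T.erots pf c = true

theorem old_all (hs : T.Static) (hy : T.Hyp X zs C K) {pf : PF} (hp : PathSpec T X zs K pf)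
    (hc : T.Checked pf) (thr : ℕ) : T.Old X zs K thr := by
  induction thr with
  | zero => exact ⟨fun _ _ _ _ h => absurd h (Nat.not_lt_zero _),
      fun _ _ _ h => absurd h (Nat.not_lt_zero _)⟩
  | succ thr ih =>
    constructor
    · intro c hcM off hoff ht
      rcases Nat.lt_succ_iff_lt_or_eq.mp ht with h | h
      · exact ih.1 c hcM off hoff h
      · obtain ⟨col, hcol, rfl⟩ := List.mem_map.mp hoff
        exact chkEntry_spec hs hy hp hcol (hc.ent c hcM col hcol) (h ▸ ih)
    · intro c hcM hnl ht
      rcases Nat.lt_succ_iff_lt_or_eq.mp ht with h | h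
      · exact ih.2 c hcM hnl h
      · exact chkEps_spec hs hy hp (hc.eps c hcM hnl) (h ▸ ih)

/-- the outcome of a verified table: all entries are good, and live rows are closed -/
structure Ok (T : CT) (X : ℕ → Γ) (zs : List Γ) (K : Subgroup Γ) : Prop where
  old : ∀ thr, T.Old X zs K thr
  closed : ∀ c < T.nl, ∀ o ∈ T.gens, ∃ e < T.nl, ∃ a,
    Eqv K (T.rep X c * X o) (T.rep X e * dec T.ds zs a)

/-- the whole check, no coincidences -/
def Chk0 (T : CT) : Prop := T.nl = T.M ∧ ∀ c < T.M,
  chkRow0 T.row T.M T.m0 T.tm T.jsh T.jm T.offD T.pm T.psh T.om T.rm T.ds T.cols T.gens c = true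

/-- the whole check, with coincidences -/
def Chk1 (T : CT) : Prop := ∀ c < T.M,
  chkRow1 T.row T.M T.nl T.m0 T.tm T.jsh T.jm T.offD T.pm T.psh T.om T.rm T.offE T.offS T.fuel
    T.ds T.cols T.erots T.gens c = true

theorem ble_false {a b : ℕ} (h : b < a) : Nat.ble a b = false := by
  cases h' : Nat.ble a b with
  | false => rfl
  | true => have := Nat.le_of_ble_eq_true h'; omega

theorem ok0 (hs : T.Static) (hy : T.Hyp X zs C K) (h : T.Chk0) : T.Ok X zs K := by
  have h1 : ∀ c < T.M, allL T.cols (chkEntry T.row T.M T.m0 T.tm T.jsh T.jm T.offD T.pm T.psh T.om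
      T.rm T.ds (path0 T.row T.m0 T.tm) c) = true ∧
      (allL T.gens fun off => Nat.rec (motive := fun _ => Bool) false (fun _ _ => true)
        (T.tg c off)) = true := by
    intro c hc
    have := h.2 c hc
    unfold chkRow0 at this
    rw [ble_false hc] at this
    exact brec_true this
  have hck : T.Checked (path0 T.row T.m0 T.tm) :=
    ⟨fun c hc col hcol => (allL_iff _ _).mp (h1 c hc).1 col hcol,
      fun c hc hnl => absurd (h.1 ▸ hnl) (by omega)⟩
  have ho := old_all hs hy (path0_spec hy.zok) hck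
  refine ⟨ho, fun c hc o hg => ?_⟩
  rw [h.1] at hc ⊢
  have := (allL_iff _ _).mp (h1 c hc).2 o hg
  cases ht : T.tg c o with
  | zero => rw [ht] at this; exact absurd this (by simp)
  | succ d =>
    obtain ⟨g1, _, g3⟩ := (ho (T.time c o + 1)).1 c hc o (hs.gens o hg) (by omega) d ht
    exact ⟨d, g1, _, g3⟩

theorem ok1 (hs : T.Static) (hy : T.Hyp X zs C K) (h : T.Chk1) : T.Ok X zs K := by
  have h1 : ∀ c < T.M, allL T.cols (chkEntry T.row T.M T.m0 T.tm T.jsh T.jm T.offD T.pm T.psh T.om
      T.rm T.ds (path1 T.row T.m0 T.tm T.nl T.offE T.fuel) c) = true ∧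
      Bool.rec (motive := fun _ => Bool)
        (allL T.gens fun off => path1 T.row T.m0 T.tm T.nl T.offE T.fuel (Nat.succ T.tm) [off] c 0
          (fun e _ => !(Nat.ble T.nl e)))
        (chkEps T.row T.M T.m0 T.tm T.jsh T.jm T.nl T.offE T.offS T.fuel T.ds T.erots
          (path1 T.row T.m0 T.tm T.nl T.offE T.fuel) c) (Nat.ble T.nl c) = true := by
    intro c hc
    have := h c hc
    unfold chkRow1 at this
    rw [ble_false hc] at this
    exact brec_true this
  have hck : T.Checked (path1 T.row T.m0 T.tm T.nl T.offE T.fuel) :=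
    ⟨fun c hc col hcol => (allL_iff _ _).mp (h1 c hc).1 col hcol,
      fun c hc hnl => by
        have := (h1 c hc).2
        rwa [Nat.ble_eq_true_of_le hnl] at this⟩
  have ho := old_all hs hy (path1_spec hy.zok) hck
  refine ⟨ho, fun c hc o hg => ?_⟩
  have hcM : c < T.M := lt_of_lt_of_le hc hs.nlM
  have := (h1 c hcM).2
  rw [ble_false hc] at this
  have := (allL_iff _ _).mp this o hg
  have hfit := hs.fits
  have hL := hs.Lpos
  obtain ⟨e, a, _, _, b3, b4⟩ := path1_spec hy.zok _ (ho _) [o] c 0 0 _ (T.rep X c)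
    (by simpa using hs.gens o hg) hcM (Bnd.zero _ _) (hfit.mono (by simp; nlinarith))
    (by rw [dec_zero, mul_one]; exact Eqv.refl _) this
  simp only [Bool.not_eq_true'] at b4
  exact ⟨e, not_ble b4, a, by simpa using b3⟩

/-- trace a word from row `c` back to row `c`: a relation -/
theorem Ok.trace (hs : T.Static) (hz : ZOk C T.ds zs) (h : T.Ok X zs K) {w : List ℕ} {c Z : ℕ}
    (hw : ∀ o ∈ w, o ∈ T.offs) (hc : c < T.M) (hf : Fits T.ds (w.length * (T.fuel + 1)))
    (ht : path1 T.row T.m0 T.tm T.nl T.offE T.fuel (T.tm + 1) w c 0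
      (fun e acc => Nat.beq e c && eqmB T.ds acc Z) = true) [C.Normal] (hCK : C ≤ K) :
    Eqv K (T.rep X c * ev X w) (T.rep X c * dec T.ds zs Z) := by
  have _ := hs
  obtain ⟨e, a, _, _, b3, b4⟩ := path1_spec hz _ (h.old _) w c 0 0 _ (T.rep X c)
    hw hc (Bnd.zero _ _) (by simpa using hf)
    (by rw [dec_zero, mul_one]; exact Eqv.refl _) ht
  simp only [Bool.and_eq_true, Nat.beq_eq] at b4
  obtain ⟨rfl, b5⟩ := b4
  exact b3.trans (Eqv.mul_left hCK (C := C) (eqmB_spec hz b5) _)

/-- every element lies in one of the live cosets of any `K'` containing `K` and the labels -/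
theorem Ok.cover (hs : T.Static) (h : T.Ok X zs K) {K' : Subgroup Γ} (hK : K ≤ K')
    (hz : ∀ a, dec T.ds zs a ∈ K' ⊓ Subgroup.center Γ) {γ : Γ}
    (hγ : γ ∈ Subgroup.closure (X '' {o | o ∈ T.gens})) :
    ∃ c < T.nl, Eqv K' γ (T.rep X c) := by
  classical
  let s : Setoid Γ := ⟨Eqv K', ⟨Eqv.refl, Eqv.symm, Eqv.trans⟩⟩
  let F : Set (Quotient s) := (fun c => Quotient.mk s (T.rep X c)) '' {c | c < T.nl}
  have hF : F.Finite := (Set.finite_lt_nat _).image _
  let act : Γ → Quotient s → Quotient s := fun g => Quotient.map (· * g) fun _ _ h => h.mul_right g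
  have act_mul : ∀ g g' q, act (g * g') q = act g' (act g q) := by
    intro g g' q
    induction q using Quotient.inductionOn with
    | h a => simp [act, mul_assoc]
  have act_one : ∀ q, act 1 q = q := by
    intro q
    induction q using Quotient.inductionOn with
    | h a => simp [act]
  have key : ∀ g ∈ Subgroup.closure (X '' {o | o ∈ T.gens}), Set.MapsTo (act g) F F := by
    intro g hg
    induction hg using Subgroup.closure_induction with
    | mem g hg =>
      obtain ⟨o, ho, rfl⟩ := hg
      rintro _ ⟨c, hc, rfl⟩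
      obtain ⟨e, he, a, h3⟩ := h.closed c hc o ho
      refine ⟨e, he, Quotient.sound ?_⟩
      refine Eqv.trans ?_ (Eqv.mono hK h3).symm
      have h4 := hz a
      show T.rep X e * (T.rep X e * dec T.ds zs a)⁻¹ ∈ K'
      rw [Subgroup.mem_center_iff.mp h4.2]
      simpa using h4.1
    | one => intro q hq; rwa [act_one]
    | mul g g' _ _ h1 h2 => intro q hq; rw [act_mul]; exact h2 (h1 hq)
    | inv g _ h1 =>
      have hinj : Set.InjOn (act g) F := by
        intro q _ q' _ hq
        rw [← act_one q, ← act_one q', ← mul_inv_cancel g, act_mul, act_mul, hq]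
      have hb := (hF.injOn_iff_bijOn_of_mapsTo h1).mp hinj
      intro q hq
      obtain ⟨q', hq', rfl⟩ := hb.surjOn hq
      rw [← act_mul, mul_inv_cancel, act_one]; exact hq'
  obtain ⟨c, hc, h5⟩ := key γ hγ ⟨0, hs.nlpos, rfl⟩
  refine ⟨c, hc, ?_⟩
  have h6 : Eqv K' (T.rep X c) (T.rep X 0 * γ) := Quotient.exact h5
  rw [rep_zero hs, one_mul] at h6
  exact h6.symm

/-- index bound -/
theorem Ok.index_le (hs : T.Static) (h : T.Ok X zs K) {K' : Subgroup Γ} (hK : K ≤ K')
    (hz : ∀ a, dec T.ds zs a ∈ K' ⊓ Subgroup.center Γ)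
    (hgen : Subgroup.closure (X '' {o | o ∈ T.gens}) = ⊤) :
    K'.index ≠ 0 ∧ K'.index ≤ T.nl := by
  have hsurj : Function.Surjective
      (fun c : Fin T.nl => (QuotientGroup.mk (T.rep X c)⁻¹ : Γ ⧸ K')) := by
    intro q
    induction q using QuotientGroup.induction_on with
    | H g =>
      obtain ⟨c, hc, h1⟩ := h.cover hs hK hz (γ := g⁻¹) (hgen ▸ Subgroup.mem_top _)
      refine ⟨⟨c, hc⟩, ?_⟩
      have := h1.symm
      simp only [Eqv, inv_inv] at this
      show (QuotientGroup.mk (T.rep X c)⁻¹ : Γ ⧸ K') = QuotientGroup.mk g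
      rw [QuotientGroup.eq]
      simpa using this
  have : Finite (Γ ⧸ K') := Finite.of_surjective _ hsurj
  exact ⟨Subgroup.index_ne_zero_of_finite,
    by simpa [Subgroup.index] using Nat.card_le_card_of_surjective _ hsurj⟩

end sound

end CT

end Cfsg.Agent.L0
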