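import Cfsg.Agent.L0.Coset

/-! Letter-level interface to the coset table checker. -/

set_option autoImplicit false

namespace Cfsg.Agent.L0

universe u

theorem eqv_rotate {Γ : Type u} [Group Γ] {C : Subgroup Γ} [hC : C.Normal] (x : ℕ → Γ)
    {w : List ℕ} {z : Γ} (hz : z ∈ Subgroup.center Γ) (h : Eqv C (ev x w) z) (i : ℕ) :
    Eqv C (ev x (w.rotate i)) z := by
  rw [List.rotate_eq_drop_append_take_mod, ev_append]
  rw [← List.take_append_drop (i % w.length) w, ev_append] at h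
  have := hC.conj_mem _ h (ev x (w.take (i % w.length)))⁻¹
  have hc := Subgroup.mem_center_iff.mp (Subgroup.inv_mem _ hz) (ev x (w.take (i % w.length)))
  unfold Eqv
  convert this using 1
  simp only [inv_inv, mul_assoc, inv_mul_cancel_left]
  rw [hc]

/-- offset of a letter -/
def toOff (w0 w y : ℕ) : ℕ := w0 + w * y

/-- letter of an offset -/
def ofOff (w0 w o : ℕ) : ℕ := (o - w0) / w

theorem ofOff_toOff {w0 w : ℕ} (hw : 0 < w) (y : ℕ) : ofOff w0 w (toOff w0 w y) = y := by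
  simp [ofOff, toOff, Nat.mul_div_cancel_left _ hw]

theorem ev_toOff {Γ : Type u} [Group Γ] (x : ℕ → Γ) {w0 w : ℕ} (hw : 0 < w) (l : List ℕ) :
    ev (fun o => x (ofOff w0 w o)) (l.map (toOff w0 w)) = ev x l := by
  rw [ev_map]; simp only [ofOff_toOff hw]

/-- `(u, Z)` is relator number `j` rotated by `i`, written in offsets -/
def isRotOf (RL : List (List ℕ × ℕ)) (w0 w : ℕ) (u : List ℕ) (Z : ℕ) (ji : ℕ × ℕ) : Bool :=
  match RL[ji.1]? with
  | none => false
  | some p => p.2 == Z && (p.1.rotate ji.2).map (toOff w0 w) == u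

theorem isRotOf_spec {Γ : Type u} [Group Γ] {C : Subgroup Γ} [C.Normal] {x : ℕ → Γ} {ds : List Dg}
    {zs : List Γ} (hz : ZOk C ds zs) {RL : List (List ℕ × ℕ)}
    (hR : ∀ p ∈ RL, Eqv C (ev x p.1) (dec ds zs p.2)) {w0 w : ℕ} (hw : 0 < w) {u : List ℕ} {Z : ℕ}
    {ji : ℕ × ℕ} (h : isRotOf RL w0 w u Z ji = true) :
    Eqv C (ev (fun o => x (ofOff w0 w o)) u) (dec ds zs Z) := by
  unfold isRotOf at h
  cases hp : RL[ji.1]? with
  | none => rw [hp] at h; exact absurd h (by simp)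
  | some p =>
    rw [hp] at h
    simp only [Bool.and_eq_true, beq_iff_eq] at h
    rw [← h.1, ← h.2, ev_toOff x hw]
    exact eqv_rotate x (dec_mem_center hz _) (hR p (List.mem_of_getElem? hp)) _

/-- pairwise check of two lists of the same length -/
def all2 {α β : Type} (f : α → β → Bool) : List α → List β → Bool
  | [], _ => true
  | _ :: _, [] => false
  | a :: l, b :: l' => f a b && all2 f l l'

theorem all2_spec {α β : Type} {f : α → β → Bool} {l : List α} {l' : List β}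
    (h : all2 f l l' = true) : ∀ a ∈ l, ∃ b, f a b = true := by
  induction l generalizing l' with
  | nil => simp
  | cons a l ih =>
    cases l' with
    | nil => simp [all2] at h
    | cons b l' =>
      simp only [all2, Bool.and_eq_true] at h
      intro a' ha'
      rcases List.mem_cons.mp ha' with rfl | h1
      · exact ⟨b, h.1⟩
      · exact ih h.2 a' h1

namespace CT
variable (T : CT)

/-- static conditions as a check -/
noncomputable def staticB : Bool :=
  Nat.beq (T.rank 0) 0 && decide (Fits T.ds ((T.L + 1) * (T.fuel + 1) + 2)) &&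
  T.cols.all (fun col => col.rots.all fun p =>
    decide (p.1.length ≤ T.L) && p.1.all fun o => T.offs.contains o) &&
  T.erots.all (fun p => decide (p.1.length ≤ T.L) && (p.1.all fun o => T.offs.contains o) &&
    bndB T.ds p.2) &&
  T.gens.all (fun o => T.offs.contains o) && decide (1 ≤ T.L) && decide (T.nl ≤ T.M) &&
  decide (0 < T.nl)

theorem static_of {T : CT} (h : T.staticB = true) : T.Static := by
  simp only [staticB, Bool.and_eq_true, Nat.beq_eq, decide_eq_true_eq, List.all_eq_true,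
    List.contains_iff_mem] at h
  obtain ⟨⟨⟨⟨⟨⟨⟨h1, h2⟩, h3⟩, h4⟩, h5⟩, h6⟩, h7⟩, h8⟩ := h
  exact ⟨h1, h2, h3, fun p hp => ⟨(h4 p hp).1.1, (h4 p hp).1.2, bndB_spec (h4 p hp).2⟩, h5, h6,
    h7, h8⟩

/-- the rotated words come from the relator list `RL`, the subgroup labels from `SL` -/
def rotB (RL : List (List ℕ × ℕ)) (SL : List (ℕ × ℕ)) (w0 w : ℕ) (rc : List (List (ℕ × ℕ)))
    (erc : List (ℕ × ℕ)) : Bool :=
  decide (0 < w) &&
  all2 (fun col l => all2 (fun p ji => isRotOf RL w0 w (col.off :: p.1) p.2 ji) col.rots l)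
    T.cols rc &&
  all2 (fun p ji => isRotOf RL w0 w p.1 p.2 ji) T.erots erc &&
  T.cols.all fun col => col.sub == 0 || SL.contains (ofOff w0 w col.off, col.sub - 1)

variable {T} {Γ : Type u} [Group Γ] {x : ℕ → Γ} {zs : List Γ} {C K : Subgroup Γ}

theorem hyp_of [hC : C.Normal] (hCK : C ≤ K) (hz : ZOk C T.ds zs) {RL : List (List ℕ × ℕ)}
    {SL : List (ℕ × ℕ)} {w0 w : ℕ} {rc : List (List (ℕ × ℕ))} {erc : List (ℕ × ℕ)}
    (h : T.rotB RL SL w0 w rc erc = true)
    (hR : ∀ p ∈ RL, Eqv C (ev x p.1) (dec T.ds zs p.2))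
    (hS : ∀ p ∈ SL, Eqv K (x p.1) (dec T.ds zs p.2)) :
    T.Hyp (fun o => x (ofOff w0 w o)) zs C K := by
  simp only [rotB, Bool.and_eq_true, decide_eq_true_eq, List.all_eq_true, Bool.or_eq_true,
    beq_iff_eq, List.contains_iff_mem] at h
  obtain ⟨⟨⟨h1, h2⟩, h3⟩, h4⟩ := h
  refine ⟨hC, hCK, hz, ?_, ?_, ?_⟩
  · intro col hcol p hp
    obtain ⟨l, hl⟩ := all2_spec h2 col hcol
    obtain ⟨ji, hji⟩ := all2_spec hl p hp
    simpa using isRotOf_spec hz hR h1 hji
  · intro p hp
    obtain ⟨ji, hji⟩ := all2_spec h3 p hp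
    exact isRotOf_spec hz hR h1 hji
  · intro col hcol Z hZ
    rcases h4 col hcol with h5 | h5
    · omega
    · have := hS _ h5
      simpa [hZ] using this

end CT

/-- A verified table over the labelled relators `RL` and subgroup letters `SL`; `gl` are the
letters under which the live rows are closed. -/
structure Cert (T : CT) (RL : List (List ℕ × ℕ)) (SL : List (ℕ × ℕ)) (w0 w : ℕ) (gl : List ℕ) :
    Prop where
  stat : T.staticB = true
  rot : ∃ rc erc, T.rotB RL SL w0 w rc erc = true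
  gens : T.gens = gl.map (toOff w0 w)
  chk : T.Chk0 ∨ T.Chk1

namespace Cert
variable {T : CT} {RL : List (List ℕ × ℕ)} {SL : List (ℕ × ℕ)} {w0 w : ℕ} {gl : List ℕ}
variable {Γ : Type u} [Group Γ] {x : ℕ → Γ} {zs : List Γ} {C K : Subgroup Γ}

theorem wpos (h : Cert T RL SL w0 w gl) : 0 < w := by
  obtain ⟨rc, erc, h⟩ := h.rot
  simp only [CT.rotB, Bool.and_eq_true, decide_eq_true_eq] at h
  exact h.1.1.1

theorem ok (h : Cert T RL SL w0 w gl) [C.Normal] (hCK : C ≤ K) (hz : ZOk C T.ds zs)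
    (hR : ∀ p ∈ RL, Eqv C (ev x p.1) (dec T.ds zs p.2))
    (hS : ∀ p ∈ SL, Eqv K (x p.1) (dec T.ds zs p.2)) :
    T.Ok (fun o => x (ofOff w0 w o)) zs K := by
  obtain ⟨rc, erc, hr⟩ := h.rot
  have hy := CT.hyp_of hCK hz hr hR hS
  rcases h.chk with h1 | h1
  · exact CT.ok0 (CT.static_of h.stat) hy h1
  · exact CT.ok1 (CT.static_of h.stat) hy h1

/-- index bound for an unlabelled table (`ds = []`) -/
theorem index_le (h : Cert T RL SL w0 w gl) (hds : T.ds = [])
    (hR : ∀ p ∈ RL, ev x p.1 = 1) (hS : ∀ p ∈ SL, x p.1 ∈ K)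
    (hgen : Subgroup.closure (x '' {y | y ∈ gl}) = ⊤) : K.index ≠ 0 ∧ K.index ≤ T.nl := by
  have hd : ∀ a, dec T.ds ([] : List Γ) a = 1 := fun a => by rw [hds]; rfl
  have hok := h.ok (C := ⊥) (zs := []) (K := K) (x := x) bot_le (by rw [hds]; trivial)
    (fun p hp => by rw [hd, hR p hp]; exact Eqv.refl _)
    (fun p hp => by rw [hd]; simpa [Eqv] using hS p hp)
  refine hok.index_le (CT.static_of h.stat) le_rfl (fun a => by rw [hd]; exact one_mem _) ?_
  rw [← hgen, h.gens]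
  congr 1
  ext g
  simp only [Set.mem_image, Set.mem_setOf_eq, List.mem_map]
  constructor
  · rintro ⟨o, ⟨y, hy, rfl⟩, rfl⟩
    exact ⟨y, hy, by rw [ofOff_toOff h.wpos]⟩
  · rintro ⟨y, hy, rfl⟩
    exact ⟨_, ⟨y, hy, rfl⟩, by rw [ofOff_toOff h.wpos]⟩

/-- index bound from a labelled table, forgetting the labels -/
theorem index_le' (h : Cert T RL SL w0 w gl)
    (hR : ∀ p ∈ RL, ev x p.1 = 1) (hS : ∀ p ∈ SL, x p.1 ∈ K)
    (hgen : Subgroup.closure (x '' {y | y ∈ gl}) = ⊤) : K.index ≠ 0 ∧ K.index ≤ T.nl := by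
  have hd : ∀ a, dec T.ds ([] : List Γ) a = 1 := fun a => by cases T.ds <;> rfl
  have hok := h.ok (C := ⊥) (zs := []) (K := K) (x := x) bot_le (by cases T.ds <;> trivial)
    (fun p hp => by rw [hd, hR p hp]; exact Eqv.refl _)
    (fun p hp => by rw [hd]; simpa [Eqv] using hS p hp)
  refine hok.index_le (CT.static_of h.stat) le_rfl (fun a => by rw [hd]; exact one_mem _) ?_
  rw [← hgen, h.gens]
  congr 1
  ext g
  simp only [Set.mem_image, Set.mem_setOf_eq, List.mem_map]
  constructor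
  · rintro ⟨o, ⟨y, hy, rfl⟩, rfl⟩
    exact ⟨y, hy, by rw [ofOff_toOff h.wpos]⟩
  · rintro ⟨y, hy, rfl⟩
    exact ⟨_, ⟨y, hy, rfl⟩, by rw [ofOff_toOff h.wpos]⟩

/-- check that the word `u` traced from row `c` returns to row `c` with label `Z` -/
noncomputable def traceB (T : CT) (w0 w : ℕ) (u : List ℕ) (c Z : ℕ) : Bool :=
  (u.all fun y => T.offs.contains (toOff w0 w y)) && decide (c < T.M) &&
  decide (Fits T.ds (u.length * (T.fuel + 1))) &&
  path1 T.row T.m0 T.tm T.nl T.offE T.fuel (T.tm + 1) (u.map (toOff w0 w)) c 0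
      (fun e acc => Nat.beq e c && eqmB T.ds acc Z)

theorem trace (h : Cert T RL SL w0 w gl) [C.Normal] (hCK : C ≤ K) (hz : ZOk C T.ds zs)
    (hok : T.Ok (fun o => x (ofOff w0 w o)) zs K) {u : List ℕ} {c Z : ℕ}
    (ht : traceB T w0 w u c Z = true) :
    ∃ t : Γ, (c = 0 → t = 1) ∧ Eqv K (t * ev x u) (t * dec T.ds zs Z) := by
  simp only [traceB, Bool.and_eq_true, decide_eq_true_eq, List.all_eq_true,
    List.contains_iff_mem] at ht
  obtain ⟨⟨⟨h1, h2⟩, h3⟩, h4⟩ := ht
  have := hok.trace (CT.static_of h.stat) hz (w := u.map (toOff w0 w)) (c := c) (Z := Z)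
    (by simpa using h1) h2 (by simpa using h3) h4 hCK
  rw [ev_toOff x h.wpos] at this
  exact ⟨_, fun hc => by rw [hc, CT.rep_zero (CT.static_of h.stat)], this⟩

/-- a central value traced anywhere: `ev x u` and the label agree modulo `K` -/
theorem trace_central (h : Cert T RL SL w0 w gl) [C.Normal] (hCK : C ≤ K) (hz : ZOk C T.ds zs)
    (hok : T.Ok (fun o => x (ofOff w0 w o)) zs K) {u : List ℕ} {c Z : ℕ}
    (ht : traceB T w0 w u c Z = true) (hu : ev x u ∈ Subgroup.center Γ) :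
    Eqv K (ev x u) (dec T.ds zs Z) := by
  obtain ⟨t, _, h1⟩ := h.trace hCK hz hok ht
  have h2 := Subgroup.mem_center_iff.mp
    (Subgroup.mul_mem _ hu (Subgroup.inv_mem _ (dec_mem_center hz Z))) t
  unfold Eqv at h1 ⊢
  rw [mul_inv_rev, mul_assoc, ← mul_assoc (ev x u), ← mul_assoc, h2, mul_inv_cancel_right] at h1
  exact h1

end Cert

end Cfsg.Agent.L0
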