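import Cfsg.Agent.L0.CosetChain
import Cfsg.Agent.L0.RAct
import Cfsg.Prelude.Def_SporCoxeter

/-! Coxeter-graph presentations written in numbered letters. -/

set_option autoImplicit false

namespace Cfsg.Agent.L0

open Cfsg.Spor

universe u

section
variable {α : Type} [DecidableEq α] (idx iv : α → ℕ)

/-- a free word in numbered letters; `iv a` is the letter of the inverse of `a` -/
def wordOf (r : FreeGroup α) : List ℕ := r.toWord.map fun p => if p.2 then idx p.1 else iv p.1

theorem lift_eq_ev {Γ : Type u} [Group Γ] (y : ℕ → Γ) (hiv : ∀ a, y (iv a) = (y (idx a))⁻¹)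
    (r : FreeGroup α) : FreeGroup.lift (fun a => y (idx a)) r = ev y (wordOf idx iv r) := by
  conv_lhs => rw [← FreeGroup.mk_toWord (x := r)]
  rw [FreeGroup.lift_mk, wordOf, ev, List.map_map]
  congr 1
  refine List.map_congr_left fun p _ => ?_
  rcases p with ⟨a, _ | _⟩ <;> simp [hiv]

/-- all relators of the presentation, in numbered letters -/
def coxR (edges : List (α × ℕ × α)) (extra : List (FreeGroup α)) (all : List α) :
    List (List ℕ) :=
  ((coxNodes edges).flatMap fun a => (coxNodes edges).map fun b =>
    (List.replicate (coxLabel edges a b) [idx a, idx b]).flatten) ++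
  extra.map (wordOf idx iv) ++ all.flatMap fun a => [[idx a, iv a], [iv a, idx a]]

variable {idx iv} {edges : List (α × ℕ × α)} {extra : List (FreeGroup α)} {all : List α}

theorem cox_pair {a b : α} (ha : a ∈ coxNodes edges) (hb : b ∈ coxNodes edges) :
    ((PresentedGroup.of a : CoxPresented α edges extra) * PresentedGroup.of b) ^
      coxLabel edges a b = 1 := by
  have := PresentedGroup.one_of_mem (rels := coxRelators edges ∪ {r | r ∈ extra})
    (Or.inl ⟨a, ha, b, hb, rfl⟩)
  simpa [PresentedGroup.of] using this

theorem cox_inv {a : α} (ha : a ∈ coxNodes edges) :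
    (PresentedGroup.of a : CoxPresented α edges extra) = (PresentedGroup.of a)⁻¹ := by
  have := cox_pair (extra := extra) ha ha
  rw [coxLabel, if_pos rfl, pow_one] at this
  exact eq_inv_of_mul_eq_one_left this

theorem cox_rel {x : ℕ → CoxPresented α edges extra} (hx : ∀ a, x (idx a) = PresentedGroup.of a)
    (hiv : ∀ a, x (iv a) = (PresentedGroup.of a)⁻¹) :
    ∀ r ∈ coxR idx iv edges extra all, ev x r = 1 := by
  intro r hr
  simp only [coxR, List.mem_append, List.mem_flatMap, List.mem_map] at hr
  rcases hr with (⟨a, ha, b, hb, rfl⟩ | ⟨w, hw, rfl⟩) | ⟨a, _, h⟩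
  · rw [ev_replicate_flatten]
    simpa [hx] using cox_pair (extra := extra) ha hb
  · rw [← lift_eq_ev idx iv x (fun a => by rw [hiv, hx])]
    have : FreeGroup.lift (fun a => x (idx a)) =
        PresentedGroup.mk (coxRelators edges ∪ {r | r ∈ extra}) := by
      ext a; simp [hx, PresentedGroup.of]
    rw [this]
    exact PresentedGroup.one_of_mem (Or.inr hw)
  · simp only [List.mem_cons, List.not_mem_nil, or_false] at h
    rcases h with rfl | rfl <;> simp [hx, hiv]

theorem cox_lift {Γ : Type u} [Group Γ] {y : ℕ → Γ} (hall : ∀ a, a ∈ all)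
    (h : ∀ r ∈ coxR idx iv edges extra all, ev y r = 1) :
    ∃ f : CoxPresented α edges extra →* Γ, ∀ a, f (PresentedGroup.of a) = y (idx a) := by
  have hiv : ∀ a, y (iv a) = (y (idx a))⁻¹ := fun a => by
    have := h [iv a, idx a] (by
      simp only [coxR, List.mem_append, List.mem_flatMap]
      exact Or.inr ⟨a, hall a, by simp⟩)
    simpa [mul_eq_one_iff_eq_inv] using this
  refine ⟨PresentedGroup.toGroup (f := fun a => y (idx a)) ?_, fun a => PresentedGroup.toGroup.of _⟩
  rintro r (⟨a, ha, b, hb, rfl⟩ | hr)
  · have := h (List.replicate (coxLabel edges a b) [idx a, idx b]).flatten (by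
      simp only [coxR, List.mem_append, List.mem_flatMap, List.mem_map]
      exact Or.inl (Or.inl ⟨a, ha, b, hb, rfl⟩))
    rw [ev_replicate_flatten] at this
    simpa using this
  · rw [lift_eq_ev idx iv y hiv]
    exact h _ (by
      simp only [coxR, List.mem_append, List.mem_flatMap, List.mem_map]
      exact Or.inl (Or.inr ⟨r, hr, rfl⟩))

theorem cox_genL {x : ℕ → CoxPresented α edges extra} (hx : ∀ a, x (idx a) = PresentedGroup.of a)
    {l : List ℕ} (hl : ∀ a, idx a ∈ l) : genL x l = ⊤ := by
  rw [eq_top_iff, ← PresentedGroup.closure_range_of, Subgroup.closure_le]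
  rintro _ ⟨a, rfl⟩
  rw [← hx]; exact mem_genL x (hl a)

end

/-- relators taken from another list up to a rotation by one letter -/
theorem rel_sub' {Γ : Type u} [Group Γ] {x : ℕ → Γ} {R R' : List (List ℕ)}
    (h : ∀ r ∈ R, ev x r = 1)
    (hs : (R'.all fun r => R.contains r || R.contains (r.rotate 1)) = true) :
    ∀ r ∈ R', ev x r = 1 := fun r hr => by
  have := List.all_eq_true.mp hs r hr
  simp only [Bool.or_eq_true, List.contains_iff_mem] at this
  rcases this with h1 | h1
  · exact h r h1
  · have h2 := h _ h1
    cases r with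
    | nil => rfl
    | cons a w =>
      rw [List.rotate_cons_succ, List.rotate_zero, ev_append, ev_singleton] at h2
      rw [ev_cons, mul_eq_one_comm.mp h2]

/-- a table on which the relators close is the table of an action of the presented group -/
theorem exists_ract_cox {α : Type} [DecidableEq α] {idx iv : α → ℕ} {edges : List (α × ℕ × α)}
    {extra : List (FreeGroup α)} {all : List α} (hall : ∀ a, a ∈ all)
    {x : ℕ → CoxPresented α edges extra} (hx : ∀ a, x (idx a) = PresentedGroup.of a)
    (hiv : ∀ a, x (iv a) = (PresentedGroup.of a)⁻¹) {k : ℕ}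
    (hk : ((List.range k).all fun i => all.any fun a => i == idx a || i == iv a) = true)
    {T : ℕ → ℕ → ℕ} {N M : ℕ} {R : List (List ℕ)} (hkR : lettersB k R = true)
    (hs : startsB k R = true)
    (hR : ((coxR idx iv edges extra all).all fun r => R.contains r || R.contains (r.rotate 1)) = true)
    (hM : N ≤ M) (h : ∀ c < M, relChk T N (List.range k) R c = true) :
    ∃ A : RAct (CoxPresented α edges extra) N, A.Tab x k T := by
  obtain ⟨A, hA⟩ := exists_ract_PG hkR hs hM h
  have h1 := rel_sub' (x := PG.gen k R) (fun _ => PG.rel) hR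
  obtain ⟨f, hf⟩ := cox_lift hall h1
  refine ⟨A.comap f, RAct.Tab.comap f fun i hi c hc => ?_⟩
  have e : f (x i) = PG.gen k R i := by
    simp only [List.all_eq_true, List.mem_range, List.any_eq_true, Bool.or_eq_true,
      beq_iff_eq] at hk
    obtain ⟨a, _, rfl | rfl⟩ := hk i hi
    · rw [hx, hf]
    · rw [hiv, map_inv, hf]
      have := h1 [iv a, idx a] (by
        simp only [coxR, List.mem_append, List.mem_flatMap]
        exact Or.inr ⟨a, hall a, by simp⟩)
      symm
      simpa [mul_eq_one_iff_eq_inv] using this
  simp only [e]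
  exact hA i hi c hc

end Cfsg.Agent.L0
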