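import Cfsg.Agent.L0.Cover

/-! Presentations with extra letters for words; generators of the small abelian groups. -/

set_option autoImplicit false

namespace Cfsg.Agent.L0

open Cfsg.Spor

universe u

/-- the word for letter `i`: itself below `k`, else word number `i - k` -/
def subW (k : ℕ) (W : List (List ℕ)) (i : ℕ) : List ℕ := if i < k then [i] else W.getD (i - k) []

/-- the inverse word, `IV` listing the inverse letters -/
def invW (IV : List ℕ) (w : List ℕ) : List ℕ := (w.map fun a => IV.getD a 0).reverse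

theorem ev_invW {Γ : Type u} [Group Γ] {y : ℕ → Γ} {IV : List ℕ} {w : List ℕ}
    (h : ∀ a ∈ w, y a * y (IV.getD a 0) = 1) : ev y (invW IV w) = (ev y w)⁻¹ := by
  induction w with
  | nil => simp [invW]
  | cons a w ih =>
    have := ih fun b hb => h b (by simp [hb])
    simp only [invW] at this ⊢
    rw [List.map_cons, List.reverse_cons, ev_append, this, ev_singleton, ev_cons, mul_inv_rev,
      eq_inv_of_mul_eq_one_right (h a (by simp))]

/-- a presentation with further letters standing for words -/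
theorem IsPres.extend {G : Type u} [Group G] {x : ℕ → G} {k : ℕ} {R0 : List (List ℕ)}
    (h : IsPres x k R0) {W : List (List ℕ)} {IV : List ℕ} {R : List (List ℕ)} {k' : ℕ}
    (hk' : k' = k + W.length) (hlt : lettersLt k' R = true) (hW : lettersLt k W = true)
    (hiv : ((List.range k).all fun a => R0.contains [a, IV.getD a 0] &&
      R.contains [a, IV.getD a 0]) = true)
    (hdef : ((List.range W.length).all fun j =>
      R.contains ((k + j) :: invW IV (W.getD j []))) = true)
    (h1 : (R.all fun r => R0.contains (r.flatMap (subW k W)) ||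
      W.any fun w => r.flatMap (subW k W) == w ++ invW IV w) = true)
    (h2 : (R0.all fun r => (R.map fun r' => r'.flatMap (subW k W)).contains r) = true) :
    IsPres (fun i => ev x (subW k W i)) k' R := by
  simp only [List.all_eq_true, List.mem_range, Bool.and_eq_true, List.contains_iff_mem,
    Bool.or_eq_true, List.any_eq_true, beq_iff_eq, List.mem_map] at hiv hdef h1 h2
  have hx : ∀ i < k, ev x (subW k W i) = x i := fun i hi => by simp [subW, hi]
  have hsub : ∀ i < k', ∀ a ∈ subW k W i, a < k := by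
    intro i hi a ha
    unfold subW at ha
    split_ifs at ha with h3
    · rw [List.mem_singleton.mp ha]; exact h3
    · have h4 : i - k < W.length := by omega
      rw [List.getD_eq_getElem _ _ h4] at ha
      exact lettersLt_iff.mp hW _ (List.getElem_mem h4) a ha
  have hy : ∀ i < k', ev (PG.gen k' R) (subW k W i) = PG.gen k' R i := by
    intro i hi
    by_cases h3 : i < k
    · simp [subW, h3]
    · have h4 := PG.rel (k := k') (hdef (i - k) (by omega))
      have h5 := hsub i hi
      simp only [subW, if_neg h3] at h5 ⊢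
      rw [ev_cons, ev_invW fun a ha => by simpa using PG.rel (k := k') (hiv a (h5 a ha)).2,
        show k + (i - k) = i by omega] at h4
      exact (mul_inv_eq_one.mp h4).symm
  obtain ⟨f, hf⟩ := h.exists_hom (PG.gen k' R) fun r hr => by
    obtain ⟨r', hr', rfl⟩ := h2 r hr
    rw [ev_flatMap, ev_congr fun a ha => hy a (lettersLt_iff.mp hlt r' hr' a ha)]
    exact PG.rel hr'
  refine isPres_of_inv hlt (fun r hr => ?_) ?_ f fun i hi => ?_
  · rw [← ev_flatMap]
    rcases h1 r hr with h3 | ⟨w, hw, h3⟩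
    · exact h.rel _ h3
    · rw [h3, ev_append, ev_invW fun a ha => by
        simpa using h.rel _ (hiv a (lettersLt_iff.mp hW w hw a ha)).1, mul_inv_cancel]
  · rw [eq_top_iff, ← h.gen_top]
    refine genL_le fun i hi => ?_
    have hi := List.mem_range.mp hi
    rw [← hx i hi]
    exact mem_genL (fun i => ev x (subW k W i)) (List.mem_range.mpr (by omega))
  · rw [map_ev, ev_congr fun a ha => hf a (hsub i hi a ha), hy i hi]

theorem isPres_cox {α : Type} [DecidableEq α] {idx iv : α → ℕ} {edges : List (α × ℕ × α)}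
    {extra : List (FreeGroup α)} {all : List α} (hall : ∀ a, a ∈ all)
    {x : ℕ → CoxPresented α edges extra} (hx : ∀ a, x (idx a) = PresentedGroup.of a)
    (hiv : ∀ a, x (iv a) = (PresentedGroup.of a)⁻¹) {k : ℕ}
    (hk : ((List.range k).all fun i => all.any fun a => i == idx a || i == iv a) = true)
    (hk' : (all.all fun a => decide (idx a < k)) = true)
    {R : List (List ℕ)} (hkR : lettersLt k R = true)
    (hR : ((coxR idx iv edges extra all).all fun r => R.contains r || R.contains (r.rotate 1)) = true)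
    (hR' : (R.all fun r => (coxR idx iv edges extra all).contains r) = true) : IsPres x k R := by
  have h1 := rel_sub' (x := PG.gen k R) (fun _ => PG.rel) hR
  obtain ⟨f, hf⟩ := cox_lift hall h1
  refine isPres_of_inv hkR (rel_sub (cox_rel hx hiv) hR')
    (cox_genL hx fun a => List.mem_range.mpr ?_) f fun i hi => ?_
  · simpa using List.all_eq_true.mp hk' a (hall a)
  · simp only [List.all_eq_true, List.mem_range, List.any_eq_true, Bool.or_eq_true,
      beq_iff_eq] at hk
    obtain ⟨a, _, rfl | rfl⟩ := hk i hi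
    · rw [hx, hf]
    · rw [hiv, map_inv, hf]
      have := h1 [iv a, idx a] (by
        simp only [coxR, List.mem_append, List.mem_flatMap]
        exact Or.inr ⟨a, hall a, by simp⟩)
      symm
      simpa [mul_eq_one_iff_eq_inv] using this

/-! ### generators of the kernels -/

theorem top_of_one {m : ℕ} {B : AddSubgroup (ZMod m)} (h : (1 : ZMod m) ∈ B) : B = ⊤ := by
  rw [eq_top_iff]
  intro a _
  obtain ⟨n, rfl⟩ := ZMod.intCast_surjective a
  simpa using B.zsmul_mem h n

theorem top_of_two {m n : ℕ} {B : AddSubgroup (ZMod m × ZMod n)} (h1 : ((1, 0) : _ × _) ∈ B)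
    (h2 : ((0, 1) : _ × _) ∈ B) : B = ⊤ := by
  rw [eq_top_iff]
  rintro ⟨a, b⟩ _
  obtain ⟨i, rfl⟩ := ZMod.intCast_surjective a
  obtain ⟨j, rfl⟩ := ZMod.intCast_surjective b
  simpa using B.add_mem (B.zsmul_mem h1 i) (B.zsmul_mem h2 j)

theorem top_of_three {l m n : ℕ} {B : AddSubgroup (ZMod l × ZMod m × ZMod n)}
    (h0 : ((1, 0, 0) : _ × _ × _) ∈ B) (h1 : ((0, 1, 0) : _ × _ × _) ∈ B)
    (h2 : ((0, 0, 1) : _ × _ × _) ∈ B) : B = ⊤ := by
  rw [eq_top_iff]
  rintro ⟨a, b, c⟩ _
  obtain ⟨i, rfl⟩ := ZMod.intCast_surjective a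
  obtain ⟨j, rfl⟩ := ZMod.intCast_surjective b
  obtain ⟨t, rfl⟩ := ZMod.intCast_surjective c
  simpa using B.add_mem (B.add_mem (B.zsmul_mem h0 i) (B.zsmul_mem h1 j)) (B.zsmul_mem h2 t)

section
variable {G : Type u} [Group G] [Finite G] {x : ℕ → G} {k : ℕ} {R : List (List ℕ)}

theorem lower_one (hP : IsPres x k R) {m : ℕ} {val : ℕ → ZMod m} (h : Rep k R (ZMod m) 1 val)
    (L : List (ℤ × ℕ)) (hz : zeroExp k R L = true) (h1 : (L.map fun p => p.1 • val p.2).sum = 1) :
    LowerMult G (Multiplicative (ZMod m)) :=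
  h.lower hP [L] (by simpa using hz) fun _ hB => top_of_one (h1 ▸ hB L (by simp))

theorem lower_two (hP : IsPres x k R) {m n : ℕ} {v1 : ℕ → ZMod m} {v2 : ℕ → ZMod n}
    (r1 : Rep k R (ZMod m) 1 v1) (r2 : Rep k R (ZMod n) 1 v2) (L1 L2 : List (ℤ × ℕ))
    (hz : [L1, L2].all (zeroExp k R) = true)
    (h1 : (L1.map fun p => p.1 • (v1 p.2, v2 p.2)).sum = (1, 0))
    (h2 : (L2.map fun p => p.1 • (v1 p.2, v2 p.2)).sum = (0, 1)) :
    LowerMult G (Multiplicative (ZMod m × ZMod n)) :=
  (r1.prod r2).lower hP [L1, L2] hz fun _ hB =>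
    top_of_two (h1 ▸ hB L1 (by simp)) (h2 ▸ hB L2 (by simp))

theorem lower_three (hP : IsPres x k R) {l m n : ℕ} {v0 : ℕ → ZMod l} {v1 : ℕ → ZMod m}
    {v2 : ℕ → ZMod n} (r0 : Rep k R (ZMod l) 1 v0) (r1 : Rep k R (ZMod m) 1 v1)
    (r2 : Rep k R (ZMod n) 1 v2) (L0 L1 L2 : List (ℤ × ℕ))
    (hz : [L0, L1, L2].all (zeroExp k R) = true)
    (h0 : (L0.map fun p => p.1 • (v0 p.2, v1 p.2, v2 p.2)).sum = (1, 0, 0))
    (h1 : (L1.map fun p => p.1 • (v0 p.2, v1 p.2, v2 p.2)).sum = (0, 1, 0))
    (h2 : (L2.map fun p => p.1 • (v0 p.2, v1 p.2, v2 p.2)).sum = (0, 0, 1)) :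
    LowerMult G (Multiplicative (ZMod l × ZMod m × ZMod n)) :=
  (r0.prod (r1.prod r2)).lower hP [L0, L1, L2] hz fun _ hB =>
    top_of_three (h0 ▸ hB L0 (by simp)) (h1 ▸ hB L1 (by simp)) (h2 ▸ hB L2 (by simp))

/-- coprime cyclic parts -/
theorem lower_coprime {m n : ℕ} (hc : m.Coprime n)
    (h : LowerMult G (Multiplicative (ZMod m × ZMod n))) :
    LowerMult G (Multiplicative (ZMod (m * n))) :=
  h.congr_right (AddEquiv.toMultiplicative (ZMod.chineseRemainder hc).symm.toAddEquiv)

end

end Cfsg.Agent.L0
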