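import Cfsg.Agent.L0.ChainT
import Cfsg.Agent.L0.CoxPres
import Cfsg.Agent.L0.Dw

/-! Double coset enumeration: facts, the machine that derives them, and its soundness. -/

set_option autoImplicit false

namespace Cfsg.Agent.L0.Dce

universe u v

/-- binary tree with arbitrary leaves -/
inductive GT (α : Type) where
  | leaf (a : α) : GT α
  | node (l r : GT α) : GT α

/-- leaf number `j` (low bit first) -/
noncomputable def GT.get {α : Type} (t : GT α) : ℕ → α :=
  GT.rec (motive := fun _ => ℕ → α) (fun a _ => a)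
    (fun _ _ l r j => Bool.rec (motive := fun _ => α) (r (Nat.shiftRight j 1))
      (l (Nat.shiftRight j 1)) (Nat.beq (Nat.land j 1) 0)) t

/-- a word packed in bijective base 32 -/
noncomputable def dcF (f : ℕ) : ℕ → List ℕ :=
  Nat.rec (motive := fun _ => ℕ → List ℕ) (fun _ => [])
    (fun _ ih n => Nat.rec (motive := fun _ => List ℕ) [] (fun m _ =>
      Nat.rec (motive := fun _ => List ℕ) [] (fun y _ => y :: ih (Nat.shiftRight m 5))
        (Nat.succ (Nat.land m 31))) n) f

/-- a word packed in bijective base 32 -/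
noncomputable def wd (n : ℕ) : List ℕ := dcF 1000 n

theorem wd_zero : wd 0 = [] := rfl

/-- trace the inverse of the word -/
noncomputable def trI (T : ℕ → ℕ → ℕ) (iv : ℕ → ℕ) (w : List ℕ) (c : ℕ) : ℕ :=
  List.rec (motive := fun _ => ℕ) c
    (fun y _ ih => Nat.rec (motive := fun _ => ℕ) 0 (fun d _ => T d (iv y)) (Nat.succ ih)) w

/-- map, evaluating the entries -/
noncomputable def fm (f : ℕ → ℕ) (l : List ℕ) : List ℕ :=
  List.rec (motive := fun _ => List ℕ) []
    (fun a _ ih => Nat.rec (motive := fun _ => List ℕ) [] (fun b _ => b :: ih) (Nat.succ (f a))) l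

theorem fm_eq (f : ℕ → ℕ) (l : List ℕ) : fm f l = l.map f := by
  induction l with
  | nil => rfl
  | cons a l ih => exact congrArg (f a :: ·) ih

/-- equality of lists -/
noncomputable def eqL (a : List ℕ) : List ℕ → Bool :=
  List.rec (motive := fun _ => List ℕ → Bool)
    (fun b => List.rec (motive := fun _ => Bool) true (fun _ _ _ => false) b)
    (fun x _ ih b => List.rec (motive := fun _ => Bool) false
      (fun y t _ => Bool.rec (motive := fun _ => Bool) false (ih t) (Nat.beq x y)) b) a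

theorem eqL_eq {a : List ℕ} : ∀ {b : List ℕ}, eqL a b = true → a = b := by
  induction a with
  | nil => intro b h; cases b with
    | nil => rfl
    | cons y t => exact absurd (show false = true from h) (by simp)
  | cons x a ih => intro b h; cases b with
    | nil => exact absurd (show false = true from h) (by simp)
    | cons y t =>
      obtain ⟨h1, h2⟩ := brec_true (show Bool.rec (motive := fun _ => Bool) false (eqL a t)
        (Nat.beq x y) = true from h)
      rw [Nat.eq_of_beq_eq_true h1, ih h2]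

/-- conjunction, first argument first -/
noncomputable def an (a b : Bool) : Bool := Bool.rec (motive := fun _ => Bool) false b a

theorem an_true {a b : Bool} (h : an a b = true) : a = true ∧ b = true := brec_true h

/-- choice -/
noncomputable def sel {α : Type u} (s : Bool) (a b : α) : α := Bool.rec (motive := fun _ => α) b a s

@[simp] theorem sel_true {α : Type u} (a b : α) : sel true a b = a := rfl
@[simp] theorem sel_false {α : Type u} (a b : α) : sel false a b = b := rfl

/-! ### labels -/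

/-- `a + m * b` -/
noncomputable def vadd (m : ℕ) (b : List ℕ) : List ℕ → List ℕ :=
  List.rec (motive := fun _ => List ℕ → List ℕ) (fun a => a)
    (fun y _ ih a => List.rec (motive := fun _ => List ℕ) (Nat.mul m y :: ih [])
      (fun x t _ => Nat.add x (Nat.mul m y) :: ih t) a) b

/-- equality up to trailing zeros -/
noncomputable def veq (a : List ℕ) : List ℕ → Bool :=
  List.rec (motive := fun _ => List ℕ → Bool) (fun b => allL b fun y => Nat.beq y 0)
    (fun x _ ih b => List.rec (motive := fun _ => Bool) (an (Nat.beq x 0) (ih []))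
      (fun y t _ => an (Nat.beq x y) (ih t)) b) a

section cv
variable {Z : Type u} [CommGroup Z] (c : ℕ → Z)

/-- value of a vector of exponents -/
def cv : ℕ → List ℕ → Z
  | _, [] => 1
  | i, x :: l => c i ^ x * cv (i + 1) l

theorem cv_nil (i : ℕ) : cv c i [] = 1 := rfl
theorem cv_cons (i x : ℕ) (l : List ℕ) : cv c i (x :: l) = c i ^ x * cv c (i + 1) l := rfl

theorem cv_vadd (m : ℕ) (b : List ℕ) : ∀ (i : ℕ) (a : List ℕ),
    cv c i (vadd m b a) = cv c i a * cv c i b ^ m := by
  induction b with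
  | nil => intro i a; simp [cv]; rfl
  | cons y b ih =>
    intro i a
    cases a with
    | nil =>
      have : vadd m (y :: b) [] = (m * y) :: vadd m b [] := rfl
      rw [this, cv_cons, ih, cv_cons, cv_nil, cv_nil, mul_pow, ← pow_mul, mul_comm y]; simp
    | cons x t =>
      have : vadd m (y :: b) (x :: t) = (x + m * y) :: vadd m b t := rfl
      rw [this, cv_cons, ih, cv_cons, cv_cons, mul_pow, ← pow_mul, mul_comm y, pow_add, mul_mul_mul_comm]

theorem cv_zero {b : List ℕ} (h : ∀ y ∈ b, y = 0) : ∀ i, cv c i b = 1 := by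
  induction b with
  | nil => intro i; rfl
  | cons y b ih =>
    intro i
    rw [cv, h y (by simp), ih fun z hz => h z (by simp [hz])]; simp

theorem cv_veq {a : List ℕ} : ∀ {b : List ℕ} (i : ℕ), veq a b = true → cv c i a = cv c i b := by
  induction a with
  | nil =>
    intro b i h
    rw [cv_zero c (b := b) fun y hy => Nat.eq_of_beq_eq_true ((allL_iff _ _).mp h y hy)]; rfl
  | cons x a ih =>
    intro b i h
    cases b with
    | nil =>
      obtain ⟨h1, h2⟩ := an_true (show an (Nat.beq x 0) (veq a []) = true from h)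
      rw [cv_cons, ih _ h2, Nat.eq_of_beq_eq_true h1]; simp [cv]
    | cons y t =>
      obtain ⟨h1, h2⟩ := an_true (show an (Nat.beq x y) (veq a t) = true from h)
      rw [cv_cons, cv_cons, ih _ h2, Nat.eq_of_beq_eq_true h1]

theorem cv_one (l : List ℕ) : ∀ i, cv (fun _ => (1 : Z)) i l = 1 := by
  induction l with
  | nil => intro i; rfl
  | cons x l ih => intro i; rw [cv, ih]; simp

/-- value of a label -/
def lv (p m : List ℕ) : Z := cv c 0 p * (cv c 0 m)⁻¹

theorem lv_nil : lv c [] [] = 1 := by simp [lv, cv]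

theorem lv_swap (p m : List ℕ) : lv c m p = (lv c p m)⁻¹ := by simp [lv, mul_comm]

theorem lv_vadd (n : ℕ) (p m p' m' : List ℕ) :
    lv c (vadd n p' p) (vadd n m' m) = lv c p m * lv c p' m' ^ n := by
  simp only [lv, cv_vadd, mul_inv, mul_pow, inv_pow]
  exact mul_mul_mul_comm _ _ _ _

theorem lv_eq {p m p' m' : List ℕ} (h : veq (vadd 1 m' p) (vadd 1 p' m) = true) :
    lv c p m = lv c p' m' := by
  have := cv_veq c 0 h
  rw [cv_vadd, cv_vadd, pow_one, pow_one] at this
  rw [lv, lv, ← div_eq_mul_inv, ← div_eq_mul_inv, div_eq_div_iff_mul_eq_mul, this, mul_comm]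

end cv

/-! ### facts -/

/-- kind 0: `w i = b * w j * d`; kind 1: `z * a * w i = b * w j * d`; kind 2:
`z = a * z * u₁ * z * ⋯ * uᵣ`; all up to the label `p - m` -/
structure Fa where
  kind : ℕ
  i : ℕ
  j : ℕ
  a : ℕ
  b : ℕ
  d : ℕ
  p : List ℕ
  m : List ℕ
  u : List ℕ

/-- a derivation -/
structure De where
  mode : ℕ
  len : ℕ
  ops : ℕ
  src : ℕ
  inv : Bool
  rot : ℕ

/-- the data of an enumeration -/
structure Par where
  T : ℕ → ℕ → ℕ
  k : ℕ
  iv : ℕ → ℕ
  bs : List ℕ
  jp : ℕ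
  jq : ℕ
  lp : List ℕ
  lm : List ℕ
  F : ℕ → Fa
  W : ℕ → List ℕ
  R : List (List ℕ × List ℕ × List ℕ)

namespace Par
variable (P : Par)

/-- multiply by the word `n` or by its inverse -/
noncomputable def mv (s : Bool) (n : ℕ) (x : List ℕ) : List ℕ :=
  Bool.rec (motive := fun _ => List ℕ) (fm (tr P.T (wd n)) x) (fm (trI P.T P.iv (wd n)) x) s

/-- continuation of the machine -/
abbrev Cont : Type :=
  List (List ℕ) → List ℕ → List ℕ → ℕ → List ℕ → List ℕ → List ℕ → Bool

/-- the left word of a use of a fact of kind 1 -/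
noncomputable def uA (s : Bool) (a b : ℕ) (x : List ℕ) : List ℕ :=
  Bool.rec (motive := fun _ => List ℕ) (P.mv false a x) (P.mv false b (P.mv false P.jq x)) s
/-- the right word of a use -/
noncomputable def uB (s : Bool) (a b : ℕ) (x : List ℕ) : List ℕ :=
  Bool.rec (motive := fun _ => List ℕ) (P.mv false b x) (P.mv false a (P.mv true P.jp x)) s
/-- its inverse -/
noncomputable def uBi (s : Bool) (a b : ℕ) (x : List ℕ) : List ℕ :=
  Bool.rec (motive := fun _ => List ℕ) (P.mv true b x) (P.mv false P.jp (P.mv true a x)) s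
/-- add the label of a use -/
noncomputable def uL (s : Bool) (p m j l : List ℕ) : List ℕ :=
  Bool.rec (motive := fun _ => List ℕ) (vadd 1 p l) (vadd 1 j (vadd 1 m l)) s

/-- expand by a cell -/
noncomputable def push (u : List ℕ) :
    List (List ℕ) → List ℕ → (List (List ℕ) → List ℕ → Bool) → Bool :=
  List.rec (motive := fun _ => List (List ℕ) → List ℕ → (List (List ℕ) → List ℕ → Bool) → Bool)
    (fun _ _ _ => false)
    (fun t u' ih st D k => List.rec (motive := fun _ => Bool) (k st (P.mv true t D))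
      (fun _ _ _ => ih (P.mv false t P.bs :: st) D k) u') u

/-- one operation, on the fact `f` with sign `s` -/
noncomputable def op (t q : ℕ) (s : Bool) (f : Fa) (k : Cont) : Cont := fun st D g i E lp lm =>
  Fa.rec (motive := fun _ => Bool) (fun kind fi fj a b d p m u =>
    Nat.rec (motive := fun _ => Bool)
      (an (Nat.beq kind 0) (an (Nat.beq (sel s fj fi) i)
        (k st D (P.mv s b g) (sel s fi fj) (P.mv (sel s false true) d E)
          (vadd 1 (sel s m p) lp) (vadd 1 (sel s p m) lm))))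
      (fun t _ => Nat.rec (motive := fun _ => Bool)
        (List.rec (motive := fun _ => Bool) false (fun h st' _ =>
          an (Nat.beq kind 0) (an (Nat.beq fi 1) (an (Nat.beq fj 1)
            (k (P.mv s b h :: st') (P.mv (sel s false true) d D) g i E
              (vadd 1 (sel s m p) lp) (vadd 1 (sel s p m) lm))))) st)
        (fun t _ => Nat.rec (motive := fun _ => Bool)
          (List.rec (motive := fun _ => Bool) false (fun h st' _ =>
            an (Nat.beq kind 1) (an (Nat.beq (sel s fj fi) i) (an (eqL (P.uA s a b D) g)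
              (k st' P.bs (P.uB s a b h) (sel s fi fj) (P.mv (sel s false true) d E)
                (uL s p m P.lm lp) (uL s m p P.lp lm))))) st)
          (fun t _ => Nat.rec (motive := fun _ => Bool)
            (List.rec (motive := fun _ => Bool) false (fun h st' _ =>
              an (Nat.beq kind 2) (P.push u (P.mv false a h :: st') D fun st'' D' =>
                k st'' D' g i E (vadd 1 p lp) (vadd 1 m lm))) st)
            (fun t _ => Nat.rec (motive := fun _ => Bool)
              (an (Nat.beq kind 1) (an (Nat.beq (sel s fi fj) i) (an (eqL D P.bs)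
                (k (P.uBi s a b g :: st) P.bs (P.uA s a b P.bs) (sel s fj fi) (P.mv s d E)
                  (uL s m p P.lp lp) (uL s p m P.lm lm)))))
              (fun _ _ => an (Nat.beq kind 0) (an (Nat.beq fi fj) (an (Nat.beq b 0)
                (an (Nat.beq d 0) (k st D g i E (vadd q (sel s m p) lp) (vadd q (sel s p m) lm))))))
              t) t) t) t) t) f

/-- run the operations; only facts below `n` are used -/
noncomputable def run (n : ℕ) (ops : List ℕ) (k : Cont) : Cont :=
  List.rec (motive := fun _ => Cont) k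
    (fun o _ ih st D g i E lp lm => Nat.rec (motive := fun _ => Bool) false (fun x _ =>
      an (Nat.blt x n) (Bool.rec (motive := fun _ => Bool)
        (P.op (Nat.land o 7) (Nat.shiftRight o 24) true (P.F x) ih st D g i E lp lm)
        (P.op (Nat.land o 7) (Nat.shiftRight o 24) false (P.F x) ih st D g i E lp lm)
        (Nat.beq (Nat.land o 8) 0)))
      (Nat.succ (Nat.land (Nat.shiftRight o 4) 1048575))) ops

/-- the final test -/
noncomputable def fin (f : Fa) : Cont := fun st D g i E lp lm =>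
  List.rec (motive := fun _ => Bool)
    (an (eqL D P.bs) (an (eqL g (P.mv false f.b P.bs)) (an (Nat.beq i f.j)
      (an (eqL E (P.mv true f.d P.bs)) (veq (vadd 1 f.m lp) (vadd 1 f.p lm))))))
    (fun _ _ _ => false) st

/-- letters below `k` -/
noncomputable def ok (n : ℕ) : Bool := allL (wd n) fun y => Nat.blt y P.k

/-- the inverse word -/
def inv (w : List ℕ) : List ℕ := (w.map P.iv).reverse

/-- the relator given by a fact of kind 0 or 1 -/
noncomputable def raw (f : Fa) : List ℕ :=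
  sel (Nat.beq f.kind 1) (P.k :: wd f.a) [] ++ P.W f.i ++ P.inv (wd f.d) ++ P.inv (P.W f.j) ++
    P.inv (wd f.b)

/-- compare a word with the segments of a cell -/
noncomputable def cell (w : List ℕ) : List ℕ → ℕ → List ℕ → Bool :=
  List.rec (motive := fun _ => List ℕ → ℕ → List ℕ → Bool)
    (fun x t u => List.rec (motive := fun _ => Bool) (eqL x (P.mv false t P.bs))
      (fun _ _ _ => false) u)
    (fun y _ ih x t u => Bool.rec (motive := fun _ => Bool)
      (List.rec (motive := fun _ => Bool) false (fun t' u' _ => Bool.rec (motive := fun _ => Bool)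
        (an (Nat.beq y (Nat.succ P.k)) (an (eqL (P.mv false P.jp x) (P.mv false t P.bs))
          (ih (P.mv false P.jq P.bs) t' u')))
        (an (eqL x (P.mv false t P.bs)) (ih P.bs t' u')) (Nat.beq y P.k)) u)
      (ih (fm (fun c => P.T c y) x) t u) (Nat.blt y P.k)) w

/-- the cell `f` comes from the relator `w` with label `p - m` -/
noncomputable def cellOk (f : Fa) (w p m : List ℕ) (e : De) : Bool :=
  an (allL w fun y => Nat.ble y (Nat.succ P.k))
    (List.rec (motive := fun _ => Bool) false (fun y v _ => Bool.rec (motive := fun _ => Bool)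
      (an (Nat.beq y (Nat.succ P.k)) (an (P.cell v P.bs f.a f.u)
        (veq (vadd 1 f.m (vadd (v.count (P.k + 1)) P.lp (sel e.inv p m)))
          (vadd 1 f.p (vadd (v.count (P.k + 1)) P.lm (sel e.inv m p))))))
      (an (P.cell (v ++ P.inv (wd P.jp)) (P.mv true P.jq P.bs) f.a f.u)
        (veq (vadd 1 f.m (vadd 1 P.lm (vadd (v.count (P.k + 1)) P.lp (sel e.inv p m))))
          (vadd 1 f.p (vadd 1 P.lp (vadd (v.count (P.k + 1)) P.lm (sel e.inv m p))))))
      (Nat.beq y P.k)) ((sel e.inv (P.inv w) w).rotate e.rot))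

/-- fact number `n` follows from the earlier ones -/
noncomputable def chk (n : ℕ) (e : De) : Bool :=
  Nat.rec (motive := fun _ => Bool) false (fun n _ =>
    an (P.ok (P.F n).a) (an (P.ok (P.F n).b) (an (P.ok (P.F n).d) (an (allL (P.F n).u P.ok)
      (Nat.rec (motive := fun _ => Bool)
        (Bool.rec (motive := fun _ => Bool)
          (an (Nat.beq (P.F n).kind 1) (P.run n (dw 48 281474976710655 e.len e.ops) (P.fin (P.F n))
            [P.bs] P.bs (P.mv false (P.F n).a P.bs) (P.F n).i P.bs [] []))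
          (P.run n (dw 48 281474976710655 e.len e.ops) (P.fin (P.F n)) [] P.bs P.bs (P.F n).i
            P.bs [] [])
          (Nat.beq (P.F n).kind 0))
        (fun t _ => Nat.rec (motive := fun _ => Bool)
          (an (Nat.beq (P.F n).kind 0) (an (Nat.beq (P.F n).i 0) (an (Nat.beq (P.F n).j 0)
            (an (eqL (P.mv false (P.F n).d (P.mv false (P.F n).b P.bs)) P.bs)
              (veq (P.F n).p (P.F n).m)))))
          (fun t _ => Nat.rec (motive := fun _ => Bool)
            (an (Nat.beq (P.F n).kind 1) (an (Nat.beq (P.F n).b 0) (an (Nat.beq (P.F n).d 0)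
              (an (eqL (P.W (P.F n).j) (P.k :: wd (P.F n).a ++ P.W (P.F n).i))
                (veq (P.F n).p (P.F n).m)))))
            (fun t _ => Nat.rec (motive := fun _ => Bool)
              (an (Nat.beq (P.F n).kind 2) (List.rec (motive := fun _ => Bool) false
                (fun r _ _ => P.cellOk (P.F n) r.1 r.2.1 r.2.2 e) (dropN P.R e.src)))
              (fun _ _ => an (Nat.beq (P.F n).kind 2) (an (Nat.blt e.src n)
                (an (Nat.ble (P.F e.src).kind 1)
                  (an (allL (P.W (P.F e.src).j) fun y => Nat.ble y (Nat.succ P.k))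
                    (P.cellOk (P.F n) (P.raw (P.F e.src)) (P.F e.src).p (P.F e.src).m e)))))
              t) t) t) e.mode))))) (Nat.succ n)

/-- the facts from number `n` on, one for each derivation -/
noncomputable def chkL (l : List De) : ℕ → Bool :=
  List.rec (motive := fun _ => ℕ → Bool) (fun _ => true)
    (fun e _ ih n => an (P.chk n e) (ih (Nat.succ n))) l

end Par

/-! ### soundness -/

section sound
open scoped IsMulCommutative
variable {H : Type u} [Group H] {N : ℕ} {Γ : Type v} [Group Γ]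

/-- the letters: those of `H`, then `z` and its inverse -/
def XX (k : ℕ) (g : ℕ → H) (φ : H →* Γ) (z : Γ) (y : ℕ) : Γ :=
  if y < k then φ (g y) else if y = k then z else z⁻¹

/-- value of a packed word -/
noncomputable def el (g : ℕ → H) (n : ℕ) : H := ev g (wd n)

/-- the hypotheses on `H` -/
structure CtxH (P : Par) (A : RAct H N) (g : ℕ → H) : Prop where
  tab : A.Tab g P.k P.T
  base : A.IsBase P.bs
  lt : ∀ b ∈ P.bs, b < N
  ivk : ∀ y < P.k, P.iv y < P.k ∧ g (P.iv y) = (g y)⁻¹
  ivz : P.iv P.k = P.k + 1 ∧ P.iv (P.k + 1) = P.k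
  jp : P.ok P.jp = true
  jq : P.ok P.jq = true
  w0 : P.W 0 = []
  w1 : P.W 1 = [P.k]

/-- the hypotheses on `Γ` -/
structure CtxG (P : Par) (g : ℕ → H) (φ : H →* Γ) (z : Γ) (c : ℕ → Subgroup.center Γ) : Prop where
  J : z⁻¹ = φ (el g P.jp) * z * φ (el g P.jq) * (lv c P.lp P.lm : Subgroup.center Γ)
  R : ∀ r ∈ P.R, ev (XX P.k g φ z) r.1 = (lv c r.2.1 r.2.2 : Subgroup.center Γ)

/-- value of the segments of a cell -/
noncomputable def segV (g : ℕ → H) (φ : H →* Γ) (z : Γ) : ℕ → List ℕ → Γ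
  | t, [] => φ (el g t)
  | t, t' :: u => φ (el g t) * z * segV g φ z t' u

variable (P : Par) (A : RAct H N) (g : ℕ → H) (φ : H →* Γ) (z : Γ) (c : ℕ → Subgroup.center Γ)

/-- the representatives -/
def ww (i : ℕ) : Γ := ev (XX P.k g φ z) (P.W i)

/-- meaning of a fact -/
structure Val (f : Fa) : Prop where
  a : P.ok f.a = true
  b : P.ok f.b = true
  d : P.ok f.d = true
  u : ∀ t ∈ f.u, P.ok t = true
  k0 : f.kind = 0 → ww P g φ z f.i =
    φ (el g f.b) * ww P g φ z f.j * φ (el g f.d) * (lv c f.p f.m : Subgroup.center Γ)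
  k1 : f.kind = 1 → z * φ (el g f.a) * ww P g φ z f.i =
    φ (el g f.b) * ww P g φ z f.j * φ (el g f.d) * (lv c f.p f.m : Subgroup.center Γ)
  k2 : f.kind = 2 → z = segV g φ z f.a f.u * (lv c f.p f.m : Subgroup.center Γ)

/-- `m` lists the images of the base under `x` -/
def Im (x : H) (m : List ℕ) : Prop := m = P.bs.map fun b => A.act b x

/-- value of the stack -/
def Pre : List (List ℕ) → Γ → Prop
  | [], γ => γ = 1
  | m :: st, γ => ∃ h γ', Im P A h m ∧ Pre st γ' ∧ γ = γ' * φ h * z

/-- the invariant of the machine -/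
def Inv (Λ : Γ) (st : List (List ℕ)) (D G : List ℕ) (i : ℕ) (E lp lm : List ℕ) : Prop :=
  ∃ γ Dx gx Ex, Pre P A φ z st γ ∧ Im P A Dx D ∧ Im P A gx G ∧ Im P A Ex E ∧
    Λ = γ * (φ Dx)⁻¹ * φ gx * ww P g φ z i * (φ Ex)⁻¹ * (lv c lp lm : Subgroup.center Γ)

/-- a continuation that succeeds proves `Q` -/
def Good (Λ : Γ) (k : Par.Cont) (Q : Prop) : Prop :=
  ∀ st D G i E lp lm, Inv P A g φ z c Λ st D G i E lp lm → k st D G i E lp lm = true → Q

variable {P A g φ z c}

theorem mvc (t : Subgroup.center Γ) (x y : Γ) : x * t * y = x * y * t := by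
  rw [mul_assoc, ← Subgroup.mem_center_iff.mp t.prop y, mul_assoc]

theorem Pre.nil : Pre P A φ z [] 1 := rfl

theorem Pre.cons {m : List ℕ} {st : List (List ℕ)} {x : H} {γ : Γ} (h1 : Im P A x m)
    (h2 : Pre P A φ z st γ) : Pre P A φ z (m :: st) (γ * φ x * z) := ⟨x, γ, h1, h2, rfl⟩

theorem ok_spec {n : ℕ} (h : P.ok n = true) : ∀ y ∈ wd n, y < P.k := fun y hy => by
  simpa [Nat.blt_eq] using (allL_iff _ _).mp h y hy

theorem trI_spec {T : ℕ → ℕ → ℕ} {k : ℕ} {iv : ℕ → ℕ} (hT : A.Tab g k T)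
    (hi : ∀ y < k, iv y < k ∧ g (iv y) = (g y)⁻¹) {w : List ℕ} (hw : ∀ y ∈ w, y < k) {b : ℕ}
    (hb : b < N) : trI T iv w b = A.act b (ev g w)⁻¹ := by
  induction w with
  | nil => simp [A.one hb]; rfl
  | cons y w ih =>
    have e : trI T iv (y :: w) b = T (trI T iv w b) (iv y) := rfl
    have h1 := hi y (hw y (by simp))
    rw [e, ih fun x hx => hw x (by simp [hx]), ev_cons, mul_inv_rev, A.mul _ _ hb, ← h1.2,
      hT _ h1.1 _ (A.lt _ hb)]

theorem CtxH.im_one (h : CtxH P A g) : Im P A 1 P.bs := by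
  unfold Im
  rw [List.map_congr_left (f := fun b => A.act b 1) (g := id) fun b hb => A.one (h.lt b hb),
    List.map_id]

theorem CtxH.mv (h : CtxH P A g) {n : ℕ} (hn : P.ok n = true) (s : Bool) {x : H} {m : List ℕ}
    (hm : Im P A x m) : Im P A (x * sel s (el g n)⁻¹ (el g n)) (P.mv s n m) := by
  unfold Im at *
  cases s
  · change fm _ _ = _
    rw [fm_eq, hm, List.map_map]
    exact List.map_congr_left fun b hb => by
      rw [sel_false, A.mul _ _ (h.lt b hb), el, h.tab.act_ev (ok_spec hn) (A.lt _ (h.lt b hb))]; rfl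
  · change fm _ _ = _
    rw [fm_eq, hm, List.map_map]
    exact List.map_congr_left fun b hb => by
      rw [sel_true, A.mul _ _ (h.lt b hb), el,
        ← trI_spec h.tab h.ivk (ok_spec hn) (A.lt _ (h.lt b hb))]; rfl

theorem CtxH.mv' (h : CtxH P A g) {n : ℕ} (hn : P.ok n = true) (s : Bool) {x : H} {m : List ℕ}
    (hm : Im P A x m) : Im P A (x * (sel s (el g n)⁻¹ (el g n))⁻¹) (P.mv (sel s false true) n m) := by
  cases s
  · exact h.mv hn true hm
  · simpa using h.mv hn false hm

theorem CtxH.eq (h : CtxH P A g) {x y : H} {m m' : List ℕ} (hm : Im P A x m) (hm' : Im P A y m')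
    (e : eqL m m' = true) : x = y := by
  have := eqL_eq e
  rw [hm, hm'] at this
  exact h.base.eq_of_act fun b hb _ => List.map_inj_left.mp this b hb

theorem lv_add1 (p m p' m' : List ℕ) :
    lv c (vadd 1 p' p) (vadd 1 m' m) = lv c p' m' * lv c p m := by
  rw [lv_vadd, pow_one, mul_comm]

theorem Val.view0 {f : Fa} (h : Val P g φ z c f) (hk : f.kind = 0) (s : Bool) :
    ww P g φ z (sel s f.j f.i) = φ (sel s (el g f.b)⁻¹ (el g f.b)) * ww P g φ z (sel s f.i f.j) *
      φ (sel s (el g f.d)⁻¹ (el g f.d)) *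
        (lv c (sel s f.m f.p) (sel s f.p f.m) : Subgroup.center Γ) := by
  cases s
  · exact h.k0 hk
  · simp only [sel_true]
    rw [h.k0 hk, lv_swap c f.p, map_inv, map_inv, ← mul_assoc, mvc]
    simp [mul_assoc]

/-- left element of a use -/
noncomputable def eA (P : Par) (g : ℕ → H) (s : Bool) (f : Fa) : H :=
  sel s (el g P.jq * el g f.b) (el g f.a)
/-- right element of a use -/
noncomputable def eB (P : Par) (g : ℕ → H) (s : Bool) (f : Fa) : H :=
  sel s ((el g P.jp)⁻¹ * el g f.a) (el g f.b)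
/-- label of a use -/
noncomputable def eL (P : Par) (c : ℕ → Subgroup.center Γ) (s : Bool) (f : Fa) :
    Subgroup.center Γ := sel s ((lv c f.p f.m)⁻¹ * (lv c P.lp P.lm)⁻¹) (lv c f.p f.m)

theorem Val.view1 (hG : CtxG P g φ z c) {f : Fa} (h : Val P g φ z c f) (hk : f.kind = 1) (s : Bool) :
    z * φ (eA P g s f) * ww P g φ z (sel s f.j f.i) = φ (eB P g s f) * ww P g φ z (sel s f.i f.j) *
      φ (sel s (el g f.d)⁻¹ (el g f.d)) * eL P c s f := by
  cases s
  · exact h.k1 hk
  · simp only [sel_true, eA, eB, eL, map_mul, map_inv]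
    have h1 : z * φ (el g P.jq) = (φ (el g P.jp))⁻¹ * z⁻¹ * ((lv c P.lp P.lm)⁻¹ : Subgroup.center Γ) := by
      rw [hG.J]; simp [mul_assoc]
    have h2 : φ (el g f.b) * ww P g φ z f.j = z * φ (el g f.a) * ww P g φ z f.i *
        ((lv c f.p f.m)⁻¹ : Subgroup.center Γ) * (φ (el g f.d))⁻¹ := by
      rw [h.k1 hk]; simp [mul_assoc]
    calc _ = z * φ (el g P.jq) * (φ (el g f.b) * ww P g φ z f.j) := by simp only [mul_assoc]
      _ = _ := by
        rw [h1, h2, mvc, mvc _ _ (φ (el g f.d))⁻¹]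
        simp [mul_assoc]

theorem CtxH.uA (h : CtxH P A g) {f : Fa} (hf : Val P g φ z c f) (s : Bool) {x : H} {m : List ℕ}
    (hm : Im P A x m) : Im P A (x * eA P g s f) (P.uA s f.a f.b m) := by
  cases s
  · exact h.mv hf.a false hm
  · have := h.mv hf.b false (h.mv h.jq false hm)
    rw [mul_assoc] at this; exact this

theorem CtxH.uB (h : CtxH P A g) {f : Fa} (hf : Val P g φ z c f) (s : Bool) {x : H} {m : List ℕ}
    (hm : Im P A x m) : Im P A (x * eB P g s f) (P.uB s f.a f.b m) := by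
  cases s
  · exact h.mv hf.b false hm
  · have := h.mv hf.a false (h.mv h.jp true hm)
    rw [mul_assoc] at this; exact this

theorem CtxH.uBi (h : CtxH P A g) {f : Fa} (hf : Val P g φ z c f) (s : Bool) {x : H} {m : List ℕ}
    (hm : Im P A x m) : Im P A (x * (eB P g s f)⁻¹) (P.uBi s f.a f.b m) := by
  cases s
  · exact h.mv hf.b true hm
  · have := h.mv h.jp false (h.mv hf.a true hm)
    rw [eB, sel_true, mul_inv_rev, inv_inv, ← mul_assoc]; exact this

theorem lv_uL (s : Bool) (f : Fa) (lp lm : List ℕ) :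
    lv c (Par.uL s f.p f.m P.lm lp) (Par.uL s f.m f.p P.lp lm) = eL P c s f * lv c lp lm := by
  cases s
  · exact lv_add1 _ _ _ _
  · change lv c (vadd 1 _ (vadd 1 _ _)) (vadd 1 _ (vadd 1 _ _)) = _
    rw [lv_add1, lv_add1, lv_swap c f.p, lv_swap c P.lp, eL, sel_true, mul_left_comm, mul_assoc]

theorem lv_uL' (s : Bool) (f : Fa) (lp lm : List ℕ) :
    lv c (Par.uL s f.m f.p P.lp lp) (Par.uL s f.p f.m P.lm lm) = (eL P c s f)⁻¹ * lv c lp lm := by
  cases s
  · rw [eL, sel_false, ← lv_swap]; exact lv_add1 _ _ _ _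
  · change lv c (vadd 1 _ (vadd 1 _ _)) (vadd 1 _ (vadd 1 _ _)) = _
    rw [lv_add1, lv_add1, eL, sel_true, mul_inv_rev, inv_inv, inv_inv, mul_assoc]

theorem CtxH.push (h : CtxH P A g) {u : List ℕ} (hu : ∀ t ∈ u, P.ok t = true) :
    ∀ {st : List (List ℕ)} {γ : Γ} {D : List ℕ} {Dx : H} {k : List (List ℕ) → List ℕ → Bool},
      Pre P A φ z st γ → Im P A Dx D → P.push u st D k = true →
      ∃ t u', u = t :: u' ∧ ∃ st' γ' D' Dx', Pre P A φ z st' γ' ∧ Im P A Dx' D' ∧ k st' D' = true ∧
        γ * segV g φ z t u' * (φ Dx)⁻¹ = γ' * (φ Dx')⁻¹ := by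
  induction u with
  | nil => intro st γ D Dx k _ _ e; exact absurd (show false = true from e) (by simp)
  | cons t u ih =>
    intro st γ D Dx k h1 h2 e
    refine ⟨t, u, rfl, ?_⟩
    cases u with
    | nil =>
      exact ⟨st, γ, _, _, h1, h.mv (hu t (by simp)) true h2, e, by simp [segV, mul_assoc]⟩
    | cons t' u =>
      obtain ⟨t'', u'', e1, st', γ', D', Dx', a1, a2, a3, a4⟩ :=
        ih (fun x hx => hu x (by simp [hx])) (st := P.mv false t P.bs :: st)
          ⟨_, γ, h.mv (hu t (by simp)) false h.im_one, h1, rfl⟩ h2 e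
      obtain ⟨rfl, rfl⟩ := List.cons.inj e1
      exact ⟨st', γ', D', Dx', a1, a2, a3, by rw [← a4]; simp [segV, mul_assoc]⟩

theorem CtxH.ww1 (h : CtxH P A g) : ww P g φ z 1 = z := by simp [ww, h.w1, XX]

theorem op_spec (h : CtxH P A g) (hG : CtxG P g φ z c) {f : Fa} (hf : Val P g φ z c f) {Λ : Γ}
    {k : Par.Cont} {Q : Prop} (hk : Good P A g φ z c Λ k Q) (t q : ℕ) (s : Bool) :
    Good P A g φ z c Λ (P.op t q s f k) Q := by
  rintro st D G i E lp lm ⟨γ, Dx, gx, Ex, h1, h2, h3, h4, h5⟩ e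
  obtain ⟨kind, fi, fj, a, b, d, p, m, u⟩ := f
  rcases t with _ | _ | _ | _ | _ | t
  · obtain ⟨e1, e⟩ := an_true e
    obtain ⟨e2, e⟩ := an_true e
    have v := hf.view0 (Nat.eq_of_beq_eq_true e1) s
    refine hk _ _ _ _ _ _ _ ⟨γ, Dx, _, _, h1, h2, h.mv hf.b s h3, h.mv' hf.d s h4, ?_⟩ e
    rw [h5, ← Nat.eq_of_beq_eq_true e2, v, lv_add1, ← mul_assoc, mvc]
    simp [mul_assoc]
  · cases st with
    | nil => exact absurd (show false = true from e) (by simp)
    | cons x st =>
      obtain ⟨e1, e⟩ := an_true e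
      obtain ⟨e2, e⟩ := an_true e
      obtain ⟨e3, e⟩ := an_true e
      obtain ⟨hx, γ', b1, b2, rfl⟩ := h1
      have v := hf.view0 (Nat.eq_of_beq_eq_true e1) s
      obtain rfl := Nat.eq_of_beq_eq_true e2
      obtain rfl := Nat.eq_of_beq_eq_true e3
      have e4 : sel s 1 1 = 1 := by cases s <;> rfl
      simp only [e4, h.ww1] at v
      refine hk _ _ _ _ _ _ _ ⟨_, _, gx, Ex, Pre.cons (h.mv hf.b s b1) b2, h.mv' hf.d s h2, h3,
        h4, ?_⟩ e
      rw [h5, lv_add1]
      conv_lhs => rw [congrArg (γ' * φ hx * ·) v, ← mul_assoc, mvc, mvc, mvc, mvc]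
      simp [mul_assoc]
  · cases st with
    | nil => exact absurd (show false = true from e) (by simp)
    | cons x st =>
      obtain ⟨e1, e⟩ := an_true e
      obtain ⟨e2, e⟩ := an_true e
      obtain ⟨e3, e⟩ := an_true e
      obtain ⟨hx, γ', b1, b2, rfl⟩ := h1
      have v := hf.view1 hG (Nat.eq_of_beq_eq_true e1) s
      have e4 := h.eq (h.uA hf s h2) h3 e3
      refine hk _ _ _ _ _ _ _ ⟨γ', 1, _, _, b2, h.im_one, h.uB hf s b1, h.mv' hf.d s h4, ?_⟩ e
      have e5 := lv_uL (P := P) (c := c) s ⟨kind, fi, fj, a, b, d, p, m, u⟩ lp lm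
      rw [h5, ← e4, ← Nat.eq_of_beq_eq_true e2, e5]
      calc _ = γ' * φ hx * (z * φ (eA P g s ⟨kind, fi, fj, a, b, d, p, m, u⟩) *
            ww P g φ z (sel s fj fi)) * (φ Ex)⁻¹ *
            (lv c lp lm : Subgroup.center Γ) := by simp [mul_assoc]
        _ = _ := by rw [v, ← mul_assoc, mvc]; simp [mul_assoc]
  · cases st with
    | nil => exact absurd (show false = true from e) (by simp)
    | cons x st =>
      obtain ⟨e1, e⟩ := an_true e
      obtain ⟨hx, γ', b1, b2, rfl⟩ := h1
      have v := hf.k2 (Nat.eq_of_beq_eq_true e1)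
      obtain ⟨t', u', e2, st', γ'', D', Dx', a1, a2, a3, a4⟩ := h.push (φ := φ) (z := z) hf.u
        (st := P.mv false a x :: st) ⟨_, γ', h.mv hf.a false b1, b2, rfl⟩ h2 e
      refine hk _ _ _ _ _ _ _ ⟨γ'', Dx', gx, Ex, a1, a2, h3, h4, ?_⟩ a3
      obtain rfl : u = t' :: u' := e2
      rw [h5, lv_add1, ← a4]
      conv_lhs => rw [congrArg (γ' * φ hx * ·) v, ← mul_assoc, mvc, mvc, mvc, mvc]
      simp [mul_assoc, segV]
  · obtain ⟨e1, e⟩ := an_true e
    obtain ⟨e2, e⟩ := an_true e
    obtain ⟨e3, e⟩ := an_true e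
    have v := hf.view1 hG (Nat.eq_of_beq_eq_true e1) s
    obtain rfl := h.eq h2 h.im_one e3
    refine hk _ _ _ _ _ _ _ ⟨_, 1, _, _, Pre.cons (h.uBi hf s h3) h1, h.im_one,
      h.uA hf s h.im_one, h.mv hf.d s h4, ?_⟩ e
    have e5 := lv_uL' (P := P) (c := c) s ⟨kind, fi, fj, a, b, d, p, m, u⟩ lp lm
    have v' : ww P g φ z (sel s fi fj) = (φ (eB P g s ⟨kind, fi, fj, a, b, d, p, m, u⟩))⁻¹ *
        (z * φ (eA P g s ⟨kind, fi, fj, a, b, d, p, m, u⟩) * ww P g φ z (sel s fj fi)) *
        (φ (sel s (el g d)⁻¹ (el g d)))⁻¹ *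
        ((eL P c s ⟨kind, fi, fj, a, b, d, p, m, u⟩)⁻¹ : Subgroup.center Γ) := by
      rw [← mvc, v]; simp [mul_assoc]
    rw [h5, ← Nat.eq_of_beq_eq_true e2, e5, v', ← mul_assoc, mvc]
    simp [mul_assoc]
  · obtain ⟨e1, e⟩ := an_true e
    obtain ⟨e2, e⟩ := an_true e
    obtain ⟨e3, e⟩ := an_true e
    obtain ⟨e4, e7⟩ := an_true e
    have v := hf.view0 (Nat.eq_of_beq_eq_true e1) s
    obtain rfl := Nat.eq_of_beq_eq_true e2
    obtain rfl := Nat.eq_of_beq_eq_true e3
    obtain rfl := Nat.eq_of_beq_eq_true e4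
    have e5 : ∀ x : ℕ, sel s x x = x := fun x => by cases s <;> rfl
    have e6 : sel s (el g 0)⁻¹ (el g 0) = 1 := by cases s <;> simp [el, wd_zero]
    simp only [e5, e6, map_one, one_mul, mul_one, left_eq_mul, OneMemClass.coe_eq_one] at v
    refine hk _ _ _ _ _ _ _ ⟨γ, Dx, gx, Ex, h1, h2, h3, h4, ?_⟩ e7
    rw [lv_vadd, v, one_pow, mul_one, h5]

theorem run_spec (h : CtxH P A g) (hG : CtxG P g φ z c) {n : ℕ}
    (hn : ∀ x < n, Val P g φ z c (P.F x)) {Λ : Γ} {k : Par.Cont} {Q : Prop}
    (hk : Good P A g φ z c Λ k Q) (ops : List ℕ) : Good P A g φ z c Λ (P.run n ops k) Q := by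
  induction ops with
  | nil => exact hk
  | cons o ops ih =>
    intro st D G i E lp lm hI e
    obtain ⟨e1, e⟩ := an_true e
    have hx := hn _ (by simpa [Nat.blt_eq] using e1)
    cases h8 : Nat.beq (Nat.land o 8) 0 with
    | true => rw [h8] at e; exact op_spec h hG hx ih _ _ false _ _ _ _ _ _ _ hI e
    | false => rw [h8] at e; exact op_spec h hG hx ih _ _ true _ _ _ _ _ _ _ hI e

theorem fin_spec (h : CtxH P A g) {f : Fa} (hb : P.ok f.b = true) (hd : P.ok f.d = true) (Λ : Γ) :
    Good P A g φ z c Λ (P.fin f) (Λ = φ (el g f.b) * ww P g φ z f.j * φ (el g f.d) *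
      (lv c f.p f.m : Subgroup.center Γ)) := by
  rintro st D G i E lp lm ⟨γ, Dx, gx, Ex, h1, h2, h3, h4, h5⟩ e
  cases st with
  | cons x st => exact absurd (show false = true from e) (by simp)
  | nil =>
    obtain ⟨e1, e⟩ := an_true e
    obtain ⟨e2, e⟩ := an_true e
    obtain ⟨e3, e⟩ := an_true e
    obtain ⟨e4, e⟩ := an_true e
    obtain rfl : γ = 1 := h1
    rw [h5, h.eq h2 h.im_one e1, h.eq h3 (h.mv hb false h.im_one) e2,
      h.eq h4 (h.mv hd true h.im_one) e4, Nat.eq_of_beq_eq_true e3, lv_eq c e]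
    simp

theorem ev_XX {w : List ℕ} (hw : ∀ y ∈ w, y < P.k) : ev (XX P.k g φ z) w = φ (ev g w) := by
  rw [map_ev]; exact ev_congr fun y hy => if_pos (hw y hy)

theorem CtxH.ev_inv (h : CtxH P A g) {w : List ℕ} (hw : ∀ y ∈ w, y ≤ P.k + 1) :
    ev (XX P.k g φ z) (P.inv w) = (ev (XX P.k g φ z) w)⁻¹ := by
  induction w with
  | nil => simp [Par.inv]
  | cons y w ih =>
    have e : P.inv (y :: w) = P.inv w ++ [P.iv y] := by simp [Par.inv]
    rw [e, ev_append, ih fun x hx => hw x (by simp [hx]), ev_cons, ev_cons, mul_inv_rev, ev_nil,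
      mul_one]
    congr 1
    rcases lt_trichotomy y P.k with h1 | rfl | h1
    · simp [XX, h1, (h.ivk y h1).1, (h.ivk y h1).2]
    · simp [XX, h.ivz.1]
    · obtain rfl : y = P.k + 1 := le_antisymm (hw y (by simp)) h1
      simp [XX, h.ivz.2]

theorem CtxH.inv_le (h : CtxH P A g) {w : List ℕ} (hw : ∀ y ∈ w, y < P.k) :
    ∀ y ∈ P.inv w, y < P.k := by
  intro y hy
  simp only [Par.inv, List.mem_reverse, List.mem_map] at hy
  obtain ⟨x, hx, rfl⟩ := hy
  exact (h.ivk x (hw x hx)).1

theorem cell_spec (h : CtxH P A g) (hG : CtxG P g φ z c) (w : List ℕ) :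
    ∀ {m : List ℕ} {x : H} {t : ℕ} {u : List ℕ}, Im P A x m → P.ok t = true →
      (∀ s ∈ u, P.ok s = true) → P.cell w m t u = true → φ x * ev (XX P.k g φ z) w =
        segV g φ z t u * (lv c P.lp P.lm ^ w.count (P.k + 1) : Subgroup.center Γ) := by
  induction w with
  | nil =>
    intro m x t u hm ht hu e
    cases u with
    | cons _ _ => exact absurd (show false = true from e) (by simp)
    | nil => rw [h.eq hm (h.mv ht false h.im_one) e]; simp [segV]
  | cons y w ih =>
    intro m x t u hm ht hu e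
    cases h1 : Nat.blt y P.k with
    | true =>
      have hy : y < P.k := by simpa [Nat.blt_eq] using h1
      have e' : P.cell w (fm (fun c => P.T c y) m) t u = true := by
        have : P.cell (y :: w) m t u = Bool.rec (motive := fun _ => Bool) _
          (P.cell w (fm (fun c => P.T c y) m) t u) (Nat.blt y P.k) := rfl
        rwa [this, h1] at e
      have hm' : Im P A (x * g y) (fm (fun c => P.T c y) m) := by
        unfold Im at *
        rw [fm_eq, hm, List.map_map]
        exact List.map_congr_left fun b hb => by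
          rw [A.mul _ _ (h.lt b hb), h.tab y hy _ (A.lt _ (h.lt b hb))]; rfl
      rw [List.count_cons_of_ne (by omega), ← ih hm' ht hu e', ev_cons, XX, if_pos hy, map_mul,
        mul_assoc]
    | false =>
      cases u with
      | nil =>
        have : P.cell (y :: w) m t [] = Bool.rec (motive := fun _ => Bool) false
          _ (Nat.blt y P.k) := rfl
        rw [this, h1] at e; exact absurd (show false = true from e) (by simp)
      | cons t' u =>
        have : P.cell (y :: w) m t (t' :: u) = Bool.rec (motive := fun _ => Bool)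
          (Bool.rec (motive := fun _ => Bool)
            (an (Nat.beq y (Nat.succ P.k)) (an (eqL (P.mv false P.jp m) (P.mv false t P.bs))
              (P.cell w (P.mv false P.jq P.bs) t' u)))
            (an (eqL m (P.mv false t P.bs)) (P.cell w P.bs t' u)) (Nat.beq y P.k))
          _ (Nat.blt y P.k) := rfl
        rw [this, h1] at e
        have ht' := hu t' (by simp)
        have hu' : ∀ s ∈ u, P.ok s = true := fun s hs => hu s (by simp [hs])
        cases h2 : Nat.beq y P.k with
        | true =>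
          rw [h2] at e
          obtain ⟨e1, e7⟩ := an_true e
          obtain rfl := Nat.eq_of_beq_eq_true h2
          have := ih h.im_one ht' hu' e7
          rw [map_one, one_mul] at this
          rw [List.count_cons_of_ne (by omega), ev_cons, this, h.eq hm (h.mv ht false h.im_one) e1]
          simp [XX, segV, mul_assoc]
        | false =>
          rw [h2] at e
          obtain ⟨e1, e⟩ := an_true e
          obtain ⟨e2, e7⟩ := an_true e
          obtain rfl : y = P.k + 1 := Nat.eq_of_beq_eq_true e1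
          have h3 := ih (h.mv h.jq false h.im_one) ht' hu' e7
          have h4 := h.eq (h.mv h.jp false hm) (h.mv ht false h.im_one) e2
          simp only [sel_false, one_mul] at h3 h4
          have h5 : XX P.k g φ z (P.k + 1) = z⁻¹ := by simp [XX]
          rw [List.count_cons_self, ev_cons, h5, hG.J, segV, ← h4, ← mul_assoc, ← mul_assoc, mvc,
            pow_succ]
          calc _ = φ x * φ (el g P.jp) * z * (φ (el g P.jq) * ev (XX P.k g φ z) w) *
                (lv c P.lp P.lm : Subgroup.center Γ) := by simp only [mul_assoc]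
            _ = _ := by rw [h3]; simp [mul_assoc]

theorem ev_rotate {X : ℕ → Γ} {w : List ℕ} {t : Subgroup.center Γ} (h : ev X w = t) (n : ℕ) :
    ev X (w.rotate n) = t := by
  rw [List.rotate_eq_drop_append_take_mod, ev_append]
  rw [← List.take_append_drop (n % w.length) w, ev_append] at h
  rw [eq_mul_inv_of_mul_eq h, ← mul_assoc, mvc]; simp

theorem cellOk_spec (h : CtxH P A g) (hG : CtxG P g φ z c) {f : Fa} (ha : P.ok f.a = true)
    (hu : ∀ t ∈ f.u, P.ok t = true) {w p m : List ℕ}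
    (hw : ev (XX P.k g φ z) w = (lv c p m : Subgroup.center Γ)) {e : De}
    (he : P.cellOk f w p m e = true) :
    z = segV g φ z f.a f.u * (lv c f.p f.m : Subgroup.center Γ) := by
  obtain ⟨e1, he⟩ := an_true he
  have h1 : ev (XX P.k g φ z) (sel e.inv (P.inv w) w) =
      ((lv c (sel e.inv p m) (sel e.inv m p))⁻¹ : Subgroup.center Γ) := by
    cases e.inv
    · simp only [sel_false]; rw [hw, lv_swap c p, inv_inv]
    · simp only [sel_true]
      rw [h.ev_inv fun y hy => Nat.le_of_ble_eq_true ((allL_iff _ _).mp e1 y hy), hw]; simp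
  have h2 := ev_rotate h1 e.rot
  generalize (sel e.inv (P.inv w) w).rotate e.rot = v at he h2
  cases v with
  | nil => exact absurd (show false = true from he) (by simp)
  | cons y v =>
    rw [ev_cons] at h2
    cases h3 : Nat.beq y P.k with
    | false =>
      have : Bool.rec (motive := fun _ => Bool) (an (Nat.beq y (Nat.succ P.k)) _) _
        (Nat.beq y P.k) = true := he
      rw [h3] at this
      obtain ⟨e2, e3⟩ := an_true this
      obtain ⟨e3, e4⟩ := an_true e3
      obtain rfl : y = P.k + 1 := Nat.eq_of_beq_eq_true e2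
      have h4 := cell_spec h hG v h.im_one ha hu e3
      have h5 : XX P.k g φ z (P.k + 1) = z⁻¹ := by simp [XX]
      rw [map_one, one_mul] at h4
      rw [h5, h4, inv_mul_eq_iff_eq_mul] at h2
      rw [← lv_eq c e4, lv_vadd, mul_comm (lv c _ _), Subgroup.coe_mul, ← mul_assoc, h2]
      simp
    | true =>
      have : Bool.rec (motive := fun _ => Bool) _ (an (P.cell (v ++ P.inv (wd P.jp)) _ _ _) _)
        (Nat.beq y P.k) = true := he
      rw [h3] at this
      obtain ⟨e3, e4⟩ := an_true this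
      obtain rfl := Nat.eq_of_beq_eq_true h3
      have h4 := cell_spec h hG _ (h.mv h.jq true h.im_one) ha hu e3
      have h5 : XX P.k g φ z P.k = z := by simp [XX]
      have h6 : (P.inv (wd P.jp)).count (P.k + 1) = 0 := List.count_eq_zero.mpr fun hy => by
        have := h.inv_le (ok_spec h.jp) _ hy; omega
      rw [List.count_append, h6, add_zero, ev_append,
        h.ev_inv fun y hy => by have := ok_spec h.jp y hy; omega, ev_XX (ok_spec h.jp)] at h4
      rw [h5, ← eq_inv_mul_iff_mul_eq] at h2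
      have h7 : z = (φ (el g P.jq))⁻¹ * z⁻¹ * (φ (el g P.jp))⁻¹ *
          ((lv c P.lp P.lm)⁻¹ : Subgroup.center Γ) := by
        rw [← inv_inj]
        refine hG.J.trans ?_
        simp [mul_assoc, ← Subgroup.mem_center_iff.mp (lv c P.lp P.lm).prop]
      rw [h2, ← mul_assoc, ← mul_assoc, mvc, Subgroup.coe_inv, mul_inv_eq_iff_eq_mul] at h4
      rw [← lv_eq c e4, lv_add1, lv_vadd, lv_swap c P.lp, mul_comm (lv c _ _)⁻¹,
        mul_comm (lv c _ _), Subgroup.coe_mul, Subgroup.coe_mul, ← mul_assoc, ← mul_assoc, ← h4]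
      simpa [el] using h7

theorem chk_spec (h : CtxH P A g) (hG : CtxG P g φ z c) {n : ℕ}
    (hn : ∀ x < n, Val P g φ z c (P.F x)) {e : De} (he : P.chk n e = true) :
    Val P g φ z c (P.F n) := by
  obtain ⟨ha, he⟩ := an_true he
  obtain ⟨hb, he⟩ := an_true he
  obtain ⟨hd, he⟩ := an_true he
  obtain ⟨hu, he⟩ := an_true he
  have hu' := (allL_iff _ _).mp hu
  obtain ⟨mode, len, ops, src, inv, rot⟩ := e
  rcases mode with _ | _ | _ | _ | mode
  · cases h0 : Nat.beq (P.F n).kind 0 with
    | true =>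
      have : Bool.rec (motive := fun _ => Bool) _ (P.run _ _ _ _ _ _ _ _ _ _)
        (Nat.beq (P.F n).kind 0) = true := he
      rw [h0] at this
      have hk := Nat.eq_of_beq_eq_true h0
      exact ⟨ha, hb, hd, hu', fun _ => run_spec h hG hn (fin_spec h hb hd _) _ _ _ _ _ _ _ _
        ⟨1, 1, 1, 1, Pre.nil, h.im_one, h.im_one, h.im_one, by simp [lv_nil]⟩ this,
        fun h1 => by omega, fun h1 => by omega⟩
    | false =>
      have : Bool.rec (motive := fun _ => Bool) (an _ (P.run _ _ _ _ _ _ _ _ _ _)) _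
        (Nat.beq (P.F n).kind 0) = true := he
      rw [h0] at this
      obtain ⟨e1, e2⟩ := an_true this
      have hk := Nat.eq_of_beq_eq_true e1
      exact ⟨ha, hb, hd, hu', fun h1 => by omega,
        fun _ => run_spec h hG hn (fin_spec h hb hd _) _ _ _ _ _ _ _ _
        ⟨_, 1, _, 1, Pre.cons h.im_one Pre.nil, h.im_one, h.mv ha false h.im_one, h.im_one,
          by simp [lv_nil]⟩ e2, fun h1 => by omega⟩
  · obtain ⟨e1, he⟩ := an_true he
    obtain ⟨e2, he⟩ := an_true he
    obtain ⟨e3, he⟩ := an_true he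
    obtain ⟨e4, he⟩ := an_true he
    have hk := Nat.eq_of_beq_eq_true e1
    refine ⟨ha, hb, hd, hu', fun _ => ?_, fun h1 => by omega, fun h1 => by omega⟩
    have h1 := h.eq (h.mv hd false (h.mv hb false h.im_one)) h.im_one e4
    simp only [sel_false, one_mul] at h1
    rw [Nat.eq_of_beq_eq_true e2, Nat.eq_of_beq_eq_true e3, ww, h.w0, lv, cv_veq c 0 he]
    simp [← map_mul, h1]
  · obtain ⟨e1, he⟩ := an_true he
    obtain ⟨e2, he⟩ := an_true he
    obtain ⟨e3, he⟩ := an_true he
    obtain ⟨e4, he⟩ := an_true he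
    have hk := Nat.eq_of_beq_eq_true e1
    refine ⟨ha, hb, hd, hu', fun h1 => by omega, fun _ => ?_, fun h1 => by omega⟩
    rw [Nat.eq_of_beq_eq_true e2, Nat.eq_of_beq_eq_true e3, ww, ww, eqL_eq e4, lv, cv_veq c 0 he,
      List.cons_append, ev_cons, ev_append, ev_XX (ok_spec ha)]
    simp [el, wd_zero, XX, mul_assoc]
  · obtain ⟨e1, he⟩ := an_true he
    have hk := Nat.eq_of_beq_eq_true e1
    refine ⟨ha, hb, hd, hu', fun h1 => by omega, fun h1 => by omega, fun _ => ?_⟩
    cases hr : dropN P.R src with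
    | nil => simp only [hr] at he; exact absurd (show false = true from he) (by simp)
    | cons r t =>
      simp only [hr] at he
      exact cellOk_spec h hG ha hu' (hG.R r (mem_of_dropN hr)) he
  · obtain ⟨e1, he⟩ := an_true he
    obtain ⟨e2, he⟩ := an_true he
    obtain ⟨e3, he⟩ := an_true he
    obtain ⟨e4, he⟩ := an_true he
    have hk := Nat.eq_of_beq_eq_true e1
    refine ⟨ha, hb, hd, hu', fun h1 => by omega, fun h1 => by omega, fun _ => ?_⟩
    have hv := hn src (by simpa [Nat.blt_eq] using e2)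
    refine cellOk_spec h hG ha hu' ?_ he
    have hj := h.ev_inv (φ := φ) (z := z) fun y hy =>
      Nat.le_of_ble_eq_true ((allL_iff _ _).mp e4 y hy)
    have hl : ∀ {x : ℕ}, P.ok x = true → ev (XX P.k g φ z) (P.inv (wd x)) = (φ (el g x))⁻¹ :=
      fun hx => by rw [h.ev_inv fun y hy => by have := ok_spec hx y hy; omega, ev_XX (ok_spec hx)]; rfl
    simp only [Par.raw, ev_append, hj, hl hv.b, hl hv.d]
    change _ * ww P g φ z _ * _ * (ww P g φ z _)⁻¹ * _ = _
    cases h1 : Nat.beq (P.F src).kind 1 with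
    | true =>
      have := hv.k1 (Nat.eq_of_beq_eq_true h1)
      rw [sel_true, ev_cons, ev_XX (ok_spec hv.a), show XX P.k g φ z P.k = z by simp [XX]]
      rw [show ev g (wd (P.F src).a) = el g (P.F src).a from rfl, this, mvc, mvc, mvc]
      simp
    | false =>
      have h2 : (P.F src).kind = 0 := by
        have : (P.F src).kind ≤ 1 := Nat.le_of_ble_eq_true e3
        have : (P.F src).kind ≠ 1 := fun h3 => by rw [h3] at h1; exact absurd h1 (by simp)
        omega
      rw [sel_false, ev_nil, one_mul, hv.k0 h2, mvc, mvc, mvc]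
      simp

theorem chkL_spec (h : CtxH P A g) (hG : CtxG P g φ z c) {l : List De} :
    ∀ {n : ℕ}, (∀ x < n, Val P g φ z c (P.F x)) → P.chkL l n = true →
      ∀ x < n + l.length, Val P g φ z c (P.F x) := by
  induction l with
  | nil => intro n hn _; exact hn
  | cons e l ih =>
    intro n hn he
    obtain ⟨e1, e2⟩ := an_true he
    have := ih (forall_lt_succ' hn (chk_spec h hG hn e1)) e2
    rwa [List.length_cons, ← add_assoc, add_right_comm]

/-- a fact with empty words at one coset is a relation between the labels -/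
theorem Val.rel {f : Fa} (h : Val P g φ z c f)
    (e : an (Nat.beq f.kind 0) (an (Nat.beq f.i f.j) (an (Nat.beq f.b 0) (Nat.beq f.d 0))) = true) :
    lv c f.p f.m = 1 := by
  obtain ⟨e1, e⟩ := an_true e
  obtain ⟨e2, e⟩ := an_true e
  obtain ⟨e3, e4⟩ := an_true e
  have := h.k0 (Nat.eq_of_beq_eq_true e1)
  rw [Nat.eq_of_beq_eq_true e2, Nat.eq_of_beq_eq_true e3, Nat.eq_of_beq_eq_true e4] at this
  simpa [el, wd_zero] using this

theorem cv_unit {Z : Type u} [CommGroup Z] (c : ℕ → Z) (i : ℕ) :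
    ∀ j, cv c j (List.replicate i 0 ++ [1]) = c (j + i) := by
  induction i with
  | zero => intro j; simp [cv]
  | succ i ih => intro j; rw [List.replicate_succ, List.cons_append, cv_cons, ih]; simp; congr 1; omega

theorem rel_unit {n : ℕ} (hn : ∀ x < n, Val P g φ z c (P.F x)) {l : List ℕ}
    (e : allL (List.range l.length) (fun i => an (Nat.blt (l.getD i 0) n)
      (an (an (Nat.beq (P.F (l.getD i 0)).kind 0) (an (Nat.beq (P.F (l.getD i 0)).i (P.F (l.getD i 0)).j)
        (an (Nat.beq (P.F (l.getD i 0)).b 0) (Nat.beq (P.F (l.getD i 0)).d 0))))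
      (an (eqL (P.F (l.getD i 0)).p (List.replicate i 0 ++ [1])) (eqL (P.F (l.getD i 0)).m [])))) = true) :
    ∀ i < l.length, c i = 1 := by
  intro i hi
  obtain ⟨e1, e⟩ := an_true ((allL_iff _ _).mp e i (List.mem_range.mpr hi))
  obtain ⟨e2, e⟩ := an_true e
  obtain ⟨e3, e4⟩ := an_true e
  have := (hn _ (by simpa [Nat.blt_eq] using e1)).rel e2
  rw [eqL_eq e3, eqL_eq e4, lv, cv_unit] at this
  simpa [cv] using this

/-! ### the closure -/

/-- the elements of `H` that `z` conjugates into `H` -/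
def KK (φ : H →* Γ) (z : Γ) : Subgroup H :=
  φ.range.comap ((MulAut.conj z).toMonoidHom.comp φ)

theorem mem_KK {x : H} : x ∈ KK φ z ↔ ∃ y, φ y = z * φ x * z⁻¹ := Iff.rfl

/-- the right words of facts at the coset of `z` -/
noncomputable def kW (P : Par) (n : ℕ) (l : List ℕ) (S : List (List ℕ)) : Bool :=
  allL S fun w => l.any fun x => an (Nat.blt x n) (an (Nat.beq (P.F x).kind 0)
    (an (Nat.beq (P.F x).i 1) (an (Nat.beq (P.F x).j 1)
      (eqL w (wd (P.F x).d) || eqL w (P.inv (wd (P.F x).d))))))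

theorem CtxH.ev_inv' (h : CtxH P A g) {w : List ℕ} (hw : ∀ y ∈ w, y < P.k) :
    ev g (P.inv w) = (ev g w)⁻¹ := by
  have := h.ev_inv (φ := MonoidHom.id H) (z := 1) (w := w) fun y hy => by have := hw y hy; omega
  rwa [ev_XX hw, ev_XX (h.inv_le hw)] at this

theorem kW_spec (h : CtxH P A g) {n : ℕ} (hn : ∀ x < n, Val P g φ z (fun _ => 1) (P.F x))
    {l : List ℕ} {S : List (List ℕ)} (e : kW P n l S = true) : ∀ w ∈ S, ev g w ∈ KK φ z := by
  intro w hw
  obtain ⟨x, -, e⟩ := List.any_eq_true.mp ((allL_iff _ _).mp e w hw)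
  obtain ⟨e1, e⟩ := an_true e
  obtain ⟨e2, e⟩ := an_true e
  obtain ⟨e3, e⟩ := an_true e
  obtain ⟨e4, e⟩ := an_true e
  have hv := hn x (by simpa [Nat.blt_eq] using e1)
  have h1 := hv.k0 (Nat.eq_of_beq_eq_true e2)
  rw [Nat.eq_of_beq_eq_true e3, Nat.eq_of_beq_eq_true e4, h.ww1, lv, cv_one, cv_one] at h1
  have h2 : el g (P.F x).d ∈ KK φ z := ⟨(el g (P.F x).b)⁻¹, by
    change _ = z * φ _ * z⁻¹
    rw [map_inv, eq_mul_inv_iff_mul_eq, inv_mul_eq_iff_eq_mul, ← mul_assoc]; simpa using h1⟩
  rcases Bool.or_eq_true_iff.mp e with e | e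
  · rw [eqL_eq e]; exact h2
  · rw [eqL_eq e, h.ev_inv' (ok_spec hv.d)]; exact inv_mem h2

/-- multiply one point -/
noncomputable def pv (T : ℕ → ℕ → ℕ) (iv : ℕ → ℕ) (s : Bool) (n x : ℕ) : ℕ :=
  Bool.rec (motive := fun _ => ℕ) (tr T (wd n) x) (trI T iv (wd n) x) s

/-- the entry `e` for the point `x` at coset `i` -/
noncomputable def clo1 (P : Par) (T : ℕ → ℕ → ℕ) (L : List ℕ) (info : ℕ → ℕ) (i x e : ℕ) (s : Bool)
    (f : Fa) : Bool :=
  Fa.rec (motive := fun _ => Bool) (fun kind fi fj a b _ _ _ _ =>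
    Bool.rec (motive := fun _ => Bool)
      (an (Nat.beq kind 1) (an (Nat.beq (sel s fj fi) i) (an (L.any fun j => Nat.beq j (sel s fi fj))
        (Nat.beq x (sel s (tr T (wd b) (tr T (wd P.jq) 0)) (tr T (wd a) 0))))))
      (an (Nat.beq fi i) (an (Nat.beq fj i)
        (Nat.blt (Nat.shiftRight (info (pv T P.iv s b x)) 21) (Nat.shiftRight e 21))))
      (Nat.beq kind 0)) f

/-- the point `x` at coset `i` -/
noncomputable def clo (P : Par) (T : ℕ → ℕ → ℕ) (M n : ℕ) (L : List ℕ) (info : ℕ → ℕ) (i x : ℕ) :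
    Bool :=
  Bool.rec (motive := fun _ => Bool)
    (Nat.rec (motive := fun _ => Bool) false (fun e _ =>
      Nat.rec (motive := fun _ => Bool) false (fun y _ => an (Nat.blt y n)
        (Bool.rec (motive := fun _ => Bool) (clo1 P T L info i x e true (P.F y))
          (clo1 P T L info i x e false (P.F y)) (Nat.beq (Nat.land e 1) 0)))
        (Nat.succ (Nat.land (Nat.shiftRight e 1) 1048575))) (Nat.succ (info x)))
    true (Nat.ble M x)

variable (P g φ z) in
/-- the union of the double cosets -/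
def UU (L : List ℕ) : Set Γ := {γ | ∃ i ∈ L, ∃ x y, γ = φ x * ww P g φ z i * φ y}

theorem UU.mul {L : List ℕ} {γ : Γ} (h : γ ∈ UU P g φ z L) (x y : H) :
    φ x * γ * φ y ∈ UU P g φ z L := by
  obtain ⟨i, hi, a, b, rfl⟩ := h
  exact ⟨i, hi, x * a, b * y, by simp [mul_assoc]⟩

theorem clo_spec (h : CtxH P A g) (hG : CtxG P g φ z fun _ => 1) {n : ℕ}
    (hn : ∀ x < n, Val P g φ z (fun _ => 1) (P.F x)) {M : ℕ} {B : RAct H M} {T : ℕ → ℕ → ℕ}
    (hB : B.Tab g P.k T) (hM : 0 < M) (hK : ∀ x, B.act 0 x = 0 → x ∈ KK φ z) {L : List ℕ}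
    {info : ℕ → ℕ} {i : ℕ} (hc : ∀ x < M, clo P T M n L info i x = true) (x : H) :
    z * φ x * ww P g φ z i ∈ UU P g φ z L := by
  have l1 : ∀ p m, lv (fun _ => (1 : Subgroup.center Γ)) p m = 1 := fun p m => by
    rw [lv, cv_one, cv_one]; simp
  have key : ∀ D x, Nat.shiftRight (info (B.act 0 x)) 21 = D →
      z * φ x * ww P g φ z i ∈ UU P g φ z L := by
    intro D
    induction D using Nat.strong_induction_on with
    | _ D ih =>
      intro x hD
      have hx := B.lt x hM
      have e := hc _ hx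
      unfold clo at e
      rw [CT.ble_false hx] at e
      obtain ⟨e1, e⟩ := an_true e
      have hv := hn _ (by simpa [Nat.blt_eq] using e1)
      have : ∃ s, clo1 P T L info i (B.act 0 x) (info (B.act 0 x)) s
          (P.F (Nat.land (Nat.shiftRight (info (B.act 0 x)) 1) 1048575)) = true := by
        cases h8 : Nat.beq (Nat.land (info (B.act 0 x)) 1) 0 with
        | true => rw [h8] at e; exact ⟨_, e⟩
        | false => rw [h8] at e; exact ⟨_, e⟩
      obtain ⟨s, e2⟩ := this
      generalize P.F (Nat.land (Nat.shiftRight (info (B.act 0 x)) 1) 1048575) = f at e2 hv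
      obtain ⟨kind, fi, fj, a, b, d, p, m, u⟩ := f
      cases h0 : Nat.beq kind 0 with
      | true =>
        have e3 : Bool.rec (motive := fun _ => Bool) _ (an _ _) (Nat.beq kind 0) = true := e2
        rw [h0] at e3
        obtain ⟨e4, e3⟩ := an_true e3
        obtain ⟨e5, e6⟩ := an_true e3
        have v := hv.view0 (Nat.eq_of_beq_eq_true h0) s
        obtain rfl := Nat.eq_of_beq_eq_true e4
        obtain rfl := Nat.eq_of_beq_eq_true e5
        have e7 : ∀ y : ℕ, sel s y y = y := fun y => by cases s <;> rfl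
        have e8 : pv T P.iv s b (B.act 0 x) = B.act 0 (x * sel s (el g b)⁻¹ (el g b)) := by
          rw [B.mul _ _ hM]
          cases s
          · exact (hB.act_ev (ok_spec hv.b) hx).symm
          · exact trI_spec hB h.ivk (ok_spec hv.b) hx
        rw [e8] at e6
        have := UU.mul (ih _ (by rw [← hD]; simpa [Nat.blt_eq] using e6) _ rfl) 1
          (sel s (el g d)⁻¹ (el g d))
        simp only [e7, l1] at v
        rw [v]
        simpa [mul_assoc] using this
      | false =>
        have e3 : Bool.rec (motive := fun _ => Bool) (an _ _) _ (Nat.beq kind 0) = true := e2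
        rw [h0] at e3
        obtain ⟨e4, e3⟩ := an_true e3
        obtain ⟨e5, e3⟩ := an_true e3
        obtain ⟨e6, e7⟩ := an_true e3
        have v := hv.view1 hG (Nat.eq_of_beq_eq_true e4) s
        obtain ⟨j, hj, e6⟩ := List.any_eq_true.mp e6
        have e8 : B.act 0 x = B.act 0 (eA P g s ⟨kind, fi, fj, a, b, d, p, m, u⟩) := by
          rw [Nat.eq_of_beq_eq_true e7]
          cases s
          · exact (hB.act_ev (ok_spec hv.a) hM).symm
          · simp only [eA, sel_true, el]
            rw [B.mul _ _ hM, hB.act_ev (ok_spec h.jq) hM, ← hB.act_ev (ok_spec h.jq) hM,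
              hB.act_ev (ok_spec hv.b) (B.lt _ hM)]
        obtain ⟨y, hy⟩ := mem_KK.mp (hK (x * (eA P g s ⟨kind, fi, fj, a, b, d, p, m, u⟩)⁻¹)
          (by rw [B.mul _ _ hM, e8, B.act_inv _ hM]))
        have e9 : eL P (fun _ => (1 : Subgroup.center Γ)) s ⟨kind, fi, fj, a, b, d, p, m, u⟩ = 1 := by
          cases s <;> simp [eL, l1]
        refine ⟨j, hj, y * eB P g s ⟨kind, fi, fj, a, b, d, p, m, u⟩, sel s (el g d)⁻¹ (el g d), ?_⟩
        rw [e9, ← Nat.eq_of_beq_eq_true e6, Nat.eq_of_beq_eq_true e5] at v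
        rw [map_mul, mul_assoc, mul_assoc (φ y), mul_assoc (φ y), hy]
        simp only [OneMemClass.coe_one, mul_one] at v
        rw [← v]; simp [mul_assoc]
  exact key _ x rfl

theorem finite_of_clo [Finite H] (h : CtxH P A g) (hG : CtxG P g φ z fun _ => 1) {L : List ℕ}
    (h0 : 0 ∈ L) (h1 : 1 ∈ L)
    (hc : ∀ i ∈ L, i ≠ 0 → ∀ x, z * φ x * ww P g φ z i ∈ UU P g φ z L)
    (hgen : ∀ S : Subgroup Γ, (∀ x, φ x ∈ S) → z ∈ S → S = ⊤) :
    Finite Γ ∧ ∀ γ, γ ∈ UU P g φ z L := by
  have w0 : ww P g φ z 0 = 1 := by rw [ww, h.w0, ev_nil]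
  have hz : ∀ u ∈ UU P g φ z L, z * u ∈ UU P g φ z L := by
    rintro _ ⟨i, hi, x, y, rfl⟩
    by_cases hi0 : i = 0
    · exact ⟨1, h1, 1, x * y, by simp [hi0, w0, h.ww1]⟩
    · simpa [mul_assoc] using UU.mul (hc i hi hi0 x) 1 y
  have hφ : ∀ x, ∀ u ∈ UU P g φ z L, φ x * u ∈ UU P g φ z L := fun x u hu => by
    simpa using UU.mul hu x 1
  let S : Subgroup Γ :=
    { carrier := {γ | ∀ u ∈ UU P g φ z L, γ * u ∈ UU P g φ z L ∧ γ⁻¹ * u ∈ UU P g φ z L}
      one_mem' := fun u hu => by simpa using hu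
      mul_mem' := fun {a b} ha hb u hu => by
        rw [mul_inv_rev, mul_assoc, mul_assoc]
        exact ⟨(ha _ (hb u hu).1).1, (hb _ (ha u hu).2).2⟩
      inv_mem' := fun {a} ha u hu => by rw [inv_inv]; exact (ha u hu).symm }
  have hS := hgen S (fun x u hu => ⟨hφ x u hu, by rw [← map_inv]; exact hφ _ u hu⟩)
    (fun u hu => ⟨hz u hu, by
      rw [hG.J, lv, cv_one, cv_one]
      simpa [mul_assoc] using hφ _ _ (hz _ (hφ _ u hu))⟩)
  have hall : ∀ γ, γ ∈ UU P g φ z L := fun γ => by
    simpa using ((hS ▸ Subgroup.mem_top γ : γ ∈ S) 1 ⟨0, h0, 1, 1, by simp [w0]⟩).1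
  refine ⟨Finite.of_surjective (fun q : {i // i ∈ L} × H × H =>
    φ q.2.1 * ww P g φ z q.1.val * φ q.2.2) fun γ => ?_, hall⟩
  obtain ⟨i, hi, x, y, rfl⟩ := hall γ
  exact ⟨(⟨i, hi⟩, x, y), rfl⟩

/-! ### the chain of the point stabiliser -/

theorem lev_treeK {G : Type u} [Group G] {N : ℕ} {A : RAct G N} {g : ℕ → G} {k : ℕ}
    {T : ℕ → ℕ → ℕ} (h : A.Tab g k T) {K : Subgroup G}
    {S : List (List ℕ)} (hK : ∀ w ∈ S, ev g w ∈ K) {pre : List ℕ} {row : ℕ → ℕ} {L : LvP} {M : ℕ}
    (hs : (lettersB k S && RAct.fixB T S pre && Nat.blt L.β N && Nat.ble L.n M) = true)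
    (hchk : ∀ t < M, levT T S row L N t = true) :
    A.Lev K pre L.β (RAct.lvSet row L) ∧ (RAct.lvSet row L).card = L.n := by
  refine ⟨?_, (h.lev_tree hs hchk).2⟩
  simp only [Bool.and_eq_true, Nat.blt_eq, Nat.ble_eq] at hs
  obtain ⟨⟨⟨hS, hf⟩, hβ⟩, hM⟩ := hs
  have sp := fun t (ht : t < L.n) => levT_spec (hchk t (by omega)) ht
  have key : ∀ D t, t < L.n → row t >>> L.ds = D →
      ∃ x ∈ K ⊓ A.fixL pre, A.act (Nat.land (row t) L.pm) x = L.β := by
    intro D
    induction D using Nat.strong_induction_on with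
    | _ D ih =>
      intro t ht hD
      obtain ⟨h1, -, h2 | ⟨j, hj, s, h3, h4⟩⟩ := sp t ht
      · exact ⟨1, Subgroup.one_mem _, by rw [A.one h1, h2]⟩
      · obtain ⟨x, hx, hxa⟩ := ih _ (hD ▸ h3) j hj rfl
        have hw : dG g S s ∈ K ⊓ A.fixL pre :=
          dG_mem (fun w hw => Subgroup.mem_inf.mpr ⟨hK w hw, h.mem_fixL hS hf w hw⟩) _
        refine ⟨_, Subgroup.mul_mem _ hw hx, ?_⟩
        rw [A.mul _ _ h1, h.derive hS (s + 1) _ (by omega) _ h1, ← hxa, ← h4]
        rfl
  refine ⟨hβ, fun c hc => ?_⟩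
  obtain ⟨t, ht, rfl⟩ := Finset.mem_image.mp hc
  exact ⟨(sp t (Finset.mem_range.mp ht)).1, key _ t (Finset.mem_range.mp ht) rfl⟩

/-- a chain in `K` below `pre` with product of the orbit lengths `n` -/
def ChK (A : RAct H N) (K : Subgroup H) (pre : List ℕ) (n : ℕ) : Prop :=
  ∃ l, A.Chain K pre l ∧ RAct.chainProd l = n

theorem chK_nil {K : Subgroup H} {pre : List ℕ} : ChK A K pre 1 := ⟨[], trivial, rfl⟩

theorem chK_cons {K : Subgroup H} {pre : List ℕ} {β m n : ℕ} {s : Finset ℕ}
    (h : A.Lev K pre β s ∧ s.card = m) (h' : ChK A K (β :: pre) n) : ChK A K pre (m * n) := by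
  obtain ⟨l, h1, h2⟩ := h'
  exact ⟨(β, s) :: l, ⟨h.1, h1⟩, by rw [← h2, ← h.2]; simp [RAct.chainProd]⟩

theorem kW_fix (h : CtxH P A g) {n : ℕ} (hn : ∀ x < n, Val P g φ z (fun _ => 1) (P.F x))
    {M : ℕ} {B : RAct H M} {T : ℕ → ℕ → ℕ} (hB : B.Tab g P.k T) {l : List ℕ} {S : List (List ℕ)}
    (e : (kW P n l S && lettersB P.k S && RAct.fixB T S [0]) = true) :
    ∀ w ∈ S, ev g w ∈ KK φ z ⊓ B.fixL [0] := by
  simp only [Bool.and_eq_true] at e
  exact fun w hw => ⟨kW_spec h hn e.1.1 w hw, hB.mem_fixL e.1.2 e.2 w hw⟩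

theorem stab_le [Finite H] {M : ℕ} {B : RAct H M} {K : Subgroup H} {s : Finset ℕ} {m : ℕ}
    (h1 : B.Lev ⊤ [] 0 s ∧ s.card = M) (h2 : ChK A (K ⊓ B.fixL [0]) [] m)
    (hc : Nat.card H ≤ M * m) (x : H) (hx : B.act 0 x = 0) : x ∈ K := by
  obtain ⟨l, h3, rfl⟩ := h2
  have h4 := h1.1.card_le
  have h5 := h3.prod_le_card
  rw [h1.2, RAct.fixL_nil, top_inf_eq, top_inf_eq, Subgroup.card_top] at h4
  have h6 := Nat.le_of_mul_le_mul_left (h4.trans hc) h1.1.1
  have h7 : K ⊓ B.fixL [0] = B.fixL [0] :=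
    Subgroup.eq_of_le_of_card_ge inf_le_right (h6.trans h5)
  have : x ∈ B.fixL [0] := fun c hc _ => by rw [List.mem_singleton.mp hc, hx]
  rw [← h7] at this; exact this.1

end sound

end Cfsg.Agent.L0.Dce
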