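import Cfsg.Agent.L0.DceY

/-! Relators from a partial enumeration; letters that abbreviate words. -/

set_option autoImplicit false
set_option linter.style.haveILetI false

namespace Cfsg.Agent.L0

section
variable {Γ : Type} [Group Γ] {y : ℕ → Γ} {n : ℕ} {iv : ℕ → ℕ}

theorem let_exp (h : ∀ a < n, y (iv a) = (y a)⁻¹) {K : List (List ℕ)} (hK : ∀ r ∈ K, ev y r = 1)
    {E : ℕ → List ℕ} {i : ℕ} (hi : i < n) (e : consB n iv K (iv i :: E i) = true) :
    y i = ev y (E i) := by
  have := consB_spec h hK e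
  rwa [ev_cons, h i hi, inv_mul_eq_one] at this

theorem ev_exp (h : ∀ a < n, y (iv a) = (y a)⁻¹) {K : List (List ℕ)} (hK : ∀ r ∈ K, ev y r = 1)
    {E : ℕ → List ℕ} (e : ((List.range n).all fun i => consB n iv K (iv i :: E i)) = true)
    {r : List ℕ} (hr : ∀ a ∈ r, a < n) : ev y (r.flatMap E) = ev y r := by
  rw [ev_flatMap]
  exact ev_congr fun a ha => (let_exp h hK (hr a ha)
    (List.all_eq_true.mp e a (List.mem_range.mpr (hr a ha)))).symm

theorem cons_exp (h : ∀ a < n, y (iv a) = (y a)⁻¹) {K : List (List ℕ)} (hK : ∀ r ∈ K, ev y r = 1)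
    (E : ℕ → List ℕ) {L : List (List ℕ)}
    (e : (lettersLt n L && ((List.range n).all fun i => consB n iv K (iv i :: E i)) &&
      (L.map fun r => r.flatMap E).all (consB n iv K)) = true) : ∀ r ∈ L, ev y r = 1 := by
  simp only [Bool.and_eq_true] at e
  intro r hr
  rw [← ev_exp h hK e.1.2 (lettersLt_iff.mp e.1.1 r hr)]
  exact cons_all h hK e.2 _ (List.mem_map_of_mem hr)

theorem exp_cons (h : ∀ a < n, y (iv a) = (y a)⁻¹) {K : List (List ℕ)} (hK : ∀ r ∈ K, ev y r = 1)
    (E : ℕ → List ℕ)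
    (e : (lettersLt n K && (List.range n).all fun i => consB n iv K (iv i :: E i)) = true) :
    ∀ r ∈ K.map fun r => r.flatMap E, ev y r = 1 := by
  simp only [Bool.and_eq_true] at e
  intro r hr
  obtain ⟨q, hq, rfl⟩ := List.mem_map.mp hr
  rw [ev_exp h hK e.2 (lettersLt_iff.mp e.1 q hq), hK q hq]

theorem CardLe.exp (h : ∀ a < n, y (iv a) = (y a)⁻¹) {K : List (List ℕ)}
    (hK : ∀ r ∈ K, ev y r = 1) {l : List ℕ} {m : ℕ} (hc : CardLe y l m) (E : ℕ → List ℕ)
    (e : ((List.range n).all fun i => (E i).all l.contains && consB n iv K (iv i :: E i)) = true) :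
    CardLe y (List.range n) m := hc.mono fun a ha => by
  have := List.all_eq_true.mp e a ha
  simp only [Bool.and_eq_true, List.all_eq_true, List.contains_iff_mem] at this
  rw [let_exp h hK (List.mem_range.mp ha) this.2]
  exact ev_mem _ _ fun b hb => mem_genL y (this.1 b hb)

theorem cardLe_of_PG {k m : ℕ} {R : List (List ℕ)} (hk : lettersLt k R = true)
    (hR : ∀ r ∈ R, ev y r = 1) (hc : Finite (PG k R) ∧ Nat.card (PG k R) ≤ m) :
    CardLe y (List.range k) m := by
  haveI := hc.1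
  haveI : Finite (PG.lift y hk hR).range :=
    Finite.of_surjective _ (PG.lift y hk hR).rangeRestrict_surjective
  exact cardLe_of_le (K := (PG.lift y hk hR).range)
    (fun a ha => ⟨_, PG.lift_gen_apply _ _ _ (List.mem_range.mp ha)⟩)
    ((Nat.card_le_card_of_surjective _ (PG.lift y hk hR).rangeRestrict_surjective).trans hc.2)

theorem rel_of_PG {k : ℕ} {R L : List (List ℕ)} (hk : (lettersLt k R && lettersLt k L) = true)
    (hR : ∀ r ∈ R, ev y r = 1) (hL : ∀ r ∈ L, ev (PG.gen k R) r = 1) : ∀ r ∈ L, ev y r = 1 := by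
  simp only [Bool.and_eq_true] at hk
  intro r hr
  rw [← ev_congr fun a ha => PG.lift_gen_apply y hk.1 hR (lettersLt_iff.mp hk.2 r hr a ha),
    ← map_ev, hL r hr, map_one]

/-- a power of `a` which fixes a point of a regular orbit of `a` -/
theorem eq_one_of_cyc {N : ℕ} {A : RAct Γ N} {k : ℕ} {T : ℕ → ℕ → ℕ} (hT : A.Tab y k T)
    {a : List ℕ} {m c : ℕ} (h1 : ev y a ^ m = 1) {U : List (List ℕ)}
    (hU : ∀ u ∈ U, ev y u ∈ Subgroup.zpowers (ev y a))
    (e : (lettersLt k (a :: U) && decide (0 < m) && decide (c < N) &&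
      ((List.range m).all fun j => j == 0 || tr T (List.replicate j a).flatten c != c) &&
      U.all fun u => tr T u c == c) = true) : ∀ u ∈ U, ev y u = 1 := by
  simp only [Bool.and_eq_true, List.all_eq_true, decide_eq_true_eq, Bool.or_eq_true, beq_iff_eq,
    bne_iff_ne, List.mem_range] at e
  obtain ⟨⟨⟨⟨e1, e2⟩, e3⟩, e4⟩, e5⟩ := e
  intro u hu
  obtain ⟨j, hj⟩ := (isOfFinOrder_iff_pow_eq_one.mpr ⟨m, e2, h1⟩).mem_powers_iff_mem_zpowers.mpr
    (hU u hu)
  have h2 : ev y u = ev y (List.replicate (j % m) a).flatten := by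
    rw [ev_replicate_flatten, ← pow_eq_pow_mod _ h1]; exact hj.symm
  rcases e4 _ (Nat.mod_lt j e2) with h3 | h3
  · rw [h2, h3]; rfl
  · refine absurd ?_ h3
    rw [← hT.act_ev (fun b hb => by
      obtain ⟨l, hl, hb⟩ := List.mem_flatten.mp hb
      rw [List.eq_of_mem_replicate hl] at hb
      exact lettersLt_iff.mp e1 a (by simp) b hb) e3, ← h2,
      hT.act_ev (lettersLt_iff.mp e1 u (by simp [hu])) e3, e5 u hu]

end

namespace Dce

open scoped IsMulCommutative

variable {H : Type} [Group H] {N : ℕ} {Γ : Type} [Group Γ]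
  {P : Par} {A : RAct H N} {g : ℕ → H} {φ : H →* Γ} {z : Γ}

theorem raw_all (h : CtxH P A g) {n : ℕ} (hn : ∀ x < n, Val P g φ z (fun _ => 1) (P.F x))
    {l : List ℕ} (e : allL l (fun x => an (Nat.blt x n) (an (Nat.beq (P.F x).kind 0)
      (allL (P.W (P.F x).j) fun y => Nat.ble y (Nat.succ P.k)))) = true) :
    ∀ r ∈ l.map fun x => P.raw (P.F x), ev (XX P.k g φ z) r = 1 := by
  intro r hr
  obtain ⟨x, hx, rfl⟩ := List.mem_map.mp hr
  obtain ⟨e1, e⟩ := an_true ((allL_iff _ _).mp e x hx)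
  obtain ⟨e2, e4⟩ := an_true e
  have hv := hn x (by simpa [Nat.blt_eq] using e1)
  have h2 := Nat.eq_of_beq_eq_true e2
  have hj := h.ev_inv (φ := φ) (z := z) fun y hy =>
    Nat.le_of_ble_eq_true ((allL_iff _ _).mp e4 y hy)
  have hl : ∀ {x : ℕ}, P.ok x = true → ev (XX P.k g φ z) (P.inv (wd x)) = (φ (el g x))⁻¹ :=
    fun hx => by rw [h.ev_inv fun y hy => by have := ok_spec hx y hy; omega, ev_XX (ok_spec hx)]; rfl
  simp only [Par.raw, ev_append, hj, hl hv.b, hl hv.d]
  change _ * ww P g φ z _ * _ * (ww P g φ z _)⁻¹ * _ = _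
  rw [h2, show Nat.beq 0 1 = false from rfl, sel_false, ev_nil, one_mul, hv.k0 h2, lv, cv_one, cv_one]
  simp

end Dce

end Cfsg.Agent.L0
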