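import Cfsg.Agent.L0.Word

/-! Packed digit vectors as labels in a central subgroup, and kernel-friendly loops. -/

set_option autoImplicit false

namespace Cfsg.Agent.L0

universe u

/-- `∀ i < 2 ^ d, f (lo * 2 ^ d + i)` by halving -/
noncomputable def allR (f : ℕ → Bool) (d : ℕ) : ℕ → Bool :=
  Nat.rec (motive := fun _ => ℕ → Bool) (fun lo => f lo)
    (fun _ ih lo => Nat.rec (motive := fun _ => Bool) false
      (fun l2 _ => Bool.rec (motive := fun _ => Bool) false (ih (Nat.succ l2)) (ih l2))
      (Nat.succ (Nat.add lo lo))) d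

theorem allR_spec (f : ℕ → Bool) (d : ℕ) : ∀ lo, allR f d lo = true →
    ∀ i, lo * 2 ^ d ≤ i → i < (lo + 1) * 2 ^ d → f i = true := by
  induction d with
  | zero =>
    intro lo h i h1 h2
    have : i = lo := by omega
    subst this; exact h
  | succ d ih =>
    intro lo h i h1 h2
    have e : allR f (d + 1) lo = Bool.rec (motive := fun _ => Bool) false
      (allR f d (lo + lo + 1)) (allR f d (lo + lo)) := rfl
    rw [e] at h
    cases h0 : allR f d (lo + lo) with
    | false => rw [h0] at h; exact absurd h (by simp)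
    | true =>
      rw [h0] at h
      by_cases hi : i < (lo + lo + 1) * 2 ^ d
      · exact ih _ h0 i (by rw [pow_succ] at h1; nlinarith) hi
      · exact ih _ h i (not_lt.mp hi) (by rw [pow_succ] at h2; nlinarith)

/-- glue blocks: `f` holds below `n * 2 ^ d` -/
theorem allR_glue {f : ℕ → Bool} {d n : ℕ} (h : ∀ j < n, allR f d j = true) :
    ∀ i < n * 2 ^ d, f i = true := by
  intro i hi
  have hp : 0 < 2 ^ d := by positivity
  refine allR_spec f d (i / 2 ^ d) (h _ ((Nat.div_lt_iff_lt_mul hp).mpr hi)) i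
    (Nat.div_mul_le_self _ _) ?_
  have := Nat.lt_div_mul_add (a := i) hp
  nlinarith

theorem forall_lt_zero' {P : ℕ → Prop} : ∀ j < 0, P j := fun _ h => absurd h (Nat.not_lt_zero _)

theorem forall_lt_succ' {P : ℕ → Prop} {n : ℕ} (h : ∀ j < n, P j) (hn : P n) : ∀ j < n + 1, P j := by
  intro j hj
  rcases Nat.lt_succ_iff_lt_or_eq.mp hj with h1 | h1
  · exact h j h1
  · exact h1 ▸ hn

/-- `∀ a ∈ l, P a` -/
noncomputable def allL {α : Type} (l : List α) (P : α → Bool) : Bool :=
  List.rec (motive := fun _ => Bool) true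
    (fun a _ ih => Bool.rec (motive := fun _ => Bool) false ih (P a)) l

theorem allL_iff {α : Type} (l : List α) (P : α → Bool) :
    allL l P = true ↔ ∀ x ∈ l, P x = true := by
  induction l with
  | nil => simp [allL]
  | cons a l ih =>
    have : allL (a :: l) P = Bool.rec (motive := fun _ => Bool) false (allL l P) (P a) := rfl
    rw [this]
    cases hp : P a with
    | false => simp [hp]
    | true => simp [hp, ih]

theorem brec_true {b c : Bool} (h : Bool.rec (motive := fun _ => Bool) false c b = true) :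
    b = true ∧ c = true := by
  cases b <;> simp_all

theorem brec_false {b c : Bool} (h : Bool.rec (motive := fun _ => Bool) c false b = true) :
    b = false ∧ c = true := by
  cases b <;> simp_all

/-- a digit: base, bound for a single label, modulus -/
structure Dg where
  B : ℕ
  D : ℕ
  m : ℕ

section dec
variable {Γ : Type u} [Group Γ]

/-- value of a packed digit vector -/
def dec : List Dg → List Γ → ℕ → Γ
  | d :: ds, z :: zs, L => z ^ (L % d.B) * dec ds zs (L / d.B)
  | _, _, _ => 1

/-- all digits are at most `k` times their bound -/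
def Bnd : List Dg → ℕ → ℕ → Prop
  | [], _, _ => True
  | d :: ds, k, L => L % d.B ≤ k * d.D ∧ Bnd ds k (L / d.B)

/-- `k` labels can be added without carry -/
def Fits : List Dg → ℕ → Prop
  | [], _ => True
  | d :: ds, k => k * d.D < d.B ∧ Fits ds k

instance instDecFits : ∀ (ds : List Dg) (k : ℕ), Decidable (Fits ds k)
  | [], _ => isTrue trivial
  | d :: ds, k => @instDecidableAnd _ _ (inferInstanceAs (Decidable (k * d.D < d.B)))
      (instDecFits ds k)

theorem Fits.mono {ds : List Dg} {k k' : ℕ} (h : Fits ds k) (hk : k' ≤ k) : Fits ds k' := by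
  induction ds with
  | nil => trivial
  | cons d ds ih => exact ⟨lt_of_le_of_lt (Nat.mul_le_mul_right _ hk) h.1, ih h.2⟩

theorem Bnd.mono {ds : List Dg} {k k' L : ℕ} (h : Bnd ds k L) (hk : k ≤ k') : Bnd ds k' L := by
  induction ds generalizing L with
  | nil => trivial
  | cons d ds ih => exact ⟨h.1.trans (Nat.mul_le_mul_right _ hk), ih h.2⟩

theorem Bnd.zero (ds : List Dg) (k : ℕ) : Bnd ds k 0 := by
  induction ds with
  | nil => trivial
  | cons d ds ih => exact ⟨by simp, by simpa using ih⟩

/-- the moduli kill the `z`s modulo `C`, and the `z`s are central -/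
def ZOk (C : Subgroup Γ) : List Dg → List Γ → Prop
  | d :: ds, z :: zs => z ∈ Subgroup.center Γ ∧ z ^ d.m ∈ C ∧ ZOk C ds zs
  | _, _ => True

theorem dec_mem_center {C : Subgroup Γ} {ds : List Dg} {zs : List Γ} (h : ZOk C ds zs) (L : ℕ) :
    dec ds zs L ∈ Subgroup.center Γ := by
  induction ds generalizing zs L with
  | nil => simp [dec]
  | cons d ds ih =>
    cases zs with
    | nil => simp [dec]
    | cons z zs =>
      exact Subgroup.mul_mem _ (Subgroup.pow_mem _ h.1 _) (ih h.2.2 _)

theorem dec_mem {ds : List Dg} {zs : List Γ} (Z : Subgroup Γ) (h : ∀ z ∈ zs, z ∈ Z) (L : ℕ) :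
    dec ds zs L ∈ Z := by
  induction ds generalizing zs L with
  | nil => simp [dec]
  | cons d ds ih =>
    cases zs with
    | nil => simp [dec]
    | cons z zs =>
      exact Subgroup.mul_mem _ (Subgroup.pow_mem _ (h z (by simp)) _)
        (ih (fun z hz => h z (by simp [hz])) _)

theorem dec_zero (ds : List Dg) (zs : List Γ) : dec ds zs 0 = 1 := by
  induction ds generalizing zs with
  | nil => simp [dec]
  | cons d ds ih =>
    cases zs with
    | nil => simp [dec]
    | cons z zs => simp [dec, ih]

theorem dec_add {C : Subgroup Γ} {ds : List Dg} {zs : List Γ} (h : ZOk C ds zs) {k1 k2 a b : ℕ}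
    (ha : Bnd ds k1 a) (hb : Bnd ds k2 b) (hf : Fits ds (k1 + k2)) :
    Bnd ds (k1 + k2) (a + b) ∧ dec ds zs (a + b) = dec ds zs a * dec ds zs b := by
  induction ds generalizing zs a b with
  | nil => simp [dec, Bnd]
  | cons d ds ih =>
    have h1 : a % d.B + b % d.B < d.B := by
      have := ha.1; have := hb.1; have := hf.1; nlinarith
    have e1 : (a + b) % d.B = a % d.B + b % d.B := Nat.add_mod_of_add_mod_lt h1
    have e2 : (a + b) / d.B = a / d.B + b / d.B := Nat.add_div_eq_of_add_mod_lt h1
    cases zs with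
    | nil =>
      have := ih (zs := []) (by cases ds <;> trivial) ha.2 hb.2 hf.2
      refine ⟨⟨by rw [e1]; have := ha.1; have := hb.1; nlinarith, by rw [e2]; exact this.1⟩, ?_⟩
      simp [dec]
    | cons z zs =>
      have := ih h.2.2 ha.2 hb.2 hf.2
      refine ⟨⟨by rw [e1]; have := ha.1; have := hb.1; nlinarith, by rw [e2]; exact this.1⟩, ?_⟩
      simp only [dec]
      rw [e1, e2, this.2, pow_add]
      have hc := Subgroup.mem_center_iff.mp (Subgroup.pow_mem _ h.1 (b % d.B)) (dec ds zs (a / d.B))
      simp only [mul_assoc]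
      rw [← mul_assoc (z ^ (b % d.B)), ← hc, mul_assoc]

/-- digit bounds, as a check -/
noncomputable def bndB (ds : List Dg) : ℕ → Bool :=
  List.rec (motive := fun _ => ℕ → Bool) (fun _ => true)
    (fun d _ ih L => Bool.rec (motive := fun _ => Bool) false (ih (Nat.div L d.B))
      (Nat.ble (Nat.mod L d.B) d.D)) ds

theorem bndB_spec {ds : List Dg} {L : ℕ} (h : bndB ds L = true) : Bnd ds 1 L := by
  induction ds generalizing L with
  | nil => trivial
  | cons d ds ih =>
    have e : bndB (d :: ds) L = Bool.rec (motive := fun _ => Bool) false (bndB ds (L / d.B))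
      (Nat.ble (L % d.B) d.D) := rfl
    rw [e] at h
    obtain ⟨h1, h2⟩ := brec_true h
    exact ⟨by simpa using Nat.le_of_ble_eq_true h1, ih h2⟩

/-- digitwise congruence, as a check -/
noncomputable def eqmB (ds : List Dg) : ℕ → ℕ → Bool :=
  List.rec (motive := fun _ => ℕ → ℕ → Bool) (fun _ _ => true)
    (fun d _ ih a b => Bool.rec (motive := fun _ => Bool) false (ih (Nat.div a d.B) (Nat.div b d.B))
      (Nat.beq (Nat.mod (Nat.mod a d.B) d.m) (Nat.mod (Nat.mod b d.B) d.m))) ds

theorem pow_mul_inv_mem {C : Subgroup Γ} {z : Γ} {m a b : ℕ} (hz : z ^ m ∈ C)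
    (h : a % m = b % m) : z ^ a * (z ^ b)⁻¹ ∈ C := by
  have ea : z ^ a = (z ^ m) ^ (a / m) * z ^ (a % m) := by
    rw [← pow_mul, ← pow_add, Nat.div_add_mod]
  have eb : z ^ b = (z ^ m) ^ (b / m) * z ^ (a % m) := by
    rw [← pow_mul, ← pow_add, h, Nat.div_add_mod]
  rw [ea, eb, mul_inv_rev, mul_assoc, mul_inv_cancel_left]
  exact C.mul_mem (C.pow_mem hz _) (C.inv_mem (C.pow_mem hz _))

theorem eqmB_spec {C : Subgroup Γ} {ds : List Dg} {zs : List Γ} (h : ZOk C ds zs) {a b : ℕ}
    (he : eqmB ds a b = true) : dec ds zs a * (dec ds zs b)⁻¹ ∈ C := by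
  induction ds generalizing zs a b with
  | nil => simp [dec]
  | cons d ds ih =>
    cases zs with
    | nil => simp [dec]
    | cons z zs =>
      have e : eqmB (d :: ds) a b = Bool.rec (motive := fun _ => Bool) false
        (eqmB ds (a / d.B) (b / d.B)) (Nat.beq (a % d.B % d.m) (b % d.B % d.m)) := rfl
      rw [e] at he
      obtain ⟨h1, h2⟩ := brec_true he
      have h3 := pow_mul_inv_mem h.2.1 (Nat.eq_of_beq_eq_true h1)
      have h4 := ih h.2.2 h2
      simp only [dec]
      have hc := Subgroup.mem_center_iff.mp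
        (Subgroup.inv_mem _ (Subgroup.pow_mem _ h.1 (b % d.B)))
        (dec ds zs (a / d.B) * (dec ds zs (b / d.B))⁻¹)
      have : z ^ (a % d.B) * dec ds zs (a / d.B) * (z ^ (b % d.B) * dec ds zs (b / d.B))⁻¹ =
          (z ^ (a % d.B) * (z ^ (b % d.B))⁻¹) * (dec ds zs (a / d.B) * (dec ds zs (b / d.B))⁻¹) := by
        rw [mul_inv_rev, mul_assoc, ← mul_assoc (dec ds zs (a / d.B)), hc]
        simp only [mul_assoc]
      rw [this]
      exact C.mul_mem h3 h4

end dec

end Cfsg.Agent.L0
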