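import Cfsg.Agent.L0.TrivMult

/-! A triple cover of the derived subgroup from an extension in which the generators invert. -/

set_option autoImplicit false

namespace Cfsg.Agent.L0

open scoped commutatorElement

universe u

/-- the derived subgroup is abelian -/
def Metab (Q : Type u) [Group Q] : Prop := ∀ u ∈ commutator Q, ∀ v ∈ commutator Q, u * v = v * u

theorem of_eq_of_braid {Q : Type u} [Group Q] {a b : Q} (ha : a * a = 1) (hb : b * b = 1)
    (hab : (a * b) ^ 3 = 1) : Abelianization.of a = Abelianization.of b := by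
  have h1 := congrArg Abelianization.of ha
  have h2 := congrArg Abelianization.of hb
  have h3 := congrArg Abelianization.of hab
  simp only [map_mul, map_pow, map_one] at h1 h2 h3
  rw [mul_pow, pow_succ, pow_succ _ 2, pow_two, pow_two, h1, h2, one_mul, one_mul] at h3
  rw [eq_inv_of_mul_eq_one_left h3, ← eq_inv_of_mul_eq_one_left h2]

theorem eq_of_metab {Q : Type u} [Group Q] (hQ : Metab Q) {a b t : Q} (ha : a * a = 1)
    (hb : b * b = 1) (ht : t * t = 1) (hab : (a * b) ^ 3 = 1) (hat : Commute a t)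
    (htb : Commute t b) (h1 : Abelianization.of a = Abelianization.of t)
    (h2 : Abelianization.of b = Abelianization.of t) : a = b := by
  have m1 : a * t ∈ commutator Q := by
    rw [← Abelianization.ker_of, MonoidHom.mem_ker, map_mul, h1, ← map_mul, ht, map_one]
  have m2 : t * b ∈ commutator Q := by
    rw [← Abelianization.ker_of, MonoidHom.mem_ker, map_mul, h2, ← map_mul, ht, map_one]
  have c : Commute (a * t) (t * b) := hQ _ m1 _ m2
  have e : a * b = (a * t) * (t * b) := by rw [mul_assoc, ← mul_assoc t, ht, one_mul]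
  have s : (a * b) ^ 2 = 1 := by
    rw [e, c.mul_pow, hat.mul_pow, htb.mul_pow, pow_two, pow_two, pow_two, ha, hb, ht]; simp
  rw [pow_succ, s, one_mul] at hab
  rw [eq_inv_of_mul_eq_one_left hab, ← eq_inv_of_mul_eq_one_left hb]

theorem Rep.lower_inv {G : Type u} [Group G] [Finite G] {x : ℕ → G} {k : ℕ} {R : List (List ℕ)}
    {val : ℕ → ZMod 3} (h : Rep k R (ZMod 3) 2 val) (hP : IsPres x k R) (hk : 0 < k) {j : ℕ}
    (hj : j < R.length) (hv : val j = 1) {R1 : List (List ℕ)}
    (h1 : (R1.all fun r => (List.range R.length).any fun j => R.getD j [] == r && val j == 0) = true)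
    (hm : ∀ (Q : Type u) [Group Q] (q : ℕ → Q), Metab Q → (∀ r ∈ R1, ev q r = 1) →
      ∀ i < k, ∀ i' < k, Commute (q i) (q i')) :
    LowerMult (commutator G) (Multiplicative (ZMod 3)) := by
  obtain ⟨Ω, _, _, π, y, ζ, z1, z2, z3, z4, z5, z6⟩ := h.ext hP (by decide)
  let H := genL y (List.range k)
  have hmem : ∀ j < R.length, R.getD j [] ∈ R := fun j hj => by
    rw [List.getD_eq_getElem _ _ hj]; exact List.getElem_mem hj
  have hmap : H.map π = ⊤ := by
    rw [eq_top_iff, ← hP.gen_top]
    exact genL_le fun i hi => ⟨y i, mem_genL y hi, z2 i (List.mem_range.mp hi)⟩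
  have hD : (⁅H, H⁆ : Subgroup Ω).map π = commutator G := by
    rw [Subgroup.map_commutator, hmap, commutator_def]
  have hle : (⁅H, H⁆ : Subgroup Ω) ≤ H := Subgroup.commutator_le.mpr
    fun g hg h hh => H.mul_mem (H.mul_mem (H.mul_mem hg hh) (H.inv_mem hg)) (H.inv_mem hh)
  have hact : ∀ g ∈ H, (∀ a, g * ζ a * g⁻¹ = ζ a) ∨ ∀ a, g * ζ a * g⁻¹ = (ζ a)⁻¹ := by
    intro g hg
    induction hg using Subgroup.closure_induction with
    | mem g hg =>
      obtain ⟨i, hi, rfl⟩ := hg
      refine Or.inr fun a => ?_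
      have := z5 i (List.mem_range.mp hi) (-a.toAdd)
      rw [show (2 : ℕ) • (-a.toAdd) = a.toAdd by generalize a.toAdd = b; revert b; decide] at this
      rw [mul_inv_eq_iff_eq_mul, ← map_inv]
      exact this.symm
    | one => exact Or.inl (by simp)
    | mul a b _ _ iha ihb =>
      have e : ∀ c, a * b * c * (a * b)⁻¹ = a * (b * c * b⁻¹) * a⁻¹ := fun c => by group
      rcases iha with ha | ha <;> rcases ihb with hb | hb
      · exact Or.inl fun c => by rw [e, hb, ha]
      · exact Or.inr fun c => by rw [e, hb, ← map_inv, ha]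
      · exact Or.inr fun c => by rw [e, hb, ha]
      · exact Or.inl fun c => by rw [e, hb, ← map_inv, ha, map_inv, inv_inv]
    | inv a _ iha =>
      rcases iha with ha | ha
      · exact Or.inl fun c => by conv_lhs => rw [← ha c]
                                 group
      · exact Or.inr fun c => by
          have := ha c⁻¹
          rw [map_inv, inv_inv] at this
          conv_lhs => rw [← this]
          group
  have hζH : ∀ a, ζ a ∈ H := by
    have hB : Subgroup.toAddSubgroup' (H.comap ζ) = ⊤ := top_of_one (by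
      change ζ (Multiplicative.ofAdd 1) ∈ H
      rw [← hv, ← z6 j hj]
      exact ev_mem _ _ fun i hi =>
        mem_genL y (List.mem_range.mpr (lettersLt_iff.mp hP.lt _ (hmem j hj) i hi)))
    intro a
    exact (hB ▸ AddSubgroup.mem_top a.toAdd : a.toAdd ∈ Subgroup.toAddSubgroup' (H.comap ζ))
  have hζD : ∀ a, ζ a ∈ (⁅H, H⁆ : Subgroup Ω) := by
    intro a
    have m := Subgroup.commutator_mem_commutator (hζH a⁻¹) (mem_genL y (List.mem_range.mpr hk))
    have e := z5 0 hk (-a.toAdd)
    rw [show (2 : ℕ) • (-a.toAdd) = a.toAdd by generalize a.toAdd = b; revert b; decide] at e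
    have e' : y 0 * ζ a * (y 0)⁻¹ = ζ a⁻¹ := by rw [mul_inv_eq_iff_eq_mul]; exact e.symm
    have e2 : ⁅ζ a⁻¹, y 0⁆ = ζ a := by
      rw [commutatorElement_def, ← map_inv, inv_inv, mul_assoc, mul_assoc, ← mul_assoc (y 0), e',
        ← map_mul]
      exact congrArg ζ ((by decide : ∀ a : Multiplicative (ZMod 3), a⁻¹ * a⁻¹ = a) a)
    rwa [e2] at m
  have hperf : (⁅H, H⁆ : Subgroup Ω) ≤ ⁅(⁅H, H⁆ : Subgroup Ω), ⁅H, H⁆⁆ := by
    let N : Subgroup H := ⁅commutator H, commutator H⁆
    have hQ : Metab (H ⧸ N) := by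
      intro u hu v hv
      have e : commutator (H ⧸ N) = (commutator H).map (QuotientGroup.mk' N) := by
        rw [map_commutator_eq, MonoidHom.range_eq_top.mpr (QuotientGroup.mk'_surjective N)]
        rfl
      rw [e] at hu hv
      obtain ⟨a, ha, rfl⟩ := hu
      obtain ⟨b, hb, rfl⟩ := hv
      rw [← commutatorElement_eq_one_iff_mul_comm, ← map_commutatorElement, QuotientGroup.mk'_apply,
        QuotientGroup.eq_one_iff]
      exact Subgroup.commutator_mem_commutator ha hb
    have hc := hm (H ⧸ N) (fun i => QuotientGroup.mk' N (genLet y k i)) hQ fun r hr => by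
      have := List.all_eq_true.mp h1 r hr
      simp only [List.any_eq_true, List.mem_range, Bool.and_eq_true, beq_iff_eq] at this
      obtain ⟨j, hj, rfl, h0⟩ := this
      rw [← map_ev, show ev (genLet y k) (R.getD j []) = 1 from Subtype.ext (by
        rw [genLet_ev y (lettersLt_iff.mp hP.lt _ (hmem j hj)), z6 j hj, h0]; simp), map_one]
    have hc1 : ∀ i < k, ∀ g, Commute (QuotientGroup.mk' N (genLet y k i)) (QuotientGroup.mk' N g) := by
      intro i hi g
      have : (Subgroup.centralizer {QuotientGroup.mk' N (genLet y k i)}).comap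
          (QuotientGroup.mk' N) = ⊤ := genLet_top fun i' hi' =>
        Subgroup.mem_centralizer_singleton_iff.mpr (hc i' hi' i hi)
      have h2 : g ∈ (Subgroup.centralizer {QuotientGroup.mk' N (genLet y k i)}).comap
          (QuotientGroup.mk' N) := this ▸ Subgroup.mem_top g
      exact (Subgroup.mem_centralizer_singleton_iff.mp h2).symm
    have hc2 : ∀ g g', Commute (QuotientGroup.mk' N g) (QuotientGroup.mk' N g') := by
      intro g g'
      have : (Subgroup.centralizer {QuotientGroup.mk' N g'}).comap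
          (QuotientGroup.mk' N) = ⊤ := genLet_top fun i hi =>
        Subgroup.mem_centralizer_singleton_iff.mpr (hc1 i hi g')
      have h2 : g ∈ (Subgroup.centralizer {QuotientGroup.mk' N g'}).comap
          (QuotientGroup.mk' N) := this ▸ Subgroup.mem_top g
      exact Subgroup.mem_centralizer_singleton_iff.mp h2
    have hN : commutator H ≤ N := by
      rw [commutator_def, Subgroup.commutator_le]
      intro a _ b _
      rw [← QuotientGroup.eq_one_iff, ← QuotientGroup.mk'_apply, map_commutatorElement,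
        commutatorElement_eq_one_iff_mul_comm]
      exact hc2 a b
    rw [← Subgroup.map_subtype_commutator, ← Subgroup.map_commutator]
    exact Subgroup.map_mono hN
  refine lowerMult_of_sub ⁅H, H⁆ ((π.comp (Subgroup.subtype _)).codRestrict (commutator G)
    fun g => hD ▸ ⟨g.val, g.prop, rfl⟩) ζ z1 ?_ ?_ ?_ fun a => hperf (hζD a)
  · intro g
    obtain ⟨a, ha, e⟩ := hD.ge g.prop
    exact ⟨⟨a, ha⟩, Subtype.ext e⟩
  · intro g
    rw [Subtype.ext_iff]
    exact ⟨z4 g.val (hle g.prop), fun ⟨a, ha⟩ => by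
      change π g.val = 1
      rw [← ha, z3]⟩
  · intro g hg a
    have : (⁅H, H⁆ : Subgroup Ω) ≤ Subgroup.centralizer {ζ a} := by
      rw [Subgroup.commutator_le]
      intro u hu v hv
      rw [Subgroup.mem_centralizer_singleton_iff, ← mul_inv_eq_iff_eq_mul]
      have e : ⁅u, v⁆ * ζ a * ⁅u, v⁆⁻¹ =
          u * (v * (u⁻¹ * (v⁻¹ * ζ a * v⁻¹⁻¹) * u⁻¹⁻¹) * v⁻¹) * u⁻¹ := by
        rw [commutatorElement_def]; group
      have i1 : ∀ g, (∀ a, g * ζ a * g⁻¹ = ζ a) → ∀ a, g⁻¹ * ζ a * g⁻¹⁻¹ = ζ a := fun g h c => by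
        conv_lhs => rw [← h c]
        group
      have i2 : ∀ g, (∀ a, g * ζ a * g⁻¹ = (ζ a)⁻¹) → ∀ a, g⁻¹ * ζ a * g⁻¹⁻¹ = (ζ a)⁻¹ :=
        fun g h c => by
          have := h c⁻¹
          rw [map_inv, inv_inv] at this
          conv_lhs => rw [← this]
          group
      rw [e]
      rcases hact u hu with ha | ha <;> rcases hact v hv with hb | hb
      · rw [i1 v hb, i1 u ha, hb, ha]
      · rw [i2 v hb, ← map_inv, i1 u ha, hb, map_inv, inv_inv, ha]
      · rw [i1 v hb, i2 u ha, ← map_inv, hb, ha, map_inv, inv_inv]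
      · rw [i2 v hb, ← map_inv, i2 u ha, map_inv, inv_inv, hb, ← map_inv, ha, map_inv, inv_inv]
    exact (Subgroup.mem_centralizer_singleton_iff.mp (this hg)).symm

end Cfsg.Agent.L0
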