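import Cfsg.Agent.L0.DceZ

/-! Linear actions over the field with two elements; vectors are numbers, addition is `xor`. -/

set_option autoImplicit false

namespace Cfsg.Agent.L0

universe u

/-- row vector times matrix -/
noncomputable def vm (M : List ℕ) : ℕ → ℕ :=
  List.rec (motive := fun _ => ℕ → ℕ) (fun _ => 0)
    (fun r _ ih u => Nat.rec (motive := fun _ => ℕ) 0 (fun v _ =>
      Bool.rec (motive := fun _ => ℕ) (Nat.xor r (ih v)) (ih v) (Nat.beq (Nat.land u 1) 0))
      (Nat.succ (Nat.shiftRight u 1))) M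

theorem vm_nil (u : ℕ) : vm [] u = 0 := rfl

theorem vm_cons (r : ℕ) (M : List ℕ) (u : ℕ) :
    vm (r :: M) u = (if u.testBit 0 then r else 0) ^^^ vm M (u >>> 1) := by
  have e : vm (r :: M) u = Bool.rec (motive := fun _ => ℕ) (r ^^^ vm M (u >>> 1)) (vm M (u >>> 1))
    (Nat.beq (u &&& 1) 0) := rfl
  rw [e, Nat.and_one_is_mod, Nat.testBit_zero]
  rcases Nat.mod_two_eq_zero_or_one u with h | h <;> rw [h] <;> simp [Nat.beq]

theorem vm_xor (M : List ℕ) : ∀ a b, vm M (a ^^^ b) = vm M a ^^^ vm M b := by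
  induction M with
  | nil => intro a b; simp [vm_nil]
  | cons r M ih =>
    intro a b
    rw [vm_cons, vm_cons, vm_cons, Nat.shiftRight_xor_distrib, ih, Nat.testBit_xor]
    cases a.testBit 0 <;> cases b.testBit 0 <;> simp [Nat.xor_assoc, Nat.xor_left_comm]

theorem vm_lt {M : List ℕ} {n : ℕ} (h : ∀ r ∈ M, r < 2 ^ n) : ∀ u, vm M u < 2 ^ n := by
  induction M with
  | nil => intro u; exact Nat.two_pow_pos n
  | cons r M ih =>
    intro u
    rw [vm_cons]
    refine Nat.xor_lt_two_pow ?_ (ih (fun s hs => h s (by simp [hs])) _)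
    split_ifs
    exacts [h r (by simp), Nat.two_pow_pos n]

/-- the powers of two span -/
theorem xor_ind {P : ℕ → Prop} {n : ℕ} (h0 : P 0) (hb : ∀ i < n, P (2 ^ i))
    (hx : ∀ a < 2 ^ n, ∀ b < 2 ^ n, P a → P b → P (a ^^^ b)) : ∀ c < 2 ^ n, P c := by
  have key : ∀ k ≤ n, ∀ c < 2 ^ k, P c := by
    intro k
    induction k with
    | zero => intro _ c hc; rwa [show c = 0 by simpa using hc]
    | succ k ih =>
      intro hk c hc
      by_cases h1 : c < 2 ^ k
      · exact ih (by omega) c h1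
      · have h2 : c ^^^ 2 ^ k < 2 ^ k := by
          refine Nat.lt_pow_two_of_testBit _ fun i hi => ?_
          rw [Nat.testBit_xor, Nat.testBit_two_pow]
          rcases Nat.eq_or_lt_of_le hi with rfl | h3
          · simp [Nat.testBit_of_two_pow_le_and_two_pow_add_one_gt (not_lt.mp h1) hc]
          · simp [h3.ne, Nat.testBit_lt_two_pow (hc.trans_le (Nat.pow_le_pow_right (by norm_num) h3))]
        have h4 : 2 ^ k < 2 ^ n := Nat.pow_lt_pow_right (by norm_num) hk
        have := hx _ (h2.trans h4) _ h4 (ih (by omega) _ h2) (hb k hk)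
        rwa [Nat.xor_xor_cancel_right] at this
  exact key n le_rfl

/-- the table of a list of matrices -/
noncomputable def lT (M : List (List ℕ)) (c i : ℕ) : ℕ := vm (nthW M i) c

theorem tr_lT_xor (M : List (List ℕ)) (w : List ℕ) :
    ∀ a b, tr (lT M) w (a ^^^ b) = tr (lT M) w a ^^^ tr (lT M) w b := by
  induction w with
  | nil => intro a b; rfl
  | cons i w ih => intro a b; rw [tr_cons, tr_cons, tr_cons, lT, vm_xor, ih]; rfl

/-- the word fixes the basis vector `i` -/
noncomputable def fixE (M : List (List ℕ)) (r : List ℕ) (i : ℕ) : Bool :=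
  Nat.rec (motive := fun _ => Bool) false (fun c _ => Nat.beq (tr (lT M) r c) c)
    (Nat.succ (Nat.pow 2 i))

theorem exists_perm_lin {M : List (List ℕ)} {n k : ℕ} {R : List (List ℕ)}
    (hs : (lettersB k R && startsB k R && allL M fun A => allL A fun r => Nat.blt r (2 ^ n)) = true)
    (hR : ∀ r ∈ R, allL (List.range n) (fixE M r) = true) :
    ∃ π : ℕ → Equiv.Perm (Fin (2 ^ n)), (RAct.ofHom (MonoidHom.id _)).Tab π k (lT M) ∧
      ∀ r ∈ R, ev π r = 1 := by
  simp only [Bool.and_eq_true] at hs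
  have h1 : ∀ c < 2 ^ n, ∀ r ∈ R, tr (lT M) r c = c := fun c hc r hr => by
    refine xor_ind (P := fun c => tr (lT M) r c = c) ?_ (fun i hi => Nat.eq_of_beq_eq_true
      ((allL_iff _ _).mp (hR r hr) i (List.mem_range.mpr hi))) (fun a _ b _ ha hb => ?_) c hc
    · simpa using tr_lT_xor M r 0 0
    · rw [tr_lT_xor, ha, hb]
  obtain ⟨π, hπ⟩ := exists_perm_tab (T := lT M) (N := 2 ^ n) hs.1.2 (fun i _ c _ => vm_lt (fun r hr => by
    rcases nthW_mem M i with h | h
    · rw [h] at hr; simp at hr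
    · simpa [Nat.blt_eq] using (allL_iff _ _).mp ((allL_iff _ _).mp hs.2 _ h) r hr) c) h1
  exact ⟨π, hπ, fun r hr => RAct.ofHom_eq_one (MonoidHom.id _) (x := ev π r) fun c hc => by
    rw [hπ.act_ev (lettersB_spec hs.1.1 r hr) hc]; exact h1 c hc r hr⟩

theorem IsPres.exists_lin {G : Type} [Group G] {x : ℕ → G} {M : List (List ℕ)} {n k : ℕ}
    {R : List (List ℕ)} (h : IsPres x k R)
    (hs : (lettersB k R && startsB k R && allL M fun A => allL A fun r => Nat.blt r (2 ^ n)) = true)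
    (hR : ∀ r ∈ R, allL (List.range n) (fixE M r) = true) :
    ∃ A : RAct G (2 ^ n), A.Tab x k (lT M) := by
  obtain ⟨π, hπ, hr⟩ := exists_perm_lin hs hR
  obtain ⟨f, hf⟩ := h.exists_hom π hr
  refine ⟨(RAct.ofHom (MonoidHom.id _)).comap f, fun i hi c hc => ?_⟩
  change (RAct.ofHom (MonoidHom.id _)).act c (f (x i)) = _
  rw [hf i hi]; exact hπ i hi c hc

theorem PG.exists_lin {M : List (List ℕ)} {n k : ℕ} {R : List (List ℕ)}
    (hs : (lettersB k R && startsB k R && allL M fun A => allL A fun r => Nat.blt r (2 ^ n)) = true)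
    (hR : ∀ r ∈ R, allL (List.range n) (fixE M r) = true) :
    ∃ A : RAct (PG k R) (2 ^ n), A.Tab (PG.gen k R) k (lT M) := by
  obtain ⟨π, hπ, hr⟩ := exists_perm_lin hs hR
  simp only [Bool.and_eq_true] at hs
  refine ⟨(RAct.ofHom (MonoidHom.id _)).comap (PG.lift π (lettersLt_of_B hs.1.1) hr), fun i hi c hc => ?_⟩
  change (RAct.ofHom (MonoidHom.id _)).act c (PG.lift π _ hr (PG.gen k R i)) = _
  rw [PG.lift_gen_apply _ _ _ hi]; exact hπ i hi c hc

/-- an action of a presented group with a linear table is linear -/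
theorem PG.act_xor {M : List (List ℕ)} {n k : ℕ} {R : List (List ℕ)} {A : RAct (PG k R) (2 ^ n)}
    (h : A.Tab (PG.gen k R) k (lT M)) (x : PG k R) {a b : ℕ} (ha : a < 2 ^ n) (hb : b < 2 ^ n) :
    A.act (a ^^^ b) x = A.act a x ^^^ A.act b x := by
  let S : Subgroup (PG k R) :=
    { carrier := {x | ∀ a < 2 ^ n, ∀ b < 2 ^ n, A.act (a ^^^ b) x = A.act a x ^^^ A.act b x}
      one_mem' := fun a ha b hb => by rw [A.one ha, A.one hb, A.one (Nat.xor_lt_two_pow ha hb)]
      mul_mem' := fun {x y} hx hy a ha b hb => by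
        rw [A.mul _ _ ha, A.mul _ _ hb, A.mul _ _ (Nat.xor_lt_two_pow ha hb), hx a ha b hb,
          hy _ (A.lt _ ha) _ (A.lt _ hb)]
      inv_mem' := fun {x} hx a ha b hb => by
        refine A.act_inv_eq (Nat.xor_lt_two_pow (A.lt _ ha) (A.lt _ hb)) ?_
        rw [hx _ (A.lt _ ha) _ (A.lt _ hb), A.inv_act _ ha, A.inv_act _ hb] }
  have : S = ⊤ := PG.eq_top_of_gen_mem S fun y hy a ha b hb => by
    rw [h y hy _ ha, h y hy _ hb, h y hy _ (Nat.xor_lt_two_pow ha hb), lT, vm_xor]; rfl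
  exact (this ▸ Subgroup.mem_top x : x ∈ S) a ha b hb

end Cfsg.Agent.L0
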