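import Cfsg.Agent.L0.PcLab
import Cfsg.Agent.L0.Schur

/-! A labelled collector for power-conjugate presentations in a central extension. -/

set_option autoImplicit false
set_option linter.style.haveILetI false
set_option linter.unusedVariables false

namespace Cfsg.Agent.L0

universe u

/-- index of the top digit of `b` bits -/
def topD (b v : ℕ) : ℕ := Nat.div (Nat.log2 v) b

/-- `2 ^ (b * i)` -/
def pw (b i : ℕ) : ℕ := Nat.shiftLeft 1 (Nat.mul b i)

theorem pw_eq (b i : ℕ) : pw b i = 2 ^ (b * i) := by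
  change 1 <<< (b * i) = _
  rw [Nat.shiftLeft_eq, one_mul]

theorem pw_pos (b i : ℕ) : 0 < pw b i := by rw [pw_eq]; positivity

theorem pw_top_le {b v : ℕ} (hv : v ≠ 0) : pw b (topD b v) ≤ v := by
  rw [pw_eq]
  exact (Nat.pow_le_pow_right (by norm_num) (Nat.mul_div_le _ _)).trans (Nat.log2_self_le hv)

theorem topD_eq {b v i : ℕ} (hb : 0 < b) (h1 : pw b i ≤ v) (h2 : v < pw b (i + 1)) :
    topD b v = i := by
  have hv : v ≠ 0 := by have := pw_pos b i; omega
  rw [pw_eq] at h1 h2
  have a1 := (Nat.le_log2 hv).mpr h1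
  have a2 := (Nat.log2_lt hv).mpr h2
  change Nat.log2 v / b = i
  refine Nat.div_eq_of_lt_le (by rwa [mul_comm]) (by rwa [mul_comm])

theorem topD_lt {b v n : ℕ} (hb : 0 < b) (hv : v ≠ 0) (h2 : v < pw b n) : topD b v < n := by
  rw [pw_eq] at h2
  have a2 := (Nat.log2_lt hv).mpr h2
  change Nat.log2 v / b < n
  exact (Nat.div_lt_iff_lt_mul hb).mpr (by rwa [mul_comm] at a2)

theorem le_topD {b v i : ℕ} (hb : 0 < b) (h1 : pw b i ≤ v) : i ≤ topD b v := by
  have hv : v ≠ 0 := by have := pw_pos b i; omega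
  rw [pw_eq] at h1
  have a1 := (Nat.le_log2 hv).mpr h1
  change i ≤ Nat.log2 v / b
  exact (Nat.le_div_iff_mul_le hb).mpr (by rwa [mul_comm] at a1)

/-- value of an exponent vector, the top digit being the last letter -/
noncomputable def valV {Γ : Type u} [Monoid Γ] (x : ℕ → Γ) (b : ℕ) (v : ℕ) : Γ :=
  if h : v = 0 then 1 else valV x b (v - pw b (topD b v)) * x (topD b v)
termination_by v
decreasing_by have := pw_pos b (topD b v); omega

theorem valV_zero {Γ : Type u} [Monoid Γ] (x : ℕ → Γ) (b : ℕ) : valV x b 0 = 1 := by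
  rw [valV]; simp

theorem valV_pos {Γ : Type u} [Monoid Γ] (x : ℕ → Γ) (b : ℕ) {v : ℕ} (hv : v ≠ 0) :
    valV x b v = valV x b (v - pw b (topD b v)) * x (topD b v) := by
  rw [valV, dif_neg hv]

theorem valV_peel {Γ : Type u} [Monoid Γ] (x : ℕ → Γ) {b i : ℕ} (hb : 0 < b) (e : ℕ) :
    ∀ {v : ℕ}, e * pw b i ≤ v → v < pw b (i + 1) → valV x b v = valV x b (v - e * pw b i) * x i ^ e := by
  induction e with
  | zero => intro v _ _; simp
  | succ e ih =>
    intro v h1 h2
    rw [Nat.succ_mul] at h1
    have hp := pw_pos b i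
    have ht := topD_eq hb (by omega : pw b i ≤ v) h2
    rw [valV_pos x b (by omega), ht, ih (by omega) (by omega), pow_succ, mul_assoc, Nat.succ_mul,
      Nat.sub_sub, add_comm]

/-- letters of a reversed exponent vector (top digit first, digit `t` is letter `n1 - t`) -/
noncomputable def rwdF (b n1 f : ℕ) : ℕ → List ℕ :=
  Nat.rec (motive := fun _ => ℕ → List ℕ) (fun _ => [])
    (fun _ ih v => Bool.rec (motive := fun _ => List ℕ)
      (Nat.rec (motive := fun _ => List ℕ) [] (fun t _ =>
        Nat.rec (motive := fun _ => List ℕ) [] (fun i _ =>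
          Nat.rec (motive := fun _ => List ℕ) [] (fun v' _ => i :: ih v')
            (Nat.succ (Nat.sub v (pw b t)))) (Nat.succ (Nat.sub n1 t))) (Nat.succ (topD b v)))
      [] (Nat.beq v 0)) f

/-- letters of a reversed exponent vector -/
noncomputable def rwd (b n1 v : ℕ) : List ℕ := rwdF b n1 v v

theorem rwdF_succ (b n1 f v : ℕ) : rwdF b n1 (f + 1) v =
    if v = 0 then [] else (n1 - topD b v) :: rwdF b n1 f (v - pw b (topD b v)) := by
  have e : rwdF b n1 (f + 1) v = Bool.rec (motive := fun _ => List ℕ)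
    ((n1 - topD b v) :: rwdF b n1 f (v - pw b (topD b v))) [] (Nat.beq v 0) := rfl
  rw [e]
  cases v with
  | zero => rfl
  | succ v => rfl

theorem rwdF_fuel (b n1 : ℕ) : ∀ f f' v, v ≤ f → v ≤ f' → rwdF b n1 f v = rwdF b n1 f' v := by
  intro f
  induction f with
  | zero =>
    intro f' v h _
    obtain rfl : v = 0 := by omega
    cases f' with
    | zero => rfl
    | succ f' => rw [rwdF_succ, if_pos rfl]; rfl
  | succ f ih =>
    intro f' v h h'
    cases f' with
    | zero =>
      obtain rfl : v = 0 := by omega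
      rw [rwdF_succ, if_pos rfl]; rfl
    | succ f' =>
      rw [rwdF_succ, rwdF_succ]
      split_ifs with hv
      · rfl
      · have := pw_pos b (topD b v)
        rw [ih f' _ (by omega) (by omega)]

theorem rwd_zero (b n1 : ℕ) : rwd b n1 0 = [] := rfl

theorem rwd_pos (b n1 : ℕ) {v : ℕ} (hv : v ≠ 0) :
    rwd b n1 v = (n1 - topD b v) :: rwd b n1 (v - pw b (topD b v)) := by
  obtain ⟨v, rfl⟩ : ∃ u, v = u + 1 := Nat.exists_eq_succ_of_ne_zero hv
  have := pw_pos b (topD b (v + 1))
  rw [rwd, rwdF_succ, if_neg hv, rwd, rwdF_fuel b n1 v _ _ (by omega) le_rfl]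

theorem rwd_letters {b n1 i : ℕ} (hb : 0 < b) : ∀ v, v < pw b (n1 - i) →
    ∀ y ∈ rwd b n1 v, i < y ∧ y ≤ n1 := by
  intro v
  induction v using Nat.strong_induction_on with
  | _ v ih =>
    intro hv y hy
    by_cases h0 : v = 0
    · rw [h0, rwd_zero] at hy; simp at hy
    · rw [rwd_pos b n1 h0] at hy
      have := pw_pos b (topD b v)
      rcases List.mem_cons.mp hy with rfl | hy
      · have := topD_lt hb h0 hv; omega
      · exact ih _ (by omega) (by omega) y hy

theorem rwd_pw {b n1 i : ℕ} (hb : 0 < b) (hi : i ≤ n1) : rwd b n1 (pw b (n1 - i)) = [i] := by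
  have hp := pw_pos b (n1 - i)
  have ht : topD b (pw b (n1 - i)) = n1 - i := topD_eq hb le_rfl (by
    rw [pw_eq, pw_eq]; exact Nat.pow_lt_pow_right (by norm_num) (by nlinarith))
  rw [rwd_pos b n1 hp.ne', ht, Nat.sub_self, rwd_zero]
  congr 1; omega

/-- value of a reversed exponent vector -/
noncomputable def rval {Γ : Type u} [Monoid Γ] (x : ℕ → Γ) (b n1 v : ℕ) : Γ := ev x (rwd b n1 v)

/-- triangular index of the pair `i ≤ j` -/
def tri (i j : ℕ) : ℕ := Nat.add (Nat.shiftRight (Nat.mul j (Nat.succ j)) 1) i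

theorem tri_succ (j : ℕ) : tri 0 (j + 1) = tri 0 j + (j + 1) := by
  change (j + 1) * (j + 1 + 1) / 2 ^ 1 + 0 = j * (j + 1) / 2 ^ 1 + 0 + (j + 1)
  have : (j + 1) * (j + 1 + 1) = j * (j + 1) + (j + 1) * 2 := by ring
  rw [this, pow_one, Nat.add_mul_div_right _ _ (by norm_num)]; simp

theorem tri_eq (i j : ℕ) : tri i j = tri 0 j + i := rfl

theorem tri_lt {i j n : ℕ} (hi : i ≤ j) (hj : j < n) : tri i j < tri 0 n := by
  induction n with
  | zero => omega
  | succ n ih =>
    rw [tri_succ]
    rcases Nat.lt_succ_iff_lt_or_eq.mp hj with h | h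
    · have := ih h; omega
    · subst h; rw [tri_eq]; omega

theorem tri_inj {i j i' j' : ℕ} (hi : i ≤ j) (hi' : i' ≤ j') (h : tri i j = tri i' j') :
    i = i' ∧ j = j' := by
  have : j = j' := by
    rcases lt_trichotomy j j' with h1 | h1 | h1
    · have := tri_lt hi h1; rw [tri_eq i' j'] at h; omega
    · exact h1
    · have := tri_lt hi' h1; rw [tri_eq i j] at h; omega
  subst this
  rw [tri_eq i, tri_eq i'] at h
  exact ⟨by omega, rfl⟩

/-- collector state: collected part, stack of reversed vectors, label -/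
structure St where
  v : ℕ
  st : List ℕ
  L : ℕ

/-- parameters of a power-conjugate presentation with labels -/
structure PcP where
  p : ℕ
  b : ℕ
  n1 : ℕ
  W : ℕ
  nb : ℕ
  wm : ℕ
  s : ℕ
  msk : ℕ
  m : ℕ
  nU : ℕ
  F : ℕ
  d : ℕ

/-- right side number `r` -/
def rhs (W nb wm r : ℕ) : ℕ := Nat.land (Nat.shiftRight W (Nat.mul nb r)) wm

/-- insert letter `i` (`bi = b * i`); `S0` is returned on failure -/
noncomputable def insL (p b W nb wm s i bi : ℕ) (S0 : St) (f : ℕ) : ℕ → List ℕ → ℕ → St :=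
  Nat.rec (motive := fun _ => ℕ → List ℕ → ℕ → St) (fun _ _ _ => S0)
    (fun _ ih v st L =>
      Nat.rec (motive := fun _ => St) S0 (fun q _ =>
        Bool.rec (motive := fun _ => St)
          (Nat.rec (motive := fun _ => St) S0 (fun j _ =>
            Nat.rec (motive := fun _ => St) S0 (fun r _ =>
              Nat.rec (motive := fun _ => St) S0 (fun v' _ =>
                Nat.rec (motive := fun _ => St) S0 (fun w _ =>
                  Nat.rec (motive := fun _ => St) S0 (fun L' _ => ih v' (w :: st) L')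
                    (Nat.succ (Nat.add L (unitV s r))))
                  (Nat.succ (rhs W nb wm r)))
                (Nat.succ (Nat.sub v (pw b j))))
              (Nat.succ (tri i j)))
            (Nat.succ (topD b v)))
          (Bool.rec (motive := fun _ => St)
            (Nat.rec (motive := fun _ => St) S0 (fun v' _ => ⟨v', st, L⟩)
              (Nat.succ (Nat.add v (Nat.shiftLeft 1 bi))))
            (Bool.rec (motive := fun _ => St) S0
              (Nat.rec (motive := fun _ => St) S0 (fun r _ =>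
                Nat.rec (motive := fun _ => St) S0 (fun v' _ =>
                  Nat.rec (motive := fun _ => St) S0 (fun w _ =>
                    Nat.rec (motive := fun _ => St) S0 (fun L' _ => ⟨v', w :: st, L'⟩)
                      (Nat.succ (Nat.add L (unitV s r))))
                    (Nat.succ (rhs W nb wm r)))
                  (Nat.succ (Nat.sub v (Nat.shiftLeft q bi))))
                (Nat.succ (tri i i)))
              (Nat.beq p (Nat.succ q)))
            (Nat.ble p (Nat.succ q)))
          (Nat.beq (Nat.shiftRight q b) 0))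
        (Nat.succ (Nat.shiftRight v bi))) f

/-- one step: pop a letter and insert it -/
noncomputable def stepC (p b n1 W nb wm s F : ℕ) (S : St) : St :=
  St.rec (motive := fun _ => St) (fun v st L =>
    List.rec (motive := fun _ => St) ⟨v, [], L⟩ (fun w rest _ =>
      Bool.rec (motive := fun _ => St)
        (Nat.rec (motive := fun _ => St) ⟨v, w :: rest, L⟩ (fun t _ =>
          Nat.rec (motive := fun _ => St) ⟨v, w :: rest, L⟩ (fun i _ =>
            Nat.rec (motive := fun _ => St) ⟨v, w :: rest, L⟩ (fun bi _ =>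
              Nat.rec (motive := fun _ => St)
                (insL p b W nb wm s i bi ⟨v, w :: rest, L⟩ F v rest L)
                (fun w' _ => insL p b W nb wm s i bi ⟨v, w :: rest, L⟩ F v (Nat.succ w' :: rest) L)
                (Nat.sub w (pw b t)))
              (Nat.succ (Nat.mul b i)))
            (Nat.succ (Nat.sub n1 t)))
          (Nat.succ (topD b w)))
        ⟨v, rest, L⟩ (Nat.beq w 0)) st) S

/-- up to `2 ^ d` steps, stopping at the empty stack -/
noncomputable def runC (step : St → St) (d : ℕ) : St → St :=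
  Nat.rec (motive := fun _ => St → St) step
    (fun _ ih S => St.rec (motive := fun _ => St) (fun v st L =>
      List.rec (motive := fun _ => St) ⟨v, [], L⟩ (fun a t _ => ih ⟨v, a :: t, L⟩) st) (ih S)) d

theorem runC_inv {step : St → St} {Inv : ℕ → St → Prop} {c K : ℕ}
    (hmono : ∀ k k' S, k ≤ k' → Inv k S → Inv k' S)
    (hstep : ∀ k S, k + c < K → Inv k S → Inv (k + c) (step S)) (d : ℕ) :
    ∀ k S, k + c * 2 ^ d < K → Inv k S → Inv (k + c * 2 ^ d) (runC step d S) := by
  induction d with
  | zero =>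
    intro k S hk h
    rw [pow_zero, mul_one] at hk ⊢
    exact hstep k S hk h
  | succ d ih =>
    intro k S hk h
    have e : runC step (d + 1) S = St.rec (motive := fun _ => St) (fun v st L =>
      List.rec (motive := fun _ => St) ⟨v, [], L⟩ (fun a t _ => runC step d ⟨v, a :: t, L⟩) st)
        (runC step d S) := rfl
    have e2 : c * 2 ^ (d + 1) = c * 2 ^ d + c * 2 ^ d := by ring
    rw [e2] at hk ⊢
    have h1 := ih k S (by omega) h
    rw [e]
    generalize runC step d S = S' at h1
    obtain ⟨v, st, L⟩ := S'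
    cases st with
    | nil => exact hmono _ _ _ (by omega) h1
    | cons a t => rw [← add_assoc]; exact ih _ _ (by omega) h1

namespace PcP
variable (P : PcP)

/-- right side of the rule `(i, j)` -/
def R (i j : ℕ) : ℕ := rhs P.W P.nb P.wm (tri i j)

/-- collect a word of reversed vectors, pass vector and label to `k` -/
noncomputable def coll (w : List ℕ) (k : ℕ → ℕ → Bool) : Bool :=
  St.rec (motive := fun _ => Bool) (fun v st L =>
    List.rec (motive := fun _ => Bool) (k v L) (fun _ _ _ => false) st)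
    (runC (stepC P.p P.b P.n1 P.W P.nb P.wm P.s P.F) P.d ⟨0, w, 0⟩)

/-- bound for the labels of a collection -/
def K : ℕ := (P.F + 1) * 2 ^ P.d

variable {Γ : Type u} [Group Γ] {A : Type u} [CommGroup A]

/-- the labelled relations -/
structure Hyp (x : ℕ → Γ) (ι : A →* Γ) (z : ℕ → A) : Prop where
  bpos : 0 < P.b
  spos : 0 < P.s
  ple : P.p ≤ 2 ^ P.b
  nU : tri 0 (P.n1 + 1) ≤ P.nU
  cent : ∀ a, ι a ∈ Subgroup.center Γ
  conj : ∀ i j, i < j → j ≤ P.n1 → x j * x i = x i * rval x P.b P.n1 (P.R i j) * ι (z (tri i j))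
  pow : ∀ i, i ≤ P.n1 → x i ^ P.p = rval x P.b P.n1 (P.R i i) * ι (z (tri i i))

/-- invariant of the collector -/
def Inv (x : ℕ → Γ) (ι : A →* Γ) (z : ℕ → A) (g : Γ) (k : ℕ) (S : St) : Prop :=
  S.v < pw P.b (P.n1 + 1) ∧ BndU P.s k S.L ∧
    valV x P.b S.v * ev (rval x P.b P.n1) S.st * ι (dc z P.s P.nU S.L) = g

variable {P} {x : ℕ → Γ} {ι : A →* Γ} {z : ℕ → A}

theorem Hyp.comm (h : P.Hyp x ι z) (a : A) (g : Γ) : g * ι a = ι a * g :=
  Subgroup.mem_center_iff.mp (h.cent a) g

theorem insL_inv (h : P.Hyp x ι z) {g : Γ} {i : ℕ} (hi : i ≤ P.n1) {S0 : St} {k0 : ℕ}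
    (h0 : P.Inv x ι z g k0 S0) (f : ℕ) : ∀ (v : ℕ) (st : List ℕ) (L k : ℕ), k0 ≤ k →
      k + f < 2 ^ P.s → v < pw P.b (P.n1 + 1) → BndU P.s k L →
      valV x P.b v * x i * ev (rval x P.b P.n1) st * ι (dc z P.s P.nU L) = g →
      P.Inv x ι z g (k + f) (insL P.p P.b P.W P.nb P.wm P.s i (P.b * i) S0 f v st L) := by
  induction f with
  | zero => intro v st L k hk _ _ _ _; exact ⟨h0.1, h0.2.1.mono hk, h0.2.2⟩
  | succ f ih =>
    intro v st L k hk hf hv hb hg
    have e : insL P.p P.b P.W P.nb P.wm P.s i (P.b * i) S0 (f + 1) v st L =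
      Bool.rec (motive := fun _ => St)
        (insL P.p P.b P.W P.nb P.wm P.s i (P.b * i) S0 f (v - pw P.b (topD P.b v))
          (P.R i (topD P.b v) :: st) (L + unitV P.s (tri i (topD P.b v))))
        (Bool.rec (motive := fun _ => St) ⟨v + pw P.b i, st, L⟩
          (Bool.rec (motive := fun _ => St) S0
            ⟨v - (v >>> (P.b * i)) <<< (P.b * i), P.R i i :: st, L + unitV P.s (tri i i)⟩
            (Nat.beq P.p (v >>> (P.b * i) + 1)))
          (Nat.ble P.p (v >>> (P.b * i) + 1)))
        (Nat.beq ((v >>> (P.b * i)) >>> P.b) 0) := rfl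
    rw [e]
    have hq : v >>> (P.b * i) = v / pw P.b i := by rw [pw_eq, Nat.shiftRight_eq_div_pow]
    have hpw : pw P.b (i + 1) = pw P.b i * 2 ^ P.b := by rw [pw_eq, pw_eq, mul_add, pow_add, mul_one]
    have hpp := pw_pos P.b i
    have hle : pw P.b (i + 1) ≤ pw P.b (P.n1 + 1) := by
      rw [pw_eq, pw_eq]
      exact Nat.pow_le_pow_right (by norm_num) (Nat.mul_le_mul_left _ (by omega))
    rw [hq, Nat.shiftRight_eq_div_pow, Nat.div_div_eq_div_mul, ← hpw]
    cases h1 : Nat.beq (v / pw P.b (i + 1)) 0 with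
    | false =>
      have h2 : pw P.b (i + 1) ≤ v := by
        by_contra h3
        rw [Nat.div_eq_of_lt (not_le.mp h3)] at h1; exact absurd h1 (by simp)
      have hv0 : v ≠ 0 := by have := pw_pos P.b (i + 1); omega
      have hj1 := le_topD h.bpos h2
      have hj2 := topD_lt h.bpos hv0 hv
      have hr : tri i (topD P.b v) < P.nU := lt_of_lt_of_le (tri_lt (by omega) hj2) h.nU
      have := ih (v - pw P.b (topD P.b v)) (P.R i (topD P.b v) :: st)
        (L + unitV P.s (tri i (topD P.b v))) (k + 1) (by omega) (by omega) (by omega)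
        (hb.add (bndU_unit h.spos _) (by omega)) (by
          rw [← hg, dc_add z hb (bndU_unit h.spos _) (by omega), dc_unit z h.spos hr,
            valV_pos x P.b hv0, mul_assoc (valV x P.b _) (x (topD P.b v)),
            h.conj i _ (by omega) (by omega), ev_cons, mul_comm (dc z P.s P.nU L), map_mul]
          simp only [mul_assoc]
          rw [← mul_assoc (ev _ st), h.comm (z _) (ev _ st), mul_assoc])
      rwa [show k + 1 + f = k + (f + 1) by omega] at this
    | true =>
      have h2 : v < pw P.b (i + 1) := by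
        have := Nat.eq_of_beq_eq_true h1
        exact (Nat.div_eq_zero_iff_lt (pw_pos _ _)).mp this
      cases h3 : Nat.ble P.p (v / pw P.b i + 1) with
      | false =>
        have h4 : v / pw P.b i + 1 < P.p := by
          by_contra h5
          rw [Nat.ble_eq_true_of_le (not_lt.mp h5)] at h3; exact absurd h3 (by simp)
        have h5 : v + pw P.b i < pw P.b (i + 1) := by
          have a1 := Nat.lt_div_mul_add (a := v) hpp
          have a2 := h.ple
          rw [hpw]
          nlinarith
        refine ⟨lt_of_lt_of_le h5 hle, hb.mono (by omega), ?_⟩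
        change valV x P.b (v + pw P.b i) * _ * _ = g
        rw [valV_pos x P.b (by omega), topD_eq h.bpos (by omega) h5, Nat.add_sub_cancel, hg]
      | true =>
        cases h4 : Nat.beq P.p (v / pw P.b i + 1) with
        | false => exact ⟨h0.1, h0.2.1.mono (by omega), h0.2.2⟩
        | true =>
          have h5 := Nat.eq_of_beq_eq_true h4
          have hr : tri i i < P.nU := lt_of_lt_of_le (tri_lt le_rfl (by omega)) h.nU
          refine ⟨lt_of_le_of_lt (Nat.sub_le _ _) hv,
            (hb.add (bndU_unit h.spos _) (by omega)).mono (by omega), ?_⟩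
          change valV x P.b (v - (v / pw P.b i) <<< (P.b * i)) * ev _ (P.R i i :: st) *
            ι (dc z P.s P.nU (L + unitV P.s (tri i i))) = g
          rw [← hg, Nat.shiftLeft_eq, ← pw_eq, valV_peel x h.bpos (v / pw P.b i)
            (Nat.div_mul_le_self _ _) h2, mul_assoc (valV x P.b _) (x i ^ _), ← pow_succ, ← h5,
            h.pow i hi, dc_add z hb (bndU_unit h.spos _) (by omega), dc_unit z h.spos hr, ev_cons,
            mul_comm (dc z P.s P.nU L), map_mul]
          simp only [mul_assoc]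
          rw [← mul_assoc (ev _ st), h.comm (z _) (ev _ st), mul_assoc]

theorem stepC_inv (h : P.Hyp x ι z) {g : Γ} (k : ℕ) (S : St) (hk : k + (P.F + 1) < 2 ^ P.s)
    (hS : P.Inv x ι z g k S) :
    P.Inv x ι z g (k + (P.F + 1)) (stepC P.p P.b P.n1 P.W P.nb P.wm P.s P.F S) := by
  obtain ⟨v, st, L⟩ := S
  cases st with
  | nil => exact ⟨hS.1, hS.2.1.mono (by omega), hS.2.2⟩
  | cons w rest =>
    have e : stepC P.p P.b P.n1 P.W P.nb P.wm P.s P.F ⟨v, w :: rest, L⟩ =
      Bool.rec (motive := fun _ => St)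
        (Nat.rec (motive := fun _ => St)
          (insL P.p P.b P.W P.nb P.wm P.s (P.n1 - topD P.b w) (P.b * (P.n1 - topD P.b w))
            ⟨v, w :: rest, L⟩ P.F v rest L)
          (fun w' _ => insL P.p P.b P.W P.nb P.wm P.s (P.n1 - topD P.b w)
            (P.b * (P.n1 - topD P.b w)) ⟨v, w :: rest, L⟩ P.F v (Nat.succ w' :: rest) L)
          (w - pw P.b (topD P.b w)))
        ⟨v, rest, L⟩ (Nat.beq w 0) := rfl
    rw [e]
    have hg := hS.2.2
    cases h1 : Nat.beq w 0 with
    | true =>
      refine ⟨hS.1, hS.2.1.mono (by omega), ?_⟩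
      rw [Nat.eq_of_beq_eq_true h1] at hg
      simpa [rval, rwd_zero] using hg
    | false =>
      have hw : w ≠ 0 := Nat.ne_of_beq_eq_false h1
      have hg' : valV x P.b v * x (P.n1 - topD P.b w) *
          ev (rval x P.b P.n1) ((w - pw P.b (topD P.b w)) :: rest) * ι (dc z P.s P.nU L) = g := by
        rw [← hg]
        simp only [ev_cons, rval, rwd_pos P.b P.n1 hw, mul_assoc]
      have mono : ∀ S, P.Inv x ι z g (k + P.F) S → P.Inv x ι z g (k + (P.F + 1)) S :=
        fun S hS => ⟨hS.1, hS.2.1.mono (by omega), hS.2.2⟩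
      cases h2 : w - pw P.b (topD P.b w) with
      | zero =>
        rw [h2] at hg'
        exact mono _ (insL_inv h (Nat.sub_le _ _) hS P.F v rest L k le_rfl (by omega) hS.1 hS.2.1
          (by simpa [rval, rwd_zero] using hg'))
      | succ w' =>
        rw [h2] at hg'
        exact mono _ (insL_inv h (Nat.sub_le _ _) hS P.F v _ L k le_rfl (by omega) hS.1 hS.2.1 hg')

theorem coll_spec (h : P.Hyp x ι z) (hK : P.K < 2 ^ P.s) {w : List ℕ} {k : ℕ → ℕ → Bool}
    (hc : P.coll w k = true) : ∃ v L, BndU P.s P.K L ∧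
      valV x P.b v * ι (dc z P.s P.nU L) = ev (rval x P.b P.n1) w ∧ k v L = true := by
  have h1 := runC_inv (Inv := P.Inv x ι z (ev (rval x P.b P.n1) w)) (c := P.F + 1) (K := 2 ^ P.s)
    (fun k k' S hk hS => ⟨hS.1, hS.2.1.mono hk, hS.2.2⟩) (fun k S hk hS => stepC_inv h k S hk hS)
    P.d 0 ⟨0, w, 0⟩ (by simpa [K] using hK)
    ⟨pw_pos _ _, bndU_zero _ _, by simp [valV_zero, dc_zero]⟩
  unfold coll at hc
  generalize runC _ P.d ⟨0, w, 0⟩ = S at h1 hc
  obtain ⟨v, st, L⟩ := S
  cases st with
  | nil => exact ⟨v, L, by simpa [K] using h1.2.1, by simpa using h1.2.2, hc⟩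
  | cons a t => exact absurd hc (by simp)

end PcP

/-! ### the order bound of a power-conjugate presentation -/

theorem card_sup_zpowers_le {Γ : Type u} [Group Γ] [Finite Γ] (H : Subgroup Γ) {x : Γ} {p : ℕ}
    (hp : 0 < p) (hn : ∀ h ∈ H, x⁻¹ * h * x ∈ H) (hx : x ^ p ∈ H) :
    Nat.card ↥(Subgroup.zpowers x ⊔ H) ≤ p * Nat.card H := by
  have h1 : x⁻¹ ∈ Subgroup.normalizer (H : Set Γ) :=
    Subgroup.mem_normalizer_fintype (by simpa using hn)
  have h2 : Subgroup.zpowers x ≤ Subgroup.normalizer (H : Set Γ) := by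
    rw [Subgroup.zpowers_le]; simpa using Subgroup.inv_mem _ h1
  have h3 := Subgroup.coe_mul_of_left_le_normalizer_right _ _ h2
  let F : Fin p × H → ↥(Subgroup.zpowers x ⊔ H) := fun q =>
    ⟨x ^ q.1.val * q.2.val, mul_mem (Subgroup.mem_sup_left (pow_mem (Subgroup.mem_zpowers x) _))
      (Subgroup.mem_sup_right q.2.prop)⟩
  have hF : Function.Surjective F := by
    rintro ⟨y, hy⟩
    have : y ∈ ((Subgroup.zpowers x ⊔ H : Subgroup Γ) : Set Γ) := hy
    rw [h3] at this
    obtain ⟨a, ha, h, hh, rfl⟩ := this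
    obtain ⟨e, rfl⟩ := (mem_powers_iff_mem_zpowers (x := x)).mpr ha
    refine ⟨(⟨e % p, Nat.mod_lt _ hp⟩, ⟨(x ^ p) ^ (e / p) * h, mul_mem (pow_mem hx _) hh⟩),
      Subtype.ext ?_⟩
    change x ^ (e % p) * ((x ^ p) ^ (e / p) * h) = x ^ e * h
    rw [← mul_assoc, ← pow_mul, ← pow_add, Nat.mod_add_div]
  have := Nat.card_le_card_of_surjective F hF
  rwa [Nat.card_prod, Nat.card_fin] at this

theorem card_pc_le {Γ : Type u} [Group Γ] [Finite Γ] (x : ℕ → Γ) {p n : ℕ} (hp : 0 < p)
    (hc : ∀ i j, i < j → j < n → (x i)⁻¹ * x j * x i ∈ Subgroup.closure (x '' {y | i < y ∧ y < n}))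
    (hx : ∀ i < n, x i ^ p ∈ Subgroup.closure (x '' {y | i < y ∧ y < n})) :
    Nat.card (Subgroup.closure (x '' {y | y < n})) ≤ p ^ n := by
  have key : ∀ t ≤ n, Nat.card (Subgroup.closure (x '' {y | n - t ≤ y ∧ y < n})) ≤ p ^ t := by
    intro t
    induction t with
    | zero =>
      intro _
      have : x '' {y | n - 0 ≤ y ∧ y < n} = ∅ := by
        rw [Set.image_eq_empty]; ext y; simp
      rw [this, Subgroup.closure_empty]; simp
    | succ t ih =>
      intro ht
      have e1 : {y | n - t ≤ y ∧ y < n} = {y | n - (t + 1) < y ∧ y < n} := by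
        ext y; simp only [Set.mem_ofPred_eq]; omega
      have e2 : {y | n - (t + 1) ≤ y ∧ y < n} =
          {n - (t + 1)} ∪ {y | n - (t + 1) < y ∧ y < n} := by
        ext y; simp only [Set.mem_ofPred_eq, Set.mem_union, Set.mem_singleton_iff]; omega
      have h1 := ih (by omega)
      rw [e1] at h1
      rw [e2, Set.image_union, Subgroup.closure_union, Set.image_singleton,
        ← Subgroup.zpowers_eq_closure, pow_succ']
      refine (card_sup_zpowers_le _ hp (fun h hh => ?_) (hx _ (by omega))).trans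
        (Nat.mul_le_mul_left _ h1)
      induction hh using Subgroup.closure_induction with
      | mem y hy => obtain ⟨j, hj, rfl⟩ := hy; exact hc _ j hj.1 hj.2
      | one => simp
      | mul a b _ _ ha hb =>
        have := mul_mem ha hb
        simpa [mul_assoc] using this
      | inv a _ ha =>
        have := inv_mem ha
        simpa [mul_assoc] using this
  have := key n le_rfl
  simpa using this

end Cfsg.Agent.L0
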