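import Cfsg.Agent.L0.Pc

/-! Certificates for the `p`-part of the Schur multiplier: Sylow subgroup, consistency and fusion
constraints, linear algebra. -/

set_option autoImplicit false
set_option linter.style.haveILetI false
set_option linter.unusedVariables false

namespace Cfsg.Agent.L0

universe u

/-- a constraint: kind, two indices, a word, and the reduced label it kills -/
structure Con where
  tag : ℕ
  i : ℕ
  j : ℕ
  w : List ℕ
  w2 : List ℕ
  C : ℕ

/-- fusion data: left vectors, right vectors, conjugating letters -/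
structure Fus where
  U : List ℕ
  V : List ℕ
  F : List ℕ

namespace PcP
variable (P : PcP)

/-- number of power and conjugate relations -/
def nT : ℕ := tri 0 (P.n1 + 1)

/-- compare two collections -/
noncomputable def cmp (w1 w2 : List ℕ) (k : ℕ → ℕ → Bool) : Bool :=
  P.coll w1 fun v1 L1 => P.coll w2 fun v2 L2 => Nat.beq v1 v2 && k L1 L2

/-- the letters of a fusion word are in range and belong to the family `f` -/
noncomputable def fusW (fu : Fus) (f : ℕ) (w : List ℕ) : Bool :=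
  Nat.ble w.length P.K && allL w fun t => Nat.beq (nthN fu.F t) f && Nat.blt (Nat.add P.nT t) P.nU

/-- check of one constraint -/
noncomputable def conOk (fu : Fus) (c : Con) : Bool :=
  bndB' P.s P.msk P.m P.nU c.C &&
  Nat.rec (motive := fun _ => Bool)
    (Nat.blt c.i c.j && Nat.ble c.j P.n1 &&
      P.cmp (c.w ++ [pw P.b (P.n1 - c.j), pw P.b (P.n1 - c.i)])
        (c.w ++ [pw P.b (P.n1 - c.i), P.R c.i c.j]) fun L1 L2 => eqmU P.s P.msk P.m P.nU L1
          (Nat.add L2 (Nat.add c.C (unitV P.s (tri c.i c.j)))))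
    (fun t _ => Nat.rec (motive := fun _ => Bool)
      (Nat.ble c.i P.n1 &&
        P.cmp (c.w ++ List.replicate P.p (pw P.b (P.n1 - c.i))) (c.w ++ [P.R c.i c.i])
          fun L1 L2 => eqmU P.s P.msk P.m P.nU L1
            (Nat.add L2 (Nat.add c.C (unitV P.s (tri c.i c.i)))))
      (fun _ _ => P.fusW fu c.i c.w && P.fusW fu c.i c.w2 &&
        P.cmp (c.w.map (nthN fu.U)) (c.w2.map (nthN fu.U)) fun L1 L1' =>
          P.cmp (c.w.map (nthN fu.V)) (c.w2.map (nthN fu.V)) fun L2 L2' =>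
            eqmU P.s P.msk P.m P.nU
              (sumW (fun t => unitV P.s (Nat.add P.nT t)) c.w (Nat.add L2 L1'))
              (sumW (fun t => unitV P.s (Nat.add P.nT t)) c.w2 (Nat.add (Nat.add L2' L1) c.C))) t)
    c.tag

variable {Γ : Type u} [Group Γ] {A : Type u} [CommGroup A]

/-- hypotheses for the constraints -/
structure Hyp2 (fu : Fus) (x : ℕ → Γ) (ι : A →* Γ) (z : ℕ → A) : Prop extends P.Hyp x ι z where
  inj : Function.Injective ι
  zm : ∀ r, z r ^ P.m = 1
  msk : P.msk = 2 ^ P.s - 1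
  big : P.K + P.K + P.m + P.K < 2 ^ P.s
  fus : ∀ t, rval x P.b P.n1 (nthN fu.U t) * x (nthN fu.F t) =
    x (nthN fu.F t) * rval x P.b P.n1 (nthN fu.V t) * ι (z (P.nT + t))

variable {P} {fu : Fus} {x : ℕ → Γ} {ι : A →* Γ} {z : ℕ → A}

theorem fus_aux {a a' b b' y y' c : A} (e : b * a' * y = b' * a * c * y')
    (f : b * y * a⁻¹ = b' * y' * a'⁻¹) : c = 1 := by
  have h1 : b * a' * y = b' * a * y' := by
    rw [mul_inv_eq_iff_eq_mul, mul_right_comm (b' * y'), eq_mul_inv_iff_mul_eq] at f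
    rw [mul_right_comm b, f, mul_right_comm b']
  rw [h1, mul_right_cancel_iff] at e
  exact (left_eq_mul.mp e)

theorem K_pos : 0 < P.K := by unfold K; positivity

theorem cmp_spec (h : P.Hyp2 fu x ι z) {w1 w2 : List ℕ} {k : ℕ → ℕ → Bool}
    (hc : P.cmp w1 w2 k = true) :
    ∃ (g : Γ) (L1 L2 : ℕ), BndU P.s P.K L1 ∧ BndU P.s P.K L2 ∧
      ev (rval x P.b P.n1) w1 = g * ι (dc z P.s P.nU L1) ∧
      ev (rval x P.b P.n1) w2 = g * ι (dc z P.s P.nU L2) ∧ k L1 L2 = true := by
  have hK : P.K < 2 ^ P.s := by have := h.big; omega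
  obtain ⟨v1, L1, a1, a2, a3⟩ := coll_spec h.toHyp hK hc
  obtain ⟨v2, L2, b1, b2, b3⟩ := coll_spec h.toHyp hK a3
  simp only [Bool.and_eq_true, Nat.beq_eq] at b3
  obtain ⟨c1, c3⟩ := b3
  subst c1
  exact ⟨_, _, _, a1, b1, a2.symm, b2.symm, c3⟩

theorem ev_fus (h : P.Hyp2 fu x ι z) {f : ℕ} (w : List ℕ) (hw : ∀ t ∈ w, nthN fu.F t = f) :
    ev (rval x P.b P.n1) (w.map (nthN fu.U)) * x f =
      x f * ev (rval x P.b P.n1) (w.map (nthN fu.V)) * ι (ev (fun t => z (P.nT + t)) w) := by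
  induction w with
  | nil => simp
  | cons t w ih =>
    have h1 := h.fus t
    rw [hw t (by simp)] at h1
    simp only [List.map_cons, ev_cons, map_mul]
    rw [mul_assoc, ih (fun t ht => hw t (by simp [ht])), ← mul_assoc, ← mul_assoc, h1]
    simp only [mul_assoc]
    rw [← mul_assoc (ι (z _)), ← h.toHyp.comm (z _), mul_assoc]

theorem conOk_spec (h : P.Hyp2 fu x ι z) {c : Con} (hc : P.conOk fu c = true) :
    BndU P.s P.m c.C ∧ dc z P.s P.nU c.C = 1 := by
  unfold conOk at hc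
  rw [Bool.and_eq_true] at hc
  obtain ⟨h0, hc⟩ := hc
  have hb := bndB'_spec h.msk h0
  have hK := K_pos (P := P)
  have hbig := h.big
  refine ⟨hb, ?_⟩
  have unit : ∀ r L1 L2, r < P.nU → BndU P.s P.K L2 → eqmU P.s P.msk P.m P.nU L1
      (Nat.add L2 (Nat.add c.C (unitV P.s r))) = true →
      dc z P.s P.nU L1 = dc z P.s P.nU L2 * (dc z P.s P.nU c.C * z r) := fun r L1 L2 hr h2 h3 => by
    rw [eqmU_spec z h.msk h.zm h3, ← dc_unit z (n := P.nU) h.spos hr,
      ← dc_add z hb (bndU_unit h.spos r) (by omega)]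
    exact dc_add z h2 (hb.add (bndU_unit h.spos r) (by omega)) (by omega)
  have fin : ∀ {g : Γ} {a b y : A}, g * ι a = g * ι b * ι y → a = b * (dc z P.s P.nU c.C * y) →
      dc z P.s P.nU c.C = 1 := by
    intro g a b y h1 h2
    rw [mul_assoc, ← map_mul] at h1
    have h3 := h.inj (mul_left_cancel h1)
    rw [h2, mul_left_cancel_iff] at h3
    exact mul_eq_right.mp h3
  rcases ht : c.tag with _ | _ | t
  · rw [ht] at hc
    simp only [Nat.rec_zero, Bool.and_eq_true, Nat.blt_eq, Nat.ble_eq] at hc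
    obtain ⟨⟨h1, h2⟩, h3⟩ := hc
    have hr : tri c.i c.j < P.nU := lt_of_lt_of_le (tri_lt h1.le (by omega)) h.nU
    obtain ⟨g, L1, L2, _, a0, a1, a2, a4⟩ := cmp_spec h h3
    refine fin (g := g) ?_ (unit _ _ _ hr a0 a4)
    rw [← a1, ← a2]
    simp only [ev_append, ev_cons, ev_nil, mul_one, rval, rwd_pw h.bpos h2,
      rwd_pw h.bpos (h1.le.trans h2)]
    rw [h.conj _ _ h1 h2]
    simp only [rval, mul_assoc]
  · rw [ht] at hc
    change (Nat.ble c.i P.n1 && _) = true at hc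
    simp only [Bool.and_eq_true, Nat.ble_eq] at hc
    obtain ⟨h2, h3⟩ := hc
    have hr : tri c.i c.i < P.nU := lt_of_lt_of_le (tri_lt le_rfl (by omega)) h.nU
    obtain ⟨g, L1, L2, _, a0, a1, a2, a4⟩ := cmp_spec h h3
    refine fin (g := g) ?_ (unit _ _ _ hr a0 a4)
    rw [← a1, ← a2]
    have e : ev (rval x P.b P.n1) (List.replicate P.p (pw P.b (P.n1 - c.i))) = x c.i ^ P.p := by
      simp [ev, rval, rwd_pw h.bpos h2]
    simp only [ev_append, ev_cons, ev_nil, mul_one, e]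
    rw [h.pow _ h2, mul_assoc]
  · rw [ht] at hc
    change (P.fusW fu c.i c.w && P.fusW fu c.i c.w2 && _) = true at hc
    simp only [Bool.and_eq_true, fusW, Nat.ble_eq, allL_iff, Nat.beq_eq, Nat.blt_eq] at hc
    obtain ⟨⟨⟨h1, h2⟩, h1', h2'⟩, h3⟩ := hc
    obtain ⟨g, L1, L1', a1, a2, a3, a4, a5⟩ := cmp_spec h h3
    obtain ⟨g', L2, L2', b1, b2, b3, b4, b5⟩ := cmp_spec h a5
    obtain ⟨_, s2⟩ := sumW_spec z (n := P.nU) (fun t => unitV P.s (Nat.add P.nT t))
      (fun t => bndU_unit h.spos _) c.w (b1.add a2 (by omega)) (by omega)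
    obtain ⟨_, s2'⟩ := sumW_spec z (n := P.nU) (fun t => unitV P.s (Nat.add P.nT t))
      (fun t => bndU_unit h.spos _) c.w2 ((b2.add a1 (by omega)).add hb (by omega)) (by omega)
    have e := eqmU_spec z h.msk h.zm b5
    change dc z P.s P.nU (sumW _ c.w (L2 + L1')) = dc z P.s P.nU (sumW _ c.w2 (L2' + L1 + c.C)) at e
    rw [s2, s2', ev_congr (x := fun y => dc z P.s P.nU (unitV P.s (Nat.add P.nT y)))
      (x' := fun t => z (P.nT + t)) (fun t ht => dc_unit z h.spos (h2 t ht).2),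
      ev_congr (x := fun y => dc z P.s P.nU (unitV P.s (Nat.add P.nT y)))
      (x' := fun t => z (P.nT + t)) (fun t ht => dc_unit z h.spos (h2' t ht).2),
      dc_add z b1 a2 (by omega), dc_add z (b2.add a1 (by omega)) hb (by omega),
      dc_add z b2 a1 (by omega)] at e
    have f1 := ev_fus h c.w fun t ht => (h2 t ht).1
    have f2 := ev_fus h c.w2 fun t ht => (h2' t ht).1
    rw [a3, b3] at f1
    rw [a4, b4] at f2
    have f3 : ∀ {a b y : A}, g * ι a * x c.i = x c.i * (g' * ι b) * ι y →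
        g * x c.i = x c.i * g' * ι (b * y * a⁻¹) := by
      intro a b y h1
      rw [mul_assoc g, ← h.toHyp.comm, ← mul_assoc] at h1
      rw [map_mul, map_mul, map_inv, ← mul_assoc, eq_mul_inv_iff_mul_eq, h1]
      simp only [mul_assoc]
    have f4 := h.inj (mul_left_cancel ((f3 f1).symm.trans (f3 f2)))
    exact fus_aux e f4

variable (P)

/-- final check of the rule `(i, j)`, `i ≤ j` -/
noncomputable def finOk (lam : List ℕ) (ll : List (List ℕ)) (i j μ : ℕ) : Bool :=
  Nat.blt (P.R i j) (pw P.b (P.n1 - i)) && Nat.ble (rwd P.b P.n1 (P.R i j)).length P.K &&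
  lin2 P.m ll μ (Nat.add (unitV P.s (tri i j))
      (Bool.rec (motive := fun _ => ℕ) (nthN lam j) (Nat.mul P.p (nthN lam j)) (Nat.beq i j)))
    (fun acc => eqmU P.s P.msk P.m P.nU acc (sumW (nthN lam) (rwd P.b P.n1 (P.R i j)) 0))

/-- final checks of all rules `(i, j)` with the given `j` -/
noncomputable def finRow (lam : List ℕ) (ll MU : List (List ℕ)) (j : ℕ) : Bool :=
  allL (List.range (j + 1)) fun i => P.finOk lam ll i j (nthN (nthW MU j) i)

/-- the generators `bs` have order dividing `q` -/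
noncomputable def ordOk (q : ℕ) (ll : List (List ℕ)) (bs mo : List ℕ) : Bool :=
  allL (List.range bs.length) fun t =>
    lin2 P.m ll (nthN mo t) (Nat.mul q (nthN bs t)) fun acc => eqmU P.s P.msk P.m P.nU acc 0

/-- static conditions -/
noncomputable def statB (k : ℕ) (lam bs : List ℕ) (CV : List (List ℕ)) : Bool :=
  Nat.blt 0 P.b && Nat.blt 0 P.s && Nat.ble P.p (2 ^ P.b) && Nat.ble P.nT P.nU &&
  Nat.beq P.msk (2 ^ P.s - 1) && Nat.beq P.m (P.p ^ (k + 1)) &&
  Nat.blt (P.K + P.K + P.m + P.K) (2 ^ P.s) && Nat.blt (P.K * P.m) (2 ^ P.s) &&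
  Nat.blt (1 + P.m * P.m + ((bs :: CV).map List.length).sum * (P.m * P.m)) (2 ^ P.s) &&
  allL lam (bndB' P.s P.msk P.m P.nU) && allL bs (bndB' P.s P.msk P.m P.nU)

end PcP

theorem ev_mul_central {Γ : Type u} [Group Γ] {A : Type u} [CommGroup A] (x : ℕ → Γ) (ι : A →* Γ)
    (hc : ∀ a, ι a ∈ Subgroup.center Γ) (l : ℕ → A) (w : List ℕ) :
    ev (fun y => x y * ι (l y)) w = ev x w * ι (ev l w) := by
  induction w with
  | nil => simp
  | cons y w ih =>
    simp only [ev_cons, ih, map_mul, mul_assoc]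
    rw [← mul_assoc (ι (l y)), ← Subgroup.mem_center_iff.mp (hc (l y)), mul_assoc]

theorem comm_aux {A : Type u} [CommGroup A] (a b c d : A) :
    (a * (b * c))⁻¹ * (c * d) = (a * b)⁻¹ * d := by
  rw [← mul_assoc a, mul_inv_rev, mul_comm c⁻¹, mul_assoc, inv_mul_cancel_left]

theorem bnd_nthN {s msk m n : ℕ} (hm : msk = 2 ^ s - 1) {l : List ℕ}
    (h : allL l (bndB' s msk m n) = true) (j : ℕ) : BndU s m (nthN l j) := by
  rcases nthN_mem l j with h1 | h1
  · rw [h1]; exact bndU_zero _ _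
  · exact bndB'_spec hm ((allL_iff _ _).mp h _ h1)

/-- the main theorem -/
theorem pmult_of_cert {G : Type u} [Group G] [Finite G] (P : PcP) (hp : P.p.Prime) (x : ℕ → G)
    (fu : Fus) (k : ℕ) (lam bs mo : List ℕ) (CC : List (List Con)) (CV MU : List (List ℕ))
    (hconj : ∀ i j, i < j → j ≤ P.n1 → x j * x i = x i * rval x P.b P.n1 (P.R i j))
    (hpow : ∀ i, i ≤ P.n1 → x i ^ P.p = rval x P.b P.n1 (P.R i i))
    (hfus : ∀ t, rval x P.b P.n1 (nthN fu.U t) * x (nthN fu.F t) =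
      x (nthN fu.F t) * rval x P.b P.n1 (nthN fu.V t))
    (hcard : P.p ^ (P.n1 + 1) ≤ Nat.card (Subgroup.closure (x '' {y | y < P.n1 + 1})))
    (hN : ¬ P.p ^ (P.n1 + 2) ∣ Nat.card G)
    (hst : P.statB k lam bs CV = true)
    (hCV : CC.map (fun l => l.map Con.C) = CV)
    (hcon : ∀ l ∈ CC, allL l (P.conOk fu) = true)
    (hfin : ∀ j < P.n1 + 1, P.finRow lam (bs :: CV) MU j = true)
    (hord : P.ordOk (P.p ^ k) CV bs mo = true) : PMult G P.p k bs.length := by
  intro Γ _ _ σ hσ hm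
  simp only [PcP.statB, Bool.and_eq_true, Nat.blt_eq, Nat.ble_eq, Nat.beq_eq] at hst
  obtain ⟨⟨⟨⟨⟨⟨⟨⟨⟨⟨s1, s2⟩, s3⟩, s4⟩, s5⟩, s6⟩, s7⟩, s8⟩, s9⟩, s10⟩, s11⟩ := hst
  letI : CommGroup σ.ker :=
    { (inferInstance : Group σ.ker) with
      mul_comm := fun a b => Subtype.ext (Subgroup.mem_center_iff.mp (hσ.2.1 b.prop) a.val) }
  obtain ⟨X, hX⟩ : ∃ X : ℕ → Γ, ∀ i, σ (X i) = x i :=
    ⟨fun i => Function.surjInv hσ.1 (x i), fun i => Function.surjInv_eq _ _⟩
  have hr : ∀ v, σ (rval X P.b P.n1 v) = rval x P.b P.n1 v := fun v => by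
    simp only [rval, map_ev, hX]
  -- the tails
  let tl : ℕ × ℕ → Γ := fun q => if q.1 = q.2 then (rval X P.b P.n1 (P.R q.1 q.1))⁻¹ * X q.1 ^ P.p
    else (X q.1 * rval X P.b P.n1 (P.R q.1 q.2))⁻¹ * (X q.2 * X q.1)
  have htl : ∀ q : ℕ × ℕ, q.1 ≤ q.2 → q.2 ≤ P.n1 → tl q ∈ σ.ker := by
    intro q h1 h2
    rw [MonoidHom.mem_ker]
    by_cases h3 : q.1 = q.2
    · simp only [tl, if_pos h3, map_mul, map_inv, map_pow, hr, hX]
      rw [hpow _ (by omega), inv_mul_cancel]
    · simp only [tl, if_neg h3, map_mul, map_inv, hr, hX]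
      rw [hconj _ _ (by omega) h2, inv_mul_cancel]
  have hfa : ∀ t, (X (nthN fu.F t) * rval X P.b P.n1 (nthN fu.V t))⁻¹ *
      (rval X P.b P.n1 (nthN fu.U t) * X (nthN fu.F t)) ∈ σ.ker := fun t => by
    rw [MonoidHom.mem_ker]
    simp only [map_mul, map_inv, hr, hX]
    rw [hfus, inv_mul_cancel]
  classical
  let z : ℕ → σ.ker := fun r =>
    if h : ∃ q : ℕ × ℕ, q.1 ≤ q.2 ∧ q.2 ≤ P.n1 ∧ tri q.1 q.2 = r then
      ⟨tl h.choose, htl _ h.choose_spec.1 h.choose_spec.2.1⟩ else ⟨_, hfa (r - P.nT)⟩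
  have hz1 : ∀ i j, i ≤ j → j ≤ P.n1 → (z (tri i j)).val = tl (i, j) := by
    intro i j h1 h2
    have h : ∃ q : ℕ × ℕ, q.1 ≤ q.2 ∧ q.2 ≤ P.n1 ∧ tri q.1 q.2 = tri i j := ⟨(i, j), h1, h2, rfl⟩
    simp only [z, dif_pos h]
    have := tri_inj h.choose_spec.1 h1 h.choose_spec.2.2
    rw [show h.choose = (i, j) from Prod.ext this.1 this.2]
  have hz2 : ∀ t, (z (P.nT + t)).val = (X (nthN fu.F t) * rval X P.b P.n1 (nthN fu.V t))⁻¹ *
      (rval X P.b P.n1 (nthN fu.U t) * X (nthN fu.F t)) := by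
    intro t
    have h : ¬ ∃ q : ℕ × ℕ, q.1 ≤ q.2 ∧ q.2 ≤ P.n1 ∧ tri q.1 q.2 = P.nT + t := by
      rintro ⟨q, h1, h2, h3⟩
      have := tri_lt h1 (show q.2 < P.n1 + 1 by omega)
      unfold PcP.nT at h3
      omega
    simp only [z, dif_neg h, Nat.add_sub_cancel_left]
  have hcent : ∀ a, σ.ker.subtype a ∈ Subgroup.center Γ := fun a => hσ.2.1 a.prop
  have H : P.Hyp2 fu X σ.ker.subtype z :=
    { bpos := s1, spos := s2, ple := s3, nU := s4, cent := hcent
      conj := fun i j h1 h2 => by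
        rw [Subgroup.subtype_apply, hz1 i j h1.le h2]
        simp only [tl, if_neg h1.ne, mul_inv_cancel_left]
      pow := fun i h1 => by
        rw [Subgroup.subtype_apply, hz1 i i le_rfl h1]
        simp only [tl, if_true, mul_inv_cancel_left]
      inj := σ.ker.subtype_injective
      zm := fun r => Subtype.ext (by rw [s6]; exact hm _ (z r).prop)
      msk := s5, big := s7
      fus := fun t => by rw [Subgroup.subtype_apply, hz2, mul_inv_cancel_left] }
  have hm0 : 0 < P.m := by rw [s6]; exact pow_pos hp.pos _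
  have hCV1 : ∀ l ∈ CV, ∀ C ∈ l, BndU P.s P.m C ∧ dc z P.s P.nU C = 1 := by
    intro l hl C hC
    rw [← hCV] at hl
    obtain ⟨l', hl', rfl⟩ := List.mem_map.mp hl
    obtain ⟨c, hc, rfl⟩ := List.mem_map.mp hC
    exact PcP.conOk_spec H ((allL_iff _ _).mp (hcon l' hl') c hc)
  let B0 : Subgroup σ.ker :=
    Subgroup.closure ((fun t => dc z P.s P.nU (nthN bs t)) '' {t | t < bs.length})
  have hll : ∀ l ∈ bs :: CV, ∀ C ∈ l, BndU P.s P.m C ∧ dc z P.s P.nU C ∈ B0 := by
    intro l hl C hC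
    rcases List.mem_cons.mp hl with rfl | hl
    · refine ⟨bndB'_spec s5 ((allL_iff _ _).mp s11 C hC), Subgroup.subset_closure ?_⟩
      obtain ⟨t, ht, rfl⟩ := List.getElem_of_mem hC
      exact ⟨t, ht, by simp [nthN_eq, ht]⟩
    · exact ⟨(hCV1 l hl C hC).1, by rw [(hCV1 l hl C hC).2]; exact one_mem _⟩
  have hlam := bnd_nthN s5 s10
  have hpm : P.p ≤ P.m := by rw [s6]; exact Nat.le_self_pow (by omega) _
  have hpm2 : P.p * P.m ≤ P.m * P.m := Nat.mul_le_mul_right _ hpm
  have hm1 : P.m ≤ P.m * P.m := Nat.le_mul_of_pos_right _ hm0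
  -- the adjusted lifts
  let l : ℕ → σ.ker := fun i => dc z P.s P.nU (nthN lam i)
  have hfin' : ∀ i j, i ≤ j → j ≤ P.n1 → P.R i j < pw P.b (P.n1 - i) ∧
      (z (tri i j) * (if i = j then l j ^ P.p else l j))⁻¹ * ev l (rwd P.b P.n1 (P.R i j)) ∈ B0 := by
    intro i j h1 h2
    have h3 := (allL_iff _ _).mp (hfin j (by omega)) i (List.mem_range.mpr (by omega))
    simp only [PcP.finOk, Bool.and_eq_true, Nat.blt_eq, Nat.ble_eq] at h3
    obtain ⟨⟨a1, a2⟩, a3⟩ := h3
    refine ⟨a1, ?_⟩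
    have hrU : tri i j < P.nU := lt_of_lt_of_le (tri_lt h1 (by omega)) s4
    have hE : BndU P.s (P.m * P.m) (Bool.rec (motive := fun _ => ℕ) (nthN lam j)
        (Nat.mul P.p (nthN lam j)) (Nat.beq i j)) ∧ dc z P.s P.nU (Bool.rec (motive := fun _ => ℕ)
        (nthN lam j) (Nat.mul P.p (nthN lam j)) (Nat.beq i j)) =
        (if i = j then l j ^ P.p else l j) := by
      by_cases hij : i = j
      · rw [if_pos hij, hij, Nat.beq_refl]
        obtain ⟨b1, b2⟩ := dc_mul z (n := P.nU) (hlam j) P.p (by omega)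
        exact ⟨b1.mono hpm2, b2⟩
      · have hb : Nat.beq i j = false := by
          cases h : Nat.beq i j
          · rfl
          · exact absurd (Nat.eq_of_beq_eq_true h) hij
        rw [if_neg hij, hb]
        exact ⟨(hlam j).mono hm1, rfl⟩
    obtain ⟨acc, b1, b2⟩ := lin2_spec z hm0 B0 (bs :: CV) hll
      ((bndU_unit s2 (tri i j)).add hE.1 (by omega)) s9 a3
    have b3 := eqmU_spec z s5 H.zm b2
    obtain ⟨_, b4⟩ := sumW_spec z (n := P.nU) (nthN lam) hlam (rwd P.b P.n1 (P.R i j))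
      (bndU_zero P.s 0) (lt_of_le_of_lt (by simpa using Nat.mul_le_mul_right _ a2) s8)
    rw [b3, b4, dc_zero, one_mul, dc_add z (bndU_unit s2 _) hE.1 (by omega), dc_unit z s2 hrU,
      hE.2] at b1
    exact b1
  let B : Subgroup Γ := B0.map σ.ker.subtype
  have hB : B ≤ σ.ker := by rintro _ ⟨a, _, rfl⟩; exact a.prop
  haveI : B.Normal := normal_of_le_center (hB.trans hσ.2.1)
  let Y : ℕ → Γ ⧸ B := fun i => ((X i * σ.ker.subtype (l i) : Γ) : Γ ⧸ B)
  have hY : ∀ w, ev Y w = ((ev X w * σ.ker.subtype (ev l w) : Γ) : Γ ⧸ B) := fun w => by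
    rw [← ev_mul_central X _ hcent]
    exact (map_ev _ (QuotientGroup.mk' B) w).symm
  have hq : ∀ (g : Γ) (a b : σ.ker), a⁻¹ * b ∈ B0 →
      ((g * σ.ker.subtype a : Γ) : Γ ⧸ B) = ((g * σ.ker.subtype b : Γ) : Γ ⧸ B) := by
    intro g a b h
    rw [QuotientGroup.eq]
    exact ⟨_, h, by simp [mul_assoc]⟩
  have hmemY : ∀ i j, i ≤ j → j ≤ P.n1 → ev Y (rwd P.b P.n1 (P.R i j)) ∈
      Subgroup.closure (Y '' {y | i < y ∧ y < P.n1 + 1}) := fun i j h1 h2 =>
    ev_mem _ _ fun y hy => Subgroup.subset_closure ⟨y, by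
      have := rwd_letters s1 _ (hfin' i j h1 h2).1 y hy
      exact ⟨this.1, by omega⟩, rfl⟩
  have hcardQ := card_pc_le Y (n := P.n1 + 1) hp.pos (fun i j h1 h2 => by
      have h3 : ev Y [j, i] = ev Y (i :: rwd P.b P.n1 (P.R i j)) := by
        rw [hY, hY]
        simp only [ev_cons, ev_nil, mul_one]
        rw [H.conj i j h1 (by omega), mul_assoc, ← map_mul]
        refine hq _ _ _ ?_
        have := (hfin' i j h1.le (by omega)).2
        rw [if_neg h1.ne] at this
        rwa [comm_aux]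
      simp only [ev_cons, ev_nil, mul_one] at h3
      rw [mul_assoc, h3, inv_mul_cancel_left]
      exact hmemY i j h1.le (by omega))
    (fun i h1 => by
      have h3 : ev Y (List.replicate P.p i) = ev Y (rwd P.b P.n1 (P.R i i)) := by
        rw [hY, hY]
        simp only [ev, List.map_replicate, List.prod_replicate]
        rw [H.pow i (by omega), mul_assoc, ← map_mul]
        refine hq _ _ _ ?_
        have := (hfin' i i le_rfl (by omega)).2
        rwa [if_pos rfl] at this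
      simp only [ev, List.map_replicate, List.prod_replicate] at h3
      rw [h3]
      exact hmemY i i le_rfl (by omega))
  have hmap : (Subgroup.closure (Y '' {y | y < P.n1 + 1})).map (QuotientGroup.lift B σ hB) =
      Subgroup.closure (x '' {y | y < P.n1 + 1}) := by
    rw [MonoidHom.map_closure, Set.image_image]
    congr 2
    ext i
    simp [Y, hX, MonoidHom.mem_ker.mp (l i).prop]
  have hc1 : Nat.card (Subgroup.closure (x '' {y | y < P.n1 + 1})) = P.p ^ (P.n1 + 1) := by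
    refine le_antisymm ?_ hcard
    rw [← hmap]
    exact (Nat.card_le_card_of_surjective _ (MonoidHom.subgroupMap_surjective _ _)).trans hcardQ
  have hbot := ker_eq_bot_of_split (stem_quot hσ B hB) (m := P.p ^ (k + 1)) (fun a ha => by
      obtain ⟨y, rfl⟩ := QuotientGroup.mk_surjective a
      rw [← QuotientGroup.mk_pow, hm y ((mem_ker_quot B hB).mp ha), QuotientGroup.mk_one])
    (Subgroup.closure (Y '' {y | y < P.n1 + 1})) (by
      rw [hmap]
      refine Nat.Coprime.pow_right _ ((Nat.Prime.coprime_iff_not_dvd hp).mpr fun hd => hN ?_).symm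
      rw [← Subgroup.card_mul_index (Subgroup.closure (x '' {y | y < P.n1 + 1})), hc1, pow_succ]
      exact Nat.mul_dvd_mul_left _ hd)
    (by rw [hmap, hc1]; exact hcardQ)
  refine ⟨fun t => (dc z P.s P.nU (nthN bs t)).val, fun t => ⟨Subtype.prop _, ?_⟩, fun a ha => ?_⟩
  · by_cases ht : t < bs.length
    · have h3 := (allL_iff _ _).mp hord t (List.mem_range.mpr ht)
      have hk : P.p ^ k * P.m ≤ P.m * P.m := by
        refine Nat.mul_le_mul_right _ ?_
        rw [s6]; exact Nat.pow_le_pow_right hp.pos (by omega)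
      rw [List.map_cons, List.sum_cons, Nat.add_mul] at s9
      obtain ⟨b1, b2⟩ := dc_mul z (n := P.nU) (bnd_nthN s5 s11 t) (P.p ^ k) (by omega)
      obtain ⟨acc, c1, c2⟩ := lin2_spec z hm0 ⊥ CV (fun l hl C hC =>
        ⟨(hCV1 l hl C hC).1, (hCV1 l hl C hC).2⟩) (b1.mono hk) (by omega) h3
      rw [eqmU_spec z s5 H.zm c2, dc_zero, mul_one, Subgroup.mem_bot, inv_eq_one] at c1
      have := congrArg Subtype.val (b2.symm.trans c1)
      simpa using this
    · beta_reduce
      rw [nthN_eq, List.getD_eq_default _ _ (not_lt.mp ht), dc_zero]; simp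
  · have h1 : (a : Γ ⧸ B) ∈ (QuotientGroup.lift B σ hB).ker := (mem_ker_quot B hB).mpr ha
    rw [hbot, Subgroup.mem_bot, QuotientGroup.eq_one_iff] at h1
    have h2 : B = Subgroup.closure ((fun t => (dc z P.s P.nU (nthN bs t)).val) ''
        {t | t < bs.length}) := by
      simp only [B, B0]
      rw [MonoidHom.map_closure, Set.image_image]; rfl
    rwa [h2] at h1

/-! ### the relations read off from a permutation table -/

/-- a chain of list levels -/
noncomputable def chainL (T : ℕ → ℕ → ℕ) (N n : ℕ)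
    (lv : List (List (List ℕ) × ℕ × List (ℕ × List ℕ))) : List ℕ → Bool :=
  List.rec (motive := fun _ => List ℕ → Bool) (fun _ => true)
    (fun q _ ih pre => lettersB n q.1 && RAct.fixB T q.1 pre && Nat.blt q.2.1 N &&
      RAct.levL (dT T q.1) N q.2.1 q.2.2 0 && ih (q.2.1 :: pre)) lv

theorem chainL_spec {G : Type u} [Group G] {N : ℕ} {A : RAct G N} {x : ℕ → G} {n : ℕ}
    {T : ℕ → ℕ → ℕ} (h : A.Tab x n T) {H : Subgroup G} (hH : ∀ y < n, x y ∈ H)
    (lv : List (List (List ℕ) × ℕ × List (ℕ × List ℕ))) : ∀ {pre : List ℕ},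
    chainL T N n lv pre = true → ∃ l, A.Chain H pre l ∧ l.map Prod.fst = lv.map (fun q => q.2.1) ∧
      RAct.chainProd l = (lv.map fun q => q.2.2.length).prod := by
  induction lv with
  | nil => intro pre _; exact ⟨[], trivial, rfl, rfl⟩
  | cons q lv ih =>
    intro pre hc
    have e : chainL T N n (q :: lv) pre = (lettersB n q.1 && RAct.fixB T q.1 pre &&
      Nat.blt q.2.1 N && RAct.levL (dT T q.1) N q.2.1 q.2.2 0 && chainL T N n lv (q.2.1 :: pre)) := rfl
    rw [e] at hc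
    simp only [Bool.and_eq_true, Nat.blt_eq] at hc
    obtain ⟨⟨⟨⟨a1, a2⟩, a3⟩, a4⟩, a5⟩ := hc
    obtain ⟨l, b1, b2, b3⟩ := ih a5
    obtain ⟨c1, c2⟩ := h.lev_list a1
      (fun w hw => ev_mem _ _ fun y hy => hH y (lettersB_spec a1 w hw y hy)) a2 a3 a4
    refine ⟨(q.2.1, (q.2.2.map Prod.fst).toFinset) :: l, ⟨c1, b1⟩, by simp [b2], ?_⟩
    simp only [RAct.chainProd, List.map_cons, List.prod_cons] at b3 ⊢
    rw [b3, c2]

/-- two words agree on the points of `l` -/
noncomputable def eqW (T : ℕ → ℕ → ℕ) (l u v : List ℕ) : Bool :=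
  allL l fun b => Nat.beq (tr T u b) (tr T v b)

theorem eqW_spec {G : Type u} [Group G] {N : ℕ} {A : RAct G N} {base : List ℕ} (hb : A.IsBase base)
    {g : ℕ → G} {k : ℕ} {T : ℕ → ℕ → ℕ} (h : A.Tab g k T) {W : List (List ℕ)}
    (hW : lettersB k W = true) {u v : List ℕ} (hf : eqW (dT T W) base u v = true) :
    ev (dG g W) u = ev (dG g W) v :=
  hb.eq_of_act fun c hl hc => by
    rw [h.act_ev_derive hW _ hc, h.act_ev_derive hW _ hc]
    exact Nat.eq_of_beq_eq_true ((allL_iff _ _).mp hf c hl)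

/-- the relations `(i, j)` with the given `j` hold on the base -/
noncomputable def PcP.relRow (P : PcP) (T : ℕ → ℕ → ℕ) (base : List ℕ) (j : ℕ) : Bool :=
  eqW T base (List.replicate P.p j) (rwd P.b P.n1 (P.R j j)) &&
  allL (List.range j) fun i => eqW T base [j, i] (i :: rwd P.b P.n1 (P.R i j))

/-- the fusion relation number `t` holds on the base -/
noncomputable def PcP.fusOk (P : PcP) (T : ℕ → ℕ → ℕ) (base : List ℕ) (fu : Fus) (t : ℕ) : Bool :=
  eqW T base (rwd P.b P.n1 (nthN fu.U t) ++ [nthN fu.F t])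
    (nthN fu.F t :: rwd P.b P.n1 (nthN fu.V t))

theorem pmult_of_tab {G : Type u} [Group G] [Finite G] {N : ℕ} {A : RAct G N} {base : List ℕ}
    (hb : A.IsBase base) {g : ℕ → G} {kk : ℕ} {T : ℕ → ℕ → ℕ} (h : A.Tab g kk T)
    {ord : ℕ} (hord' : Nat.card G = ord) (P : PcP) (hp : P.p.Prime) (W : List (List ℕ))
    (fu : Fus) (k : ℕ) (lam bs mo : List ℕ) (CC : List (List Con)) (CV MU : List (List ℕ))
    (lv : List (List (List ℕ) × ℕ × List (ℕ × List ℕ))) (nF : ℕ)
    (hW : lettersB kk W = true)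
    (hrel : ∀ j < P.n1 + 1, P.relRow (dT T W) base j = true)
    (hnF : (Nat.ble fu.U.length nF && Nat.ble fu.V.length nF) = true)
    (hfus : ∀ t < nF, P.fusOk (dT T W) base fu t = true)
    (hch : chainL (dT T W) N (P.n1 + 1) lv [] = true)
    (hprod : (Nat.ble (P.p ^ (P.n1 + 1)) (lv.map fun q => q.2.2.length).prod &&
      !(Nat.beq (ord % P.p ^ (P.n1 + 2)) 0)) = true)
    (hst : P.statB k lam bs CV = true)
    (hCV : CC.map (fun l => l.map Con.C) = CV)
    (hcon : ∀ l ∈ CC, allL l (P.conOk fu) = true)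
    (hfin : ∀ j < P.n1 + 1, P.finRow lam (bs :: CV) MU j = true)
    (hord : P.ordOk (P.p ^ k) CV bs mo = true) : PMult G P.p k bs.length := by
  simp only [Bool.and_eq_true, Nat.ble_eq, Bool.not_eq_true'] at hnF hprod
  refine pmult_of_cert P hp (dG g W) fu k lam bs mo CC CV MU ?_ ?_ ?_ ?_ ?_ hst hCV hcon hfin hord
  · intro i j h1 h2
    have h3 := hrel j (by omega)
    simp only [PcP.relRow, Bool.and_eq_true] at h3
    simpa [rval] using eqW_spec hb h hW ((allL_iff _ _).mp h3.2 i (List.mem_range.mpr h1))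
  · intro i h1
    have h3 := hrel i (by omega)
    simp only [PcP.relRow, Bool.and_eq_true] at h3
    have := eqW_spec hb h hW h3.1
    simpa [rval, ev] using this
  · intro t
    by_cases ht : t < nF
    · simpa [rval] using eqW_spec hb h hW (hfus t ht)
    · rw [nthN_eq fu.U, nthN_eq fu.V, List.getD_eq_default _ _ (by omega),
        List.getD_eq_default _ _ (by omega)]
      simp [rval, rwd_zero]
  · obtain ⟨l, b1, _, b3⟩ := chainL_spec (h.derive hW (P.n1 + 1))
      (H := Subgroup.closure (dG g W '' {y | y < P.n1 + 1}))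
      (fun y hy => Subgroup.subset_closure ⟨y, hy, rfl⟩) lv hch
    exact hprod.1.trans (b3 ▸ b1.prod_le_card)
  · rw [hord']
    intro hd
    have := hprod.2
    rw [Nat.mod_eq_zero_of_dvd hd] at this
    exact absurd this (by simp)

end Cfsg.Agent.L0
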