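import Cfsg.Agent.L0.CoxPres

/-! Relators with central values vanish when the multiplier is trivial; commuting words. -/

set_option autoImplicit false

namespace Cfsg.Agent.L0

open scoped commutatorElement

universe u v

theorem finite_of_perfect_central {H : Type u} {G : Type v} [Group H] [Group G] [Finite G]
    (σ : H →* G) (hc : σ.ker ≤ Subgroup.center H) (hp : commutator H = ⊤) : Finite H := by
  let s : G → H := Function.invFun σ
  have hs : ∀ g : H, ∃ z ∈ Subgroup.center H, g = s (σ g) * z := fun g =>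
    ⟨(s (σ g))⁻¹ * g, hc (by
      rw [MonoidHom.mem_ker, map_mul, map_inv, Function.invFun_eq (f := σ) ⟨g, rfl⟩,
        inv_mul_cancel]),
      by simp⟩
  have : Finite (commutatorSet H) := by
    refine Set.Finite.subset (Set.finite_range fun p : G × G => ⁅s p.1, s p.2⁆) ?_
    rintro _ ⟨a, b, rfl⟩
    refine ⟨(σ a, σ b), ?_⟩
    obtain ⟨z, hz, ha⟩ := hs a
    obtain ⟨w, hw, hb⟩ := hs b
    have h1 := Subgroup.mem_center_iff.mp hz
    have h2 := Subgroup.mem_center_iff.mp hw
    change ⁅s (σ a), s (σ b)⁆ = ⁅a, b⁆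
    generalize s (σ a) = a' at ha ⊢
    generalize s (σ b) = b' at hb ⊢
    subst ha hb
    simp only [commutatorElement_def, mul_inv_rev]
    have e1 : ∀ g, z * g * z⁻¹ = g := fun g => by rw [← h1, mul_inv_cancel_right]
    have e2 : ∀ g, w * g * w⁻¹ = g := fun g => by rw [← h2, mul_inv_cancel_right]
    calc a' * b' * a'⁻¹ * b'⁻¹ = a' * (z * (b' * w) * z⁻¹) * w⁻¹ * (w * a'⁻¹ * w⁻¹) * b'⁻¹ := by
          rw [e1, e2]; group
      _ = a' * (z * (b' * w) * z⁻¹) * a'⁻¹ * w⁻¹ * b'⁻¹ := by group
      _ = _ := by group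
  have h3 : Finite (commutator H) := inferInstance
  rw [hp] at h3
  exact Finite.of_equiv _ Subgroup.topEquiv.toEquiv

/-- the integer combination `L` of the relators leaves just the letter `i` -/
def unitExp (k : ℕ) (R : List (List ℕ)) (i : ℕ) (L : List (ℤ × ℕ)) : Bool :=
  zeroExp k ([i] :: R) ((-1, 0) :: L.map fun p => (p.1, p.2 + 1)) &&
    L.all fun p => decide (p.2 < R.length)

theorem eq_one_of_unitExp {B : Type u} [CommGroup B] (b : ℕ → B) {k : ℕ} {R : List (List ℕ)}
    (hk : lettersLt k R = true) (hR : ∀ r ∈ R, ev b r = 1) {i : ℕ} (hi : i < k) {L : List (ℤ × ℕ)}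
    (h : unitExp k R i L = true) : b i = 1 := by
  simp only [unitExp, Bool.and_eq_true, List.all_eq_true, decide_eq_true_eq] at h
  have h1 := prod_zeroExp b (R := [i] :: R) (by
    rw [lettersLt_iff] at hk ⊢
    intro r hr
    rcases List.mem_cons.mp hr with rfl | hr
    · simpa using hi
    · exact hk r hr) h.1
  rw [List.map_cons, List.prod_cons, List.map_map, List.prod_eq_one fun g hg => by
    obtain ⟨p, hp, rfl⟩ := List.mem_map.mp hg
    have := h.2 p hp
    simp only [Function.comp_apply, List.getD_cons_succ]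
    rw [hR _ (by rw [List.getD_eq_getElem _ _ this]; exact List.getElem_mem this), one_zpow]] at h1
  simpa using h1

/-- the letters as elements of the subgroup they generate -/
noncomputable def genLet {Ω : Type u} [Group Ω] (y : ℕ → Ω) (k i : ℕ) : genL y (List.range k) :=
  if hi : i < k then ⟨y i, mem_genL y (List.mem_range.mpr hi)⟩ else 1

theorem genLet_ev {Ω : Type u} [Group Ω] (y : ℕ → Ω) {k : ℕ} {w : List ℕ} (hw : ∀ i ∈ w, i < k) :
    (ev (genLet y k) w).val = ev y w := by
  rw [← (genL y (List.range k)).subtype_apply, map_ev]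
  exact ev_congr fun i hi => by simp [genLet, hw i hi]

theorem genLet_top {Ω : Type u} [Group Ω] {y : ℕ → Ω} {k : ℕ} {K : Subgroup (genL y (List.range k))}
    (h : ∀ i < k, genLet y k i ∈ K) : K = ⊤ := by
  rw [eq_top_iff]
  intro g _
  have : genL y (List.range k) ≤ K.map (genL y (List.range k)).subtype := genL_le fun i hi =>
    ⟨_, h i (List.mem_range.mp hi), by simp [genLet, List.mem_range.mp hi]⟩
  obtain ⟨z, hz, e⟩ := this g.prop
  rwa [← Subtype.ext e]

theorem perfect_genL {Ω : Type u} [Group Ω] {y : ℕ → Ω} {k : ℕ} {R : List (List ℕ)}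
    (hk : lettersLt k R = true) (hR : ∀ r ∈ R, ev y r = 1) {Ls : List (List (ℤ × ℕ))}
    (hL : ((List.range k).all fun i => unitExp k R i (Ls.getD i [])) = true) :
    commutator (genL y (List.range k)) = ⊤ :=
  genLet_top fun i hi => by
    rw [← Abelianization.ker_of, MonoidHom.mem_ker]
    refine eq_one_of_unitExp (fun i => Abelianization.of (genLet y k i)) hk (fun r hr => ?_) hi
      (List.all_eq_true.mp hL i (List.mem_range.mpr hi))
    rw [← map_ev, show ev (genLet y k) r = 1 from
      Subtype.ext ((genLet_ev y (lettersLt_iff.mp hk r hr)).trans (hR r hr)), map_one]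

theorem rel_of_trivial {G : Type u} [Group G] [Finite G] {x : ℕ → G} {k : ℕ} {R : List (List ℕ)}
    (hP : IsPres x k R) (hM : UpperMult G (Multiplicative (ZMod 1))) {Γ : Type u} [Group Γ]
    (y : ℕ → Γ) (hc : ∀ r ∈ R, ∀ i < k, Commute (ev y r) (y i)) {R1 : List (List ℕ)}
    (h1 : ∀ r ∈ R1, ev y r = 1) (h2 : ∀ r ∈ R1, r ∈ R) {Ls : List (List (ℤ × ℕ))}
    (hL : ((List.range k).all fun i => unitExp k R1 i (Ls.getD i [])) = true) :
    ∀ r ∈ R, ev y r = 1 := by
  let y' : ℕ → Γ × G := fun i => (y i, x i)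
  have e : ∀ r ∈ R, ev y' r = (ev y r, 1) := fun r hr =>
    Prod.ext (map_ev _ (MonoidHom.fst Γ G) _) ((map_ev _ (MonoidHom.snd Γ G) _).trans (hP.rel r hr))
  let H := genL y' (List.range k)
  let σ : H →* G := (MonoidHom.snd Γ G).comp H.subtype
  have hp : commutator H = ⊤ := perfect_genL (R := R1)
    (lettersLt_iff.mpr fun r hr => lettersLt_iff.mp hP.lt r (h2 r hr))
    (fun r hr => by rw [e r (h2 r hr), h1 r hr]; rfl) hL
  obtain ⟨f, hf⟩ := hP.exists_hom
    (fun i => (QuotientGroup.mk' (Subgroup.center H)) (genLet y' k i)) (fun r hr => by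
      rw [← map_ev, QuotientGroup.mk'_apply, QuotientGroup.eq_one_iff]
      have : Subgroup.centralizer {ev (genLet y' k) r} = ⊤ := genLet_top fun i hi => by
        rw [Subgroup.mem_centralizer_singleton_iff]
        refine Subtype.ext ?_
        rw [Subgroup.coe_mul, Subgroup.coe_mul, genLet_ev y' (lettersLt_iff.mp hP.lt r hr), e r hr]
        simp only [genLet, dif_pos hi]
        exact Prod.ext (hc r hr i hi).symm (by simp)
      rw [Subgroup.mem_center_iff]
      intro g
      exact Subgroup.mem_centralizer_singleton_iff.mp (this ▸ Subgroup.mem_top g))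
  have key : f.comp σ = QuotientGroup.mk' (Subgroup.center H) := by
    have : MonoidHom.eqLocus (f.comp σ) (QuotientGroup.mk' (Subgroup.center H)) = ⊤ :=
      genLet_top fun i hi => by
        change f (σ (genLet y' k i)) = _
        rw [← hf i hi]
        simp [σ, genLet, hi, y']
    ext g
    exact (this ▸ Subgroup.mem_top g : g ∈ MonoidHom.eqLocus _ _)
  have hk : σ.ker ≤ Subgroup.center H := fun g hg => by
    have := DFunLike.congr_fun key g
    rw [MonoidHom.comp_apply, show σ g = 1 from hg, map_one, eq_comm, QuotientGroup.mk'_apply,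
      QuotientGroup.eq_one_iff] at this
    exact this
  haveI := finite_of_perfect_central σ hk hp
  have hs : Function.Surjective σ := by
    rw [← MonoidHom.range_eq_top, eq_top_iff, ← hP.gen_top]
    exact genL_le fun i hi => ⟨⟨y' i, mem_genL y' hi⟩, rfl⟩
  obtain ⟨π, hπ⟩ := hM H σ ⟨hs, hk, by rw [hp]; exact le_top⟩
  intro r hr
  have h3 := genLet_ev y' (lettersLt_iff.mp hP.lt r hr)
  rw [e r hr] at h3
  obtain ⟨a, ha⟩ := hπ ⟨ev (genLet y' k) r, congrArg Prod.snd h3⟩
  rw [Subsingleton.elim a 1, map_one] at ha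
  have h4 := congrArg (fun g => g.val.val.1) ha
  simp only [h3] at h4
  exact h4.symm

/-! ### commuting words -/

section
variable {Γ : Type u} [Group Γ] {x : ℕ → Γ}

theorem commute_ev {c : Γ} {w : List ℕ} (h : ∀ a ∈ w, Commute c (x a)) : Commute c (ev x w) := by
  induction w with
  | nil => simp
  | cons a w ih => rw [ev_cons]; exact (h a (by simp)).mul_right (ih fun b hb => h b (by simp [hb]))

theorem ev_mul_commuting {c : Γ} {w : List ℕ} (h : ∀ a ∈ w, Commute c (x a)) :
    ev (fun i => x i * c) w = ev x w * c ^ w.length := by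
  induction w with
  | nil => simp
  | cons a w ih =>
    have h1 := fun b hb => h b (List.mem_cons_of_mem a hb)
    rw [ev_cons, ev_cons, ih h1, List.length_cons, pow_succ', mul_assoc, mul_assoc,
      ← mul_assoc c, (commute_ev h1).eq, mul_assoc]

theorem ev_reverse {w : List ℕ} (h : ∀ a ∈ w, x a * x a = 1) : ev x w.reverse = (ev x w)⁻¹ := by
  induction w with
  | nil => simp
  | cons a w ih =>
    rw [List.reverse_cons, ev_append, ih fun b hb => h b (by simp [hb]), ev_singleton, ev_cons,
      mul_inv_rev, ← eq_inv_of_mul_eq_one_left (h a (by simp))]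

theorem commute_of_rel {a b : ℕ} (ha : x a * x a = 1) (hb : x b * x b = 1)
    (h : ev x [a, b, a, b] = 1) : Commute (x a) (x b) := by
  have h1 : x a * x b * (x a * x b) = 1 := by simpa [mul_assoc] using h
  rw [Commute, SemiconjBy, eq_inv_of_mul_eq_one_left h1, mul_inv_rev,
    ← eq_inv_of_mul_eq_one_left ha, ← eq_inv_of_mul_eq_one_left hb]

/-- `z` commutes with the conjugate `b` of `a` by `v` if `v z v⁻¹` commutes with `a` -/
theorem commute_conj {a b : ℕ} {v z : List ℕ} (hv : ∀ i ∈ v, x i * x i = 1) (hb : x b * x b = 1)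
    (h1 : ev x (v.reverse ++ [a] ++ v ++ [b]) = 1) (h2 : Commute (x a) (ev x (v ++ z ++ v.reverse))) :
    Commute (ev x z) (x b) := by
  simp only [ev_append, ev_reverse hv, ev_singleton] at h1 h2
  rw [eq_inv_of_mul_eq_one_left hb, ← eq_inv_of_mul_eq_one_left h1]
  have := h2.eq
  rw [Commute, SemiconjBy]
  calc ev x z * ((ev x v)⁻¹ * x a * ev x v)
      = (ev x v)⁻¹ * (ev x v * ev x z * (ev x v)⁻¹ * x a) * ev x v := by group
    _ = _ := by rw [← this]; group

end

end Cfsg.Agent.L0
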